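import Cfsg.Prelude.Def_Local
import Mathlib.GroupTheory.Nilpotent
import Mathlib.GroupTheory.NoncommPiCoprod

/-!
Elementary facts on `pCore`, `pPrimeCore` and the Fitting subgroup of a finite group.
-/

set_option linter.style.haveILetI false

namespace Cfsg.Lib.Components

open Subgroup

variable {G : Type*} [Group G]

theorem sSup_induction_normal [Finite G] (P : Subgroup G → Prop) (hbot : P ⊥)
    (hsup : ∀ N M : Subgroup G, N.Normal → M.Normal → P N → P M → P (N ⊔ M))
    (s : Set (Subgroup G)) (hs : ∀ N ∈ s, N.Normal ∧ P N) : (sSup s).Normal ∧ P (sSup s) := by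
  have hfin : s.Finite := Set.toFinite s
  induction s, hfin using Set.Finite.induction_on with
  | empty => rw [sSup_empty]; exact ⟨inferInstance, hbot⟩
  | @insert a t _ _ ih =>
    obtain ⟨hn, hp⟩ := ih fun N hN => hs N (Set.mem_insert_of_mem _ hN)
    obtain ⟨han, hap⟩ := hs a (Set.mem_insert _ _)
    rw [sSup_insert]
    exact ⟨sup_normal a (sSup t), hsup _ _ han hn hap hp⟩

theorem pCore_normal_and_isPGroup [Finite G] (p : ℕ) :
    (pCore p G).Normal ∧ IsPGroup p (pCore p G) := by
  refine sSup_induction_normal (fun N => IsPGroup p N) IsPGroup.of_bot ?_ _ (fun N hN => hN)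
  intro N M hN hM h1 h2
  exact h1.to_sup_of_normal_left h2

theorem normal_of_mem_sSup_normal {s : Set (Subgroup G)} (hs : ∀ N ∈ s, N.Normal) :
    (sSup s).Normal := by
  rw [sSup_eq_iSup']
  haveI : ∀ N : s, (N : Subgroup G).Normal := fun N => hs N.1 N.2
  exact iSup_normal _

instance pCore_normal' (p : ℕ) : (pCore p G).Normal :=
  normal_of_mem_sSup_normal fun _ hN => hN.1

instance pPrimeCore_normal' (p : ℕ) : (pPrimeCore p G).Normal :=
  normal_of_mem_sSup_normal fun _ hN => hN.1

instance fittingSubgroup_normal' : (fittingSubgroup G).Normal :=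
  normal_of_mem_sSup_normal fun _ hN => hN.1

theorem isPGroup_pCore [Finite G] (p : ℕ) : IsPGroup p (pCore p G) :=
  (pCore_normal_and_isPGroup p).2

theorem le_pCore {p : ℕ} {N : Subgroup G} [hn : N.Normal] (h : IsPGroup p N) : N ≤ pCore p G :=
  le_sSup ⟨hn, h⟩

theorem card_sup_dvd_mul (N M : Subgroup G) [N.Normal] :
    Nat.card ↥(N ⊔ M) ∣ Nat.card N * Nat.card M := by
  have h : (⊥ : Subgroup G).relIndex N * N.relIndex (N ⊔ M) = (⊥ : Subgroup G).relIndex (N ⊔ M) :=
    relIndex_mul_relIndex _ _ _ bot_le le_sup_left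
  rw [relIndex_bot_left, relIndex_bot_left] at h
  rw [← h, relIndex_sup_left]
  exact Nat.mul_dvd_mul_left _ (Subgroup.relIndex_dvd_card N M)

theorem coprime_card_pPrimeCore [Finite G] (p : ℕ) : (Nat.card (pPrimeCore p G)).Coprime p := by
  refine (sSup_induction_normal (fun N => (Nat.card N).Coprime p) ?_ ?_ _ (fun N hN => hN)).2
  · simp
  · intro N M hN hM h1 h2
    exact Nat.Coprime.coprime_dvd_left (card_sup_dvd_mul N M) (h1.mul_left h2)

theorem le_pPrimeCore {p : ℕ} {N : Subgroup G} [hn : N.Normal] (h : (Nat.card N).Coprime p) :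
    N ≤ pPrimeCore p G :=
  le_sSup ⟨hn, h⟩

theorem le_fitting {N : Subgroup G} [hn : N.Normal] (h : Group.IsNilpotent N) :
    N ≤ fittingSubgroup G :=
  le_sSup ⟨hn, h⟩

/-- the join of the `O_p` over the prime divisors of the group order -/
theorem iSup_pCore_le_fitting [Finite G] :
    (⨆ p : {p : ℕ // p.Prime}, pCore p.1 G) ≤ fittingSubgroup G := by
  refine iSup_le fun p => ?_
  haveI := Fact.mk p.2
  exact le_fitting (isPGroup_pCore p.1).isNilpotent

theorem nilpotent_normal_le_iSup_pCore [Finite G] {N : Subgroup G} [N.Normal]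
    (hN : Group.IsNilpotent N) : N ≤ ⨆ p : {p : ℕ // p.Prime}, pCore p.1 G := by
  have htop : (⊤ : Subgroup N) ≤ ⨆ p : {p : ℕ // p.Prime}, (pCore p.1 G).subgroupOf N := by
    refine le_of_le_of_eq ?_ rfl
    set T := ⨆ p : {p : ℕ // p.Prime}, (pCore p.1 G).subgroupOf N with hT
    have hdvd : ∀ q : ℕ, q.Prime → ∀ k, q ^ k ∣ Nat.card N → q ^ k ∣ Nat.card T := by
      intro q hq k hk
      haveI := Fact.mk hq
      obtain ⟨Q⟩ := (inferInstance : Nonempty (Sylow q N))
      have hQn : (Q : Subgroup N).Normal := inferInstance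
      haveI hc : (Q : Subgroup N).Characteristic := Sylow.characteristic_of_normal Q hQn
      haveI : ((Q : Subgroup N).map N.subtype).Normal := inferInstance
      have h1 : (Q : Subgroup N).map N.subtype ≤ pCore q G :=
        le_pCore (Q.2.map _)
      have h2 : (Q : Subgroup N) ≤ T := by
        refine le_trans ?_ (le_iSup (fun p : {p : ℕ // p.Prime} => (pCore p.1 G).subgroupOf N) ⟨q, hq⟩)
        rw [subgroupOf, ← map_le_iff_le_comap]
        exact h1
      exact dvd_trans (Q.pow_dvd_card_of_pow_dvd_card hk) (Subgroup.card_dvd_of_le h2)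
    have hc : Nat.card N ∣ Nat.card T := by
      rw [Nat.dvd_iff_prime_pow_dvd_dvd]
      intro q k hq hk
      exact hdvd q hq k hk
    have : T = ⊤ := Subgroup.eq_top_of_card_eq T
      (Nat.dvd_antisymm (Subgroup.card_subgroup_dvd_card T) hc)
    rw [this]
  have := Subgroup.map_mono (f := N.subtype) htop
  rw [← MonoidHom.range_eq_map, Subgroup.range_subtype, Subgroup.map_iSup] at this
  refine this.trans (iSup_mono fun p => ?_)
  rw [subgroupOf_map_subtype]
  exact inf_le_left

theorem fitting_eq_iSup_pCore [Finite G] :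
    fittingSubgroup G = ⨆ p : {p : ℕ // p.Prime}, pCore p.1 G := by
  refine le_antisymm (sSup_le fun N hN => ?_) iSup_pCore_le_fitting
  haveI := hN.1
  exact nilpotent_normal_le_iSup_pCore hN.2

theorem pCore_commute [Finite G] {p q : ℕ} [Fact p.Prime] [Fact q.Prime] (h : p ≠ q)
    (x y : G) (hx : x ∈ pCore p G) (hy : y ∈ pCore q G) : Commute x y :=
  Subgroup.commute_of_normal_of_disjoint _ _ inferInstance inferInstance
    (IsPGroup.disjoint_of_ne p q h _ _ (isPGroup_pCore p) (isPGroup_pCore q)) x y hx hy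

theorem isNilpotent_iSup_pCore [Finite G] (s : Finset ℕ) (hs : ∀ p ∈ s, p.Prime) :
    Group.IsNilpotent ↥(⨆ p : ↥s, pCore (p : ℕ) G) := by
  have hcomm : Pairwise fun i j : ↥s =>
      ∀ x y : G, x ∈ pCore (i : ℕ) G → y ∈ pCore (j : ℕ) G → Commute x y := by
    intro i j hij x y hx hy
    haveI := Fact.mk (hs i i.2)
    haveI := Fact.mk (hs j j.2)
    exact pCore_commute (fun h => hij (Subtype.ext h)) x y hx hy
  haveI : ∀ i : ↥s, Group.IsNilpotent ↥(pCore (i : ℕ) G) := fun i => by
    haveI := Fact.mk (hs i i.2)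
    exact (isPGroup_pCore (i : ℕ)).isNilpotent
  let f := Subgroup.noncommPiCoprod hcomm
  have hr : f.range = ⨆ p : ↥s, pCore (p : ℕ) G := Subgroup.noncommPiCoprod_range
  rw [← hr]
  exact Group.nilpotent_of_surjective f.rangeRestrict f.rangeRestrict_surjective

theorem pCore_eq_bot_of_not_dvd [Finite G] {p : ℕ} [Fact p.Prime] (h : ¬ p ∣ Nat.card G) :
    pCore p G = ⊥ := by
  rw [← Subgroup.card_eq_one]
  obtain ⟨k, hk⟩ := IsPGroup.iff_card.mp (isPGroup_pCore (G := G) p)
  rcases k with _ | k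
  · simpa using hk
  · exfalso
    apply h
    exact dvd_trans ⟨p ^ k, by rw [hk, pow_succ']⟩ (Subgroup.card_subgroup_dvd_card _)

theorem isNilpotent_fitting [Finite G] : Group.IsNilpotent (fittingSubgroup G) := by
  let s : Finset ℕ := (Nat.card G).primeFactors
  have hs : ∀ p ∈ s, p.Prime := fun p hp => Nat.prime_of_mem_primeFactors hp
  have heq : fittingSubgroup G = ⨆ p : ↥s, pCore (p : ℕ) G := by
    rw [fitting_eq_iSup_pCore]
    refine le_antisymm (iSup_le fun p => ?_) (iSup_le fun p => ?_)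
    · by_cases h : p.1 ∣ Nat.card G
      · exact le_iSup (fun q : ↥s => pCore (q : ℕ) G)
          ⟨p.1, Nat.mem_primeFactors.mpr ⟨p.2, h, Nat.card_pos.ne'⟩⟩
      · haveI := Fact.mk p.2
        rw [pCore_eq_bot_of_not_dvd h]
        exact bot_le
    · exact le_iSup (fun q : {q : ℕ // q.Prime} => pCore q.1 G) ⟨p.1, hs _ p.2⟩
  rw [heq]
  exact isNilpotent_iSup_pCore s hs

theorem isSolvable_fitting [Finite G] : Group.IsSolvable (fittingSubgroup G) := by
  haveI := isNilpotent_fitting (G := G)
  infer_instance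

end Cfsg.Lib.Components
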