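import Cfsg.Agent.Components.Layer

/-!
The generalized Fitting subgroup contains its centralizer.
-/

set_option linter.style.haveILetI false
set_option linter.unusedSectionVars false

namespace Cfsg.Lib.Components

open Subgroup
open scoped commutatorElement

universe u

variable {G : Type u} [Group G] {G' : Type*} [Group G']

theorem isNilpotent_map {H : Subgroup G} (h : Group.IsNilpotent H) (f : G →* G') :
    Group.IsNilpotent (H.map f) :=
  haveI := h
  Group.nilpotent_of_surjective (f.subgroupMap H) (f.subgroupMap_surjective H)

theorem isNilpotent_of_le {H K : Subgroup G} (h : Group.IsNilpotent K) (hle : H ≤ K) :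
    Group.IsNilpotent H := by
  haveI := h
  exact Group.nilpotent_of_mulEquiv (subgroupOfEquivOfLe hle)

theorem fitting_map_equiv (e : G ≃* G') :
    (fittingSubgroup G).map e.toMonoidHom = fittingSubgroup G' := by
  refine le_antisymm ?_ ?_
  · rw [fittingSubgroup, sSup_eq_iSup, Subgroup.map_iSup]
    refine iSup_le fun K => ?_
    rw [Subgroup.map_iSup]
    refine iSup_le fun hK => le_sSup ⟨hK.1.map _ e.surjective, isNilpotent_map hK.2 _⟩
  · refine sSup_le fun K hK => ?_
    have hK' : K.map e.symm.toMonoidHom ≤ fittingSubgroup G :=
      le_sSup ⟨hK.1.map _ e.symm.surjective, isNilpotent_map hK.2 _⟩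
    have := Subgroup.map_mono (f := e.toMonoidHom) hK'
    rwa [map_map, show e.toMonoidHom.comp e.symm.toMonoidHom = MonoidHom.id G' from
      MonoidHom.ext fun x => e.apply_symm_apply x, map_id] at this

instance fitting_characteristic : (fittingSubgroup G).Characteristic :=
  characteristic_iff_map_eq.mpr fun e => fitting_map_equiv e

theorem le_fitting_of_subnormal_aux (n : ℕ) : ∀ (G : Type u) [Group G] [Finite G],
    Nat.card G ≤ n → ∀ H : Subgroup G, H.IsSubnormal → Group.IsNilpotent H →
      H ≤ fittingSubgroup G := by
  induction n with
  | zero => intro G _ _ hc; exact absurd hc (by have := Nat.card_pos (α := G); omega)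
  | succ n ih =>
    intro G _ _ hc H hH hnil
    by_cases ht : H = ⊤
    · subst ht; exact le_fitting hnil
    obtain ⟨N, hN, hHN, hNt⟩ := exists_proper_normal hH ht
    have hcN : Nat.card N ≤ n := by have := card_lt_of_ne_top hNt; omega
    have hnil' : Group.IsNilpotent (H.subgroupOf N) :=
      haveI := hnil
      Group.nilpotent_of_mulEquiv (subgroupOfEquivOfLe hHN).symm
    have h := ih N hcN (H.subgroupOf N) hH.subgroupOf hnil'
    have h' := Subgroup.map_mono (f := N.subtype) h
    rw [map_subgroupOf_eq_of_le hHN] at h'
    exact h'.trans (le_fitting (isNilpotent_map isNilpotent_fitting _))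

variable [Finite G]

theorem le_fitting_of_subnormal {H : Subgroup G} (hH : H.IsSubnormal)
    (hnil : Group.IsNilpotent H) : H ≤ fittingSubgroup G :=
  le_fitting_of_subnormal_aux _ G le_rfl H hH hnil

theorem fitting_map_subtype_eq {H : Subgroup G} (hH : H.IsSubnormal) :
    (fittingSubgroup H).map H.subtype = fittingSubgroup G ⊓ H := by
  refine le_antisymm (le_inf ?_ (map_subtype_le _)) ?_
  · exact le_fitting_of_subnormal (isSubnormal_map_subtype hH (Subgroup.Normal.isSubnormal (inferInstance : (fittingSubgroup H).Normal)))
      (isNilpotent_map isNilpotent_fitting _)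
  · have h : (fittingSubgroup G).subgroupOf H ≤ fittingSubgroup H := by
      haveI : ((fittingSubgroup G).subgroupOf H).Normal := inferInstance
      apply le_fitting
      haveI : Group.IsNilpotent ↥(fittingSubgroup G ⊓ H) :=
        isNilpotent_of_le isNilpotent_fitting inf_le_left
      rw [← inf_subgroupOf_right]
      exact Group.nilpotent_of_mulEquiv (subgroupOfEquivOfLe inf_le_right).symm
    have := Subgroup.map_mono (f := H.subtype) h
    rwa [subgroupOf_map_subtype] at this

theorem layer_map_subtype_le {H : Subgroup G} (hH : H.IsSubnormal) :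
    (layer H).map H.subtype ≤ layer G ⊓ H := by
  refine le_inf ?_ (map_subtype_le _)
  rw [layer, sSup_eq_iSup, Subgroup.map_iSup]
  refine iSup_le fun K => ?_
  rw [Subgroup.map_iSup]
  exact iSup_le fun hK => le_sSup ((comp_map_subtype_iff hH).mpr hK)

theorem layer_commute_fitting : ⁅layer G, fittingSubgroup G⁆ = ⊥ :=
  layer_commute_solvable_normal isSolvable_fitting

omit [Finite G] in
theorem layer_le_genFitting : layer G ≤ generalizedFittingSubgroup G := le_sup_left

omit [Finite G] in
theorem fitting_le_genFitting : fittingSubgroup G ≤ generalizedFittingSubgroup G := le_sup_right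

omit [Finite G] in
theorem genFitting_map_equiv (e : G ≃* G') :
    (generalizedFittingSubgroup G).map e.toMonoidHom = generalizedFittingSubgroup G' := by
  rw [generalizedFittingSubgroup, Subgroup.map_sup, layer_map_equiv, fitting_map_equiv]
  rfl

instance genFitting_characteristic : (generalizedFittingSubgroup G).Characteristic :=
  characteristic_iff_map_eq.mpr fun e => genFitting_map_equiv e

omit [Finite G] in
theorem class_two_nilpotent {M : Subgroup G} (h : ⁅⁅M, M⁆, M⁆ = ⊥) : Group.IsNilpotent M := by
  have h2 : commutator M ≤ center M := by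
    rw [← commutator_top_right_eq_bot_iff_le_center]
    apply Subgroup.map_injective M.subtype_injective
    rw [map_commutator, map_subtype_commutator, ← MonoidHom.range_eq_map, range_subtype, h,
      Subgroup.map_bot]
  have : IsMulCommutative (M ⧸ center M) :=
    (Subgroup.Normal.quotient_commutative_iff_commutator_le).mpr h2
  letI : CommGroup (M ⧸ center M) := { mul_comm := this.is_comm.comm }
  exact Group.of_quotient_center_nilpotent (by infer_instance)

/-- The generalized Fitting subgroup contains its centralizer. -/
theorem centralizer_genFitting_le :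
    centralizer (generalizedFittingSubgroup G : Set G) ≤ generalizedFittingSubgroup G := by
  set F := generalizedFittingSubgroup G with hF
  set C := centralizer (F : Set G) with hC
  by_contra hcon
  obtain ⟨M, ⟨hMsn, hMC, hMF⟩, hmin⟩ := WellFounded.has_min
    (wellFounded_lt (α := Subgroup G)) {M | M.IsSubnormal ∧ M ≤ C ∧ ¬ M ≤ F}
    ⟨C, (Subgroup.Normal.isSubnormal (by infer_instance)), le_rfl, hcon⟩
  have hsmall : ∀ N : Subgroup G, N.IsSubnormal → N < M → N ≤ F := fun N hN hlt => by
    by_contra h
    exact hmin N ⟨hN, hlt.le.trans hMC, h⟩ hlt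
  have hcent : ∀ N : Subgroup G, N ≤ F → ⁅N, M⁆ = ⊥ := fun N hN => by
    rw [← le_bot_iff, commutator_comm]
    refine (commutator_mono hMC hN).trans ?_
    rw [le_bot_iff, commutator_eq_bot_iff_le_centralizer]
  have hperf : ⁅M, M⁆ = M := by
    by_contra hne
    have hlt : ⁅M, M⁆ < M := lt_of_le_of_ne (commutator_le_self M) hne
    have hsn : ⁅M, M⁆.IsSubnormal :=
      isSubnormal_of_normal_in hMsn hlt.le (normalizer_commutator_ge_left M M)
    exact hMF ((le_fitting_of_subnormal hMsn
      (class_two_nilpotent (hcent _ (hsmall _ hsn hlt)))).trans fitting_le_genFitting)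
  haveI : Nontrivial M := (Subgroup.nontrivial_iff_ne_bot M).mpr fun h => hMF (h ▸ bot_le)
  have hq : IsQuasisimple M := by
    refine isQuasisimple_of_perfect_of_subnormal inferInstance ?_ ?_
    · apply Subgroup.map_injective M.subtype_injective
      rw [map_commutator, ← MonoidHom.range_eq_map, range_subtype, hperf]
    · intro N hN hNt
      have hsn := isSubnormal_map_subtype hMsn hN.isSubnormal
      have hlt : N.map M.subtype < M := by
        refine lt_of_le_of_ne (map_subtype_le N) fun h => hNt ?_
        apply Subgroup.map_injective M.subtype_injective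
        rw [h, ← MonoidHom.range_eq_map, range_subtype]
      rw [← commutator_top_right_eq_bot_iff_le_center]
      apply Subgroup.map_injective M.subtype_injective
      rw [map_commutator, ← MonoidHom.range_eq_map, range_subtype, Subgroup.map_bot,
        hcent _ (hsmall _ hsn hlt)]
  exact hMF ((comp_le_layer ⟨hMsn, hq⟩).trans layer_le_genFitting)

theorem centralizer_fitting_le_iff :
    centralizer (fittingSubgroup G : Set G) ≤ fittingSubgroup G ↔ layer G = ⊥ := by
  constructor
  · intro h
    have h1 : layer G ≤ fittingSubgroup G :=
      (commutator_eq_bot_iff_le_centralizer.mp layer_commute_fitting).trans h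
    rw [← layer_perfect (G := G), ← le_bot_iff, ← layer_commute_fitting (G := G)]
    exact commutator_mono le_rfl h1
  · intro h
    have : generalizedFittingSubgroup G = fittingSubgroup G := by
      rw [generalizedFittingSubgroup, h, bot_sup_eq]
    rw [← this]
    exact centralizer_genFitting_le

end Cfsg.Lib.Components
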