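import Cfsg.Agent.Components.LocalBalance

/-!
Epimorphisms with `p'`-kernel.
-/

set_option linter.style.haveILetI false
set_option linter.unusedSectionVars false

namespace Cfsg.Lib.Components

open Subgroup
open scoped commutatorElement

universe u

variable {G : Type u} [Group G] [Finite G] {p : ℕ} [Fact p.Prime]

section

variable {G' : Type*} [Group G'] [Finite G'] {f : G →* G'}

theorem card_comap_of_surjective (hf : Function.Surjective f) (A : Subgroup G') :
    Nat.card (A.comap f) = Nat.card f.ker * Nat.card A := by
  have hker : f.ker ≤ A.comap f := fun x hx => by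
    rw [mem_comap, MonoidHom.mem_ker.mp hx]; exact one_mem _
  have h := relIndex_mul_relIndex (⊥ : Subgroup G) f.ker (A.comap f) bot_le hker
  rw [relIndex_bot_left, relIndex_bot_left, relIndex_ker,
    map_comap_eq_self_of_surjective hf] at h
  exact h.symm

/-- `O_{p'}` corresponds along an epimorphism with `p'`-kernel -/
theorem comap_pPrimeCore_of_coprime_ker (hf : Function.Surjective f)
    (hker : (Nat.card f.ker).Coprime p) :
    (pPrimeCore p G').comap f = pPrimeCore p G := by
  refine le_antisymm (le_pPrimeCore ?_) ?_
  · rw [card_comap_of_surjective hf]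
    exact Nat.Coprime.mul_left hker (coprime_card_pPrimeCore p)
  · rw [← map_le_iff_le_comap]
    haveI : ((pPrimeCore p G).map f).Normal := (pPrimeCore_normal' p).map f hf
    exact le_pPrimeCore ((coprime_card_pPrimeCore p).coprime_dvd_left (card_map_dvd _ _))

theorem map_pPrimeCore_of_coprime_ker (hf : Function.Surjective f)
    (hker : (Nat.card f.ker).Coprime p) : (pPrimeCore p G).map f = pPrimeCore p G' := by
  rw [← comap_pPrimeCore_of_coprime_ker hf hker, map_comap_eq_self_of_surjective hf]

/-- the quotients by `O_{p'}` correspond along an epimorphism with `p'`-kernel -/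
theorem exists_quotient_equiv_of_coprime_ker (hf : Function.Surjective f)
    (hker : (Nat.card f.ker).Coprime p) :
    ∃ e : (G ⧸ pPrimeCore p G) ≃* (G' ⧸ pPrimeCore p G'),
      e.toMonoidHom.comp (QuotientGroup.mk' (pPrimeCore p G))
        = (QuotientGroup.mk' (pPrimeCore p G')).comp f := by
  have hk : ((QuotientGroup.mk' (pPrimeCore p G')).comp f).ker = pPrimeCore p G := by
    rw [← MonoidHom.comap_ker, QuotientGroup.ker_mk', comap_pPrimeCore_of_coprime_ker hf hker]
  refine ⟨(QuotientGroup.quotientMulEquivOfEq hk.symm).trans
    (QuotientGroup.quotientKerEquivOfSurjective ((QuotientGroup.mk' (pPrimeCore p G')).comp f)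
      ((QuotientGroup.mk'_surjective _).comp hf)), ?_⟩
  ext x
  rfl

/-- the image of the preimage of `E(G/O_{p'}(G))` -/
theorem map_comap_layer_of_coprime_ker (hf : Function.Surjective f)
    (hker : (Nat.card f.ker).Coprime p) :
    ((layer (G ⧸ pPrimeCore p G)).comap (QuotientGroup.mk' (pPrimeCore p G))).map f
      ≤ (layer (G' ⧸ pPrimeCore p G')).comap (QuotientGroup.mk' (pPrimeCore p G')) := by
  obtain ⟨e, he⟩ := exists_quotient_equiv_of_coprime_ker hf hker
  rw [← map_le_iff_le_comap, map_map, ← he, ← map_map,
    map_comap_eq_self_of_surjective (QuotientGroup.mk'_surjective _), layer_map_equiv]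

end

/-- the normalizer of a `p`-subgroup maps onto the normalizer of the image modulo a `p'`-kernel -/
theorem exists_localMap {G' : Type*} [Group G'] [Finite G'] {f : G →* G'}
    (hf : Function.Surjective f) (hker : (Nat.card f.ker).Coprime p) {P : Subgroup G}
    (hP : IsPGroup p P) :
    ∃ g : ↥(normalizer (P : Set G)) →* ↥(normalizer ((P.map f : Subgroup G') : Set G')),
      Function.Surjective g ∧ (Nat.card g.ker).Coprime p ∧
      (normalizer ((P.map f : Subgroup G') : Set G')).subtype.comp g
        = f.comp (normalizer (P : Set G)).subtype := by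
  have hHn := normalizer_map_of_coprime_ker hf hker hP
  let g : ↥(normalizer (P : Set G)) →* ↥(normalizer ((P.map f : Subgroup G') : Set G')) :=
    (f.comp (normalizer (P : Set G)).subtype).codRestrict _
      fun x => hHn.le (mem_map_of_mem f x.2)
  refine ⟨g, ?_, ?_, rfl⟩
  · rintro ⟨y, hy⟩
    obtain ⟨x, hx, hxy⟩ := hHn.ge hy
    exact ⟨⟨x, hx⟩, Subtype.ext hxy⟩
  · refine hker.coprime_dvd_left ?_
    rw [Nat.card_congr (Subgroup.equivMapOfInjective g.ker (normalizer (P : Set G)).subtype
      (normalizer (P : Set G)).subtype_injective).toEquiv]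
    refine Subgroup.card_dvd_of_le ?_
    rintro _ ⟨x, hx, rfl⟩
    exact congrArg Subtype.val (MonoidHom.mem_ker.mp hx)

/-- a normal subgroup of index prime to `p` of a `p`-component is the whole component -/
theorem pcomp_eq_top_of_coprime_index {K : Subgroup G} (hK : IsPComponent p K)
    (N : Subgroup ↥K) [N.Normal] (hidx : (N.index).Coprime p) : N = ⊤ := by
  set q := QuotientGroup.mk' (pPrimeCore p G)
  let f : K →* K.map q := q.subgroupMap K
  have hf : Function.Surjective f := q.subgroupMap_surjective K
  have hq := hK.2.1.2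
  rcases qs_subnormal_eq_top_or_le_center hq
      ((inferInstance : N.Normal).map f hf).isSubnormal with h | h
  · apply Subgroup.map_injective K.subtype_injective
    rw [← MonoidHom.range_eq_map, range_subtype]
    refine hK.2.2 _ (isSubnormal_map_subtype hK.1 (inferInstance : N.Normal).isSubnormal)
      (map_subtype_le N) ?_
    have h' := congrArg (Subgroup.map (K.map q).subtype) h
    rw [map_map, ← MonoidHom.range_eq_map, range_subtype] at h'
    rw [map_map]
    exact h'
  · exfalso
    have hz := comp_center_isPGroup pPrimeCore_quotient_eq_bot hK.2.1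
    have h1 := qs_dvd_index_center hq hz (comp_dvd_card pPrimeCore_quotient_eq_bot hK.2.1)
    have h2 : (center ↥(K.map q)).index ∣ N.index :=
      (Subgroup.index_dvd_of_le h).trans (N.index_map_dvd hf)
    exact (Fact.out : p.Prime).coprime_iff_not_dvd.mp hidx.symm (h1.trans h2)

/-- a `p`-component of `H` in the preimage of `E(G/O_{p'}(G))` lies in the `p`-layer of `G` -/
theorem pcomp_map_le_pLayer {H : Subgroup G} {K : Subgroup H} (hK : IsPComponent p K)
    (h : (K.map H.subtype).map (QuotientGroup.mk' (pPrimeCore p G))
      ≤ layer (G ⧸ pPrimeCore p G)) :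
    K.map H.subtype ≤ pLayer p G := by
  set i := H.subtype.comp K.subtype
  set S := pLayer p G ⊔ pPrimeCore p G
  have hiS : i.range ≤ S := by
    rw [show S = (layer (G ⧸ pPrimeCore p G)).comap (QuotientGroup.mk' (pPrimeCore p G)) from
      comap_layer_eq.symm, ← map_le_iff_le_comap]
    rwa [show i.range = K.map H.subtype by rw [MonoidHom.range_comp, range_subtype]]
  have hN : ((pLayer p G).comap i).index = (pLayer p G).relIndex i.range := index_comap _ _
  have hidx : ((pLayer p G).comap i).index.Coprime p := by
    rw [hN]
    refine (coprime_card_pPrimeCore (G := G) p).coprime_dvd_left ?_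
    refine (relIndex_dvd_relIndex_of_normal_left (pLayer p G) hiS).trans ?_
    rw [show S = pLayer p G ⊔ pPrimeCore p G from rfl, relIndex_sup_left]
    exact relIndex_dvd_card _ _
  have htop := pcomp_eq_top_of_coprime_index hK ((pLayer p G).comap i) hidx
  rintro _ ⟨x, hx, rfl⟩
  exact (htop.ge (mem_top (⟨x, hx⟩ : K)) : i ⟨x, hx⟩ ∈ pLayer p G)

end Cfsg.Lib.Components
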