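import Cfsg.Agent.Components.Local

/-!
The layer preimage of a local subgroup normalizes all components; images of local subgroups.
-/

set_option linter.style.haveILetI false
set_option linter.unusedSectionVars false

namespace Cfsg.Lib.Components

open Subgroup
open scoped commutatorElement

universe u

variable {G : Type u} [Group G] [Finite G] {p : ℕ} [Fact p.Prime]

/-- the subgroup of elements normalizing every component -/
def compKernel (G : Type u) [Group G] : Subgroup G :=
  ⨅ L : {L : Subgroup G // IsComponent L}, normalizer ((L : Subgroup G) : Set G)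

theorem mem_compKernel {x : G} :
    x ∈ compKernel G ↔ ∀ L : Subgroup G, IsComponent L → x ∈ normalizer (L : Set G) := by
  simp only [compKernel, mem_iInf, Subtype.forall]

instance compKernel_normal : (compKernel G).Normal := by
  refine ⟨fun x hx g => mem_compKernel.mpr fun L hL => ?_⟩
  have h := mem_normalizer_iff_map_conj_eq.mp (mem_compKernel.mp hx _ (comp_conj hL g⁻¹))
  rw [mem_normalizer_iff_map_conj_eq]
  show L.map (MulAut.conj (g * x * g⁻¹)).toMonoidHom = L
  change (L.map (MulAut.conj g⁻¹).toMonoidHom).map (MulAut.conj x).toMonoidHom = _ at h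
  have h2 := congrArg (Subgroup.map (MulAut.conj g).toMonoidHom) h
  simp only [map_conj_mul] at h2
  rw [mul_inv_cancel, map_conj_one, ← mul_assoc] at h2
  exact h2

theorem layer_le_compKernel : layer G ≤ compKernel G := fun _ hx =>
  mem_compKernel.mpr fun _ hL => comp_normal_in_layer hL hx

theorem layer_inf_normalizer_subgroupOf_normal (P : Subgroup G) :
    ((layer G ⊓ normalizer (P : Set G)).subgroupOf (normalizer (P : Set G))).Normal := by
  rw [inf_subgroupOf_right]
  infer_instance

theorem local_pPrimeCore_le_compKernel_aux (hO : pPrimeCore p G = ⊥) {P : Subgroup G}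
    (hP : IsPGroup p P) (hZ : layer G ⊓ centralizer (layer G : Set G) ≤ P) :
    (pPrimeCore p ↥(normalizer (P : Set G))).map (normalizer (P : Set G)).subtype ≤
      compKernel G := by
  rintro _ ⟨x, hx, rfl⟩
  have hord : ∀ y : ↥(normalizer (P : Set G)), y ∈ pPrimeCore p ↥(normalizer (P : Set G)) →
      (orderOf ((normalizer (P : Set G)).subtype y)).Coprime p := fun y hy => by
    rw [orderOf_injective _ (normalizer (P : Set G)).subtype_injective]
    exact (coprime_card_pPrimeCore p).coprime_dvd_left (Subgroup.orderOf_dvd_natCard _ hy)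
  refine mem_compKernel.mpr fun L hL => fixes_of_orbit_stable hO hP hZ ?_ (hord x hx) ?_ hL
  · rw [mem_centralizer_iff]
    intro u hu
    exact mem_centralizer_iff.mp
      (map_subtype_le_centralizer pPrimeCore_commute_pCore (mem_map_of_mem _ hx)) u
      (pGroup_le_pCore_normalizer hP hu)
  · intro d hd
    have h : ⁅x, (⟨d, hd.2⟩ : ↥(normalizer (P : Set G)))⁆ ∈ pPrimeCore p ↥(normalizer (P : Set G)) :=
      (commutator_le_left (H₁ := pPrimeCore p ↥(normalizer (P : Set G))) (H₂ := ⊤))
        (commutator_mem_commutator hx (mem_top _))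
    have := hord _ h
    rwa [map_commutatorElement] at this

theorem local_pcomp_le_compKernel_aux (hO : pPrimeCore p G = ⊥) {P : Subgroup G}
    (hP : IsPGroup p P) (hZ : layer G ⊓ centralizer (layer G : Set G) ≤ P)
    {K : Subgroup ↥(normalizer (P : Set G))} (hK : IsPComponent p K) :
    K.map (normalizer (P : Set G)).subtype ≤ compKernel G := by
  rcases pcomp_le_or_commute hK (layer_inf_normalizer_subgroupOf_normal P).isSubnormal with h | h
  · have h' := Subgroup.map_mono (f := (normalizer (P : Set G)).subtype) h
    rw [map_subgroupOf_eq_of_le inf_le_right] at h'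
    exact h'.trans (inf_le_left.trans layer_le_compKernel)
  · refine perfect_le_of_pPrime_elements (p := p) (by rw [← map_commutator, pcomp_perfect hK])
      (le_top.trans (normalizer_eq_top _).ge) ?_
    intro x hx hxo
    refine mem_compKernel.mpr fun L hL => fixes_of_orbit_stable hO hP hZ ?_ hxo ?_ hL
    · rw [mem_centralizer_iff]
      intro u hu
      exact mem_centralizer_iff.mp
        (map_subtype_le_centralizer (pcomp_commute_pCore hK) hx) u
        (pGroup_le_pCore_normalizer hP hu)
    · intro d hd
      obtain ⟨x', hx', rfl⟩ := hx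
      have h2 : ⁅x', (⟨d, hd.2⟩ : ↥(normalizer (P : Set G)))⁆ ∈
          pPrimeCore p ↥(normalizer (P : Set G)) := h (commutator_mem_commutator hx' hd)
      have h3 : (orderOf ((normalizer (P : Set G)).subtype
          ⁅x', (⟨d, hd.2⟩ : ↥(normalizer (P : Set G)))⁆)).Coprime p := by
        rw [orderOf_injective _ (normalizer (P : Set G)).subtype_injective]
        exact (coprime_card_pPrimeCore p).coprime_dvd_left (Subgroup.orderOf_dvd_natCard _ h2)
      rwa [map_commutatorElement] at h3

theorem normalizer_le_normalizer_centralizer' (A : Subgroup G) :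
    normalizer (A : Set G) ≤ normalizer (centralizer (A : Set G) : Set G) := by
  intro g hg
  rw [mem_normalizer_iff]
  intro c
  simp only [SetLike.mem_coe, mem_centralizer_iff]
  constructor
  · intro hc a ha
    have h1 : g⁻¹ * a * g ∈ A := by
      have := (mem_normalizer_iff.mp (inv_mem hg) a).mp ha
      rwa [inv_inv] at this
    have h2 := hc _ h1
    calc a * (g * c * g⁻¹) = g * ((g⁻¹ * a * g) * c) * g⁻¹ := by group
      _ = g * (c * (g⁻¹ * a * g)) * g⁻¹ := by rw [h2]
      _ = (g * c * g⁻¹) * a := by group
  · intro hc a ha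
    have h2 := hc _ ((mem_normalizer_iff.mp hg a).mp ha)
    calc a * c = g⁻¹ * ((g * a * g⁻¹) * (g * c * g⁻¹)) * g := by group
      _ = g⁻¹ * ((g * c * g⁻¹) * (g * a * g⁻¹)) * g := by rw [h2]
      _ = c * a := by group

/-- replacing `P` by `P ⊔ W` for a normal `p`-subgroup `W` -/
theorem local_mono_core {P W : Subgroup G} (hP : IsPGroup p P) [W.Normal] (hW : IsPGroup p W) :
    (pPrimeCore p ↥(normalizer (P : Set G))).map (normalizer (P : Set G)).subtype ≤
      (pPrimeCore p ↥(normalizer ((P ⊔ W : Subgroup G) : Set G))).map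
        (normalizer ((P ⊔ W : Subgroup G) : Set G)).subtype ∧
    ∀ K : Subgroup ↥(normalizer (P : Set G)), IsPComponent p K →
      ∃ K' : Subgroup ↥(normalizer ((P ⊔ W : Subgroup G) : Set G)), IsPComponent p K' ∧
        K'.map (normalizer ((P ⊔ W : Subgroup G) : Set G)).subtype
          = K.map (normalizer (P : Set G)).subtype := by
  set H := normalizer (P : Set G)
  set H' := normalizer ((P ⊔ W : Subgroup G) : Set G)
  set C := centralizer (P : Set G) ⊓ centralizer (W : Set G) with hC
  have hCH : C ≤ H := inf_le_left.trans (centralizer_le_normalizer _)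
  have hCsup : C = centralizer ((P ⊔ W : Subgroup G) : Set G) := by
    refine le_antisymm ?_ (le_inf (centralizer_le (SetLike.coe_subset_coe.mpr le_sup_left))
      (centralizer_le (SetLike.coe_subset_coe.mpr le_sup_right)))
    rw [← commutator_eq_bot_iff_le_centralizer, commutator_comm,
      commutator_eq_bot_iff_le_centralizer]
    refine sup_le ?_ ?_ <;> rw [← commutator_eq_bot_iff_le_centralizer, commutator_comm,
      commutator_eq_bot_iff_le_centralizer]
    exacts [inf_le_left, inf_le_right]
  have hCH' : C ≤ H' := hCsup ▸ centralizer_le_normalizer _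
  have hCn : (C.subgroupOf H).Normal := by
    refine normal_subgroupOf_of_le_normalizer ?_
    intro h hh
    refine inf_normalizer_le_normalizer_inf ⟨?_, ?_⟩
    · exact normalizer_le_normalizer_centralizer' _ hh
    · rw [normalizer_eq_top]; exact mem_top _
  have hCn' : (C.subgroupOf H').Normal := by
    refine normal_subgroupOf_of_le_normalizer ?_
    rw [hCsup]
    exact normalizer_le_normalizer_centralizer' _
  let e : ↥(C.subgroupOf H) ≃* ↥(C.subgroupOf H') :=
    (subgroupOfEquivOfLe hCH).trans (subgroupOfEquivOfLe hCH').symm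
  have he : H'.subtype.comp ((C.subgroupOf H').subtype.comp e.toMonoidHom)
      = H.subtype.comp (C.subgroupOf H).subtype := by
    ext x; rfl
  constructor
  · have hle : pPrimeCore p ↥H ≤ C.subgroupOf H := by
      rw [← map_le_map_iff_of_injective H.subtype_injective, map_subgroupOf_eq_of_le hCH]
      refine le_inf ?_ (local_pPrimeCore_centralizes hP hW)
      exact (map_subtype_le_centralizer pPrimeCore_commute_pCore).trans
        (centralizer_le (pGroup_le_pCore_normalizer hP))
    have h1 := pPrimeCore_map_subtype_eq (p := p) hCn.isSubnormal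
    rw [inf_eq_left.mpr hle] at h1
    have h2 := pPrimeCore_map_subtype_eq (p := p) hCn'.isSubnormal
    rw [← pPrimeCore_map_equiv e] at h2
    rw [← h1, map_map, ← he, ← map_map, ← map_map, h2]
    exact Subgroup.map_mono inf_le_left
  · intro K hK
    have hle : K ≤ C.subgroupOf H := by
      rw [← map_le_map_iff_of_injective H.subtype_injective, map_subgroupOf_eq_of_le hCH]
      refine le_inf ?_ (local_pcomp_centralizes hP hW hK)
      exact (map_subtype_le_centralizer (pcomp_commute_pCore hK)).trans
        (centralizer_le (pGroup_le_pCore_normalizer hP))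
    rw [← map_subgroupOf_eq_of_le hle] at hK
    refine ⟨((K.subgroupOf (C.subgroupOf H)).map e.toMonoidHom).map (C.subgroupOf H').subtype,
      (pcomp_map_subtype_iff hCn'.isSubnormal).mpr
        (pcomp_map_equiv ((pcomp_map_subtype_iff hCn.isSubnormal).mp hK) e), ?_⟩
    conv_rhs => rw [← map_subgroupOf_eq_of_le hle, map_map]
    rw [map_map, map_map, ← he]
    rfl

/-- the preimage of `E(N/O_{p'}(N))` for `N = N(P)` normalizes every component -/
theorem local_layerPre_le_compKernel (hO : pPrimeCore p G = ⊥) {P : Subgroup G}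
    (hP : IsPGroup p P) :
    ((layer (↥(normalizer (P : Set G)) ⧸ pPrimeCore p ↥(normalizer (P : Set G)))).comap
        (QuotientGroup.mk' (pPrimeCore p ↥(normalizer (P : Set G))))).map
        (normalizer (P : Set G)).subtype ≤ compKernel G := by
  set Z := layer G ⊓ centralizer (layer G : Set G)
  haveI : Z.Normal := inferInstance
  have hZ : IsPGroup p ↥Z := center_layer_isPGroup hO
  have hP' : IsPGroup p ↥(P ⊔ Z) := hP.to_sup_of_normal_right hZ
  obtain ⟨h1, h2⟩ := local_mono_core hP hZ
  rw [comap_layer_eq, Subgroup.map_sup]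
  refine sup_le ?_ (h1.trans (local_pPrimeCore_le_compKernel_aux hO hP' le_sup_right))
  rw [pLayer, sSup_eq_iSup, Subgroup.map_iSup]
  refine iSup_le fun K => ?_
  rw [Subgroup.map_iSup]
  refine iSup_le fun hK => ?_
  obtain ⟨K', hK', heq⟩ := h2 K hK
  rw [← heq]
  exact local_pcomp_le_compKernel_aux hO hP' le_sup_right hK'

theorem local_pPrimeCore_le_compKernel (hO : pPrimeCore p G = ⊥) {P : Subgroup G}
    (hP : IsPGroup p P) :
    (pPrimeCore p ↥(normalizer (P : Set G))).map (normalizer (P : Set G)).subtype ≤
      compKernel G := by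
  refine le_trans (Subgroup.map_mono ?_) (local_layerPre_le_compKernel hO hP)
  rw [comap_layer_eq]
  exact le_sup_right

/-! ### images of local subgroups modulo a normal `p'`-subgroup -/

theorem normalizer_map_of_coprime_ker {Q : Type*} [Group Q] {f : G →* Q}
    (hf : Function.Surjective f) (hker : (Nat.card f.ker).Coprime p) {P : Subgroup G}
    (hP : IsPGroup p P) :
    (normalizer (P : Set G)).map f = normalizer ((P.map f : Subgroup Q) : Set Q) := by
  refine le_antisymm (le_normalizer_map f) fun y hy => ?_
  obtain ⟨g, rfl⟩ := hf y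
  set T := f.ker ⊔ P
  have hcard : Nat.card T = Nat.card f.ker * Nat.card P := by
    have h : (⊥ : Subgroup G).relIndex f.ker * f.ker.relIndex T = (⊥ : Subgroup G).relIndex T :=
      relIndex_mul_relIndex _ _ _ bot_le le_sup_left
    rw [relIndex_bot_left, relIndex_bot_left, relIndex_sup_left] at h
    rw [← h]
    congr 1
    rw [← inf_relIndex_right, inf_comm, coprime_pGroup_disjoint hP hker, relIndex_bot_left]
  obtain ⟨k, hk⟩ := IsPGroup.iff_card.mp hP
  have hPsyl : ¬ p ∣ (P.subgroupOf T).index := by
    have h1 : (⊥ : Subgroup G).relIndex P * P.relIndex T = (⊥ : Subgroup G).relIndex T :=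
      relIndex_mul_relIndex _ _ _ bot_le le_sup_right
    rw [relIndex_bot_left, relIndex_bot_left, hcard, mul_comm (Nat.card f.ker)] at h1
    show ¬ p ∣ P.relIndex T
    rw [Nat.eq_of_mul_eq_mul_left Nat.card_pos h1]
    exact (Fact.out : p.Prime).coprime_iff_not_dvd.mp hker.symm
  set Pg := P.map (MulAut.conj g).toMonoidHom
  have hPgT : Pg ≤ T := by
    rintro _ ⟨u, hu, rfl⟩
    obtain ⟨u', hu', hfu⟩ : f (g * u * g⁻¹) ∈ P.map f := by
      rw [map_mul, map_mul, map_inv]
      exact (mem_normalizer_iff.mp hy (f u)).mp (mem_map_of_mem f hu)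
    show g * u * g⁻¹ ∈ T
    have : g * u * g⁻¹ * u'⁻¹ ∈ f.ker := by
      rw [MonoidHom.mem_ker, map_mul, map_inv, hfu, mul_inv_cancel]
    simpa using mul_mem (le_sup_left (b := P) this) (le_sup_right (a := f.ker) hu')
  have hPgsyl : ¬ p ∣ (Pg.subgroupOf T).index := by
    intro h
    apply hPsyl
    have e1 := Subgroup.card_mul_index (Pg.subgroupOf T)
    have e2 := Subgroup.card_mul_index (P.subgroupOf T)
    have hc : Nat.card Pg = Nat.card P := (Nat.card_congr
      (Subgroup.equivMapOfInjective P _ (MulAut.conj g).injective).toEquiv).symm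
    rw [card_subgroupOf_of_le hPgT, hc] at e1
    rw [card_subgroupOf_of_le (le_sup_right : P ≤ T)] at e2
    rwa [← Nat.eq_of_mul_eq_mul_left Nat.card_pos (e1.trans e2.symm)]
  let S₁ : Sylow p T := IsPGroup.toSylow
    (hP.of_equiv (subgroupOfEquivOfLe (le_sup_right : P ≤ T)).symm) hPsyl
  let S₂ : Sylow p T := IsPGroup.toSylow
    ((hP.map (MulAut.conj g).toMonoidHom).of_equiv (subgroupOfEquivOfLe hPgT).symm) hPgsyl
  obtain ⟨t, ht⟩ := MulAction.exists_smul_eq T S₂ S₁
  have htP : Pg.map (MulAut.conj (t : G)).toMonoidHom = P := by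
    have h := congrArg (fun S : Sylow p T => (S : Subgroup T).map T.subtype) ht
    simp only [Sylow.coe_subgroup_smul] at h
    rw [show (↑S₁ : Subgroup T) = P.subgroupOf T from rfl,
      show (↑S₂ : Subgroup T) = Pg.subgroupOf T from rfl,
      map_subgroupOf_eq_of_le (le_sup_right : P ≤ T)] at h
    refine Eq.trans ?_ h
    conv_lhs => rw [← map_subgroupOf_eq_of_le hPgT]
    rw [map_map, show (MulAut.conj (t : G)).toMonoidHom.comp T.subtype
      = T.subtype.comp (MulAut.conj t).toMonoidHom from MonoidHom.ext fun _ => rfl, ← map_map]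
    rfl
  rw [map_conj_mul] at htP
  obtain ⟨n, hn, u, hu, hnu⟩ : ∃ n ∈ f.ker, ∃ u ∈ P, n * u = (t : G) :=
    mem_sup_of_normal_left.mp t.2
  -- move the `P`-part of `t` to the left
  refine ⟨(u⁻¹ * n * u) * g, ?_, ?_⟩
  · have hu' : P.map (MulAut.conj u⁻¹).toMonoidHom = P :=
      mem_normalizer_iff_map_conj_eq.mp (le_normalizer (inv_mem hu))
    rw [SetLike.mem_coe, mem_normalizer_iff_map_conj_eq]
    show P.map (MulAut.conj (u⁻¹ * n * u * g)).toMonoidHom = P
    rw [show u⁻¹ * n * u * g = u⁻¹ * ((t : G) * g) by rw [← hnu]; group, ← map_conj_mul, htP, hu']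
  · rw [map_mul, map_mul, map_mul, MonoidHom.mem_ker.mp hn, mul_one, map_inv, inv_mul_cancel, one_mul]

theorem local_core_map_le {Q : Type*} [Group Q] [Finite Q] {f : G →* Q}
    (hf : Function.Surjective f) (hker : (Nat.card f.ker).Coprime p) {P : Subgroup G}
    (hP : IsPGroup p P) :
    ((pPrimeCore p ↥(normalizer (P : Set G))).map (normalizer (P : Set G)).subtype).map f ≤
      (pPrimeCore p ↥(normalizer ((P.map f : Subgroup Q) : Set Q))).map
        (normalizer ((P.map f : Subgroup Q) : Set Q)).subtype := by
  have hHn := normalizer_map_of_coprime_ker hf hker hP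
  set H := normalizer (P : Set G)
  set A := ((pPrimeCore p ↥H).map H.subtype).map f
  set HQ := normalizer ((P.map f : Subgroup Q) : Set Q)
  have hAle : A ≤ HQ := hHn ▸ Subgroup.map_mono (map_subtype_le _)
  refine le_trans (map_subgroupOf_eq_of_le hAle).ge (Subgroup.map_mono ?_)
  haveI : (A.subgroupOf HQ).Normal := by
    refine normal_subgroupOf_of_le_normalizer ?_
    rw [← hHn]
    refine le_trans (Subgroup.map_mono ?_) (le_normalizer_map f)
    conv_lhs => rw [← range_subtype H, MonoidHom.range_eq_map]
    exact le_trans (Subgroup.map_mono (normalizer_eq_top _).ge) (le_normalizer_map _)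
  apply le_pPrimeCore
  rw [card_subgroupOf_of_le hAle]
  refine Nat.Coprime.coprime_dvd_left (card_map_dvd _ _) ?_
  rw [← Nat.card_congr (Subgroup.equivMapOfInjective _ _ H.subtype_injective).toEquiv]
  exact coprime_card_pPrimeCore p

end Cfsg.Lib.Components
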