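import Cfsg.Agent.Components.GenFitting

/-!
Decomposition of the layer; the centre of the layer; generalized Fitting subgroup of subnormal
subgroups.
-/

set_option linter.style.haveILetI false
set_option linter.unusedSectionVars false

namespace Cfsg.Lib.Components

open Subgroup
open scoped commutatorElement

universe u

variable {G : Type u} [Group G] [Finite G]

theorem commute_of_commutator_eq_bot {A B : Subgroup G} (h : ⁅A, B⁆ = ⊥) {a b : G} (ha : a ∈ A)
    (hb : b ∈ B) : a * b = b * a :=
  commutatorElement_eq_one_iff_mul_comm.mp (by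
    have := commutator_mem_commutator ha hb; rwa [h, mem_bot] at this)

/-- If `x` is in the join of a set of components and centralizes each of them, it lies in the
join of their centres. -/
theorem central_mem_iSup_centers (s : Finset (Subgroup G)) (hs : ∀ L ∈ s, IsComponent L) (x : G)
    (hx : x ∈ s.sup id) (hc : ∀ L ∈ s, ∀ l ∈ L, x * l = l * x) :
    x ∈ s.sup (fun L => L ⊓ centralizer (L : Set G)) := by
  classical
  induction s using Finset.induction_on generalizing x with
  | empty => simpa using hx
  | @insert L t hLt ih =>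
    rw [Finset.sup_insert] at hx ⊢
    have ht : ∀ K ∈ t, IsComponent K := fun K hK => hs K (Finset.mem_insert_of_mem hK)
    have hL := hs L (Finset.mem_insert_self _ _)
    have hR : t.sup id ≤ centralizer (L : Set G) := by
      refine Finset.sup_le fun K hK => ?_
      show K ≤ centralizer (L : Set G)
      rw [← commutator_eq_bot_iff_le_centralizer]
      exact comp_commute (ht K hK) hL fun h => hLt (h ▸ hK)
    have hn : t.sup id ≤ normalizer (L : Set G) := hR.trans (centralizer_le_normalizer _)
    have hmem : x ∈ ((L ⊔ t.sup id : Subgroup G) : Set G) := hx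
    rw [coe_mul_of_right_le_normalizer_left _ _ hn] at hmem
    obtain ⟨l, hl, r, hr, rfl⟩ := hmem
    have hlr : ∀ y ∈ L, r * y = y * r := fun y hy => ((mem_centralizer_iff.mp (hR hr)) y hy).symm
    have hlc : ∀ y ∈ L, l * y = y * l := by
      intro y hy
      have h1 : l * r * y = y * (l * r) := hc L (Finset.mem_insert_self _ _) y hy
      rw [mul_assoc, hlr y hy, ← mul_assoc, ← mul_assoc] at h1
      exact mul_right_cancel h1
    refine mul_mem_sup ⟨hl, mem_centralizer_iff.mpr fun y hy => (hlc y hy).symm⟩ (ih ht r hr ?_)
    intro K hK y hy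
    have hly : l * y = y * l := commute_of_commutator_eq_bot
      (comp_commute hL (ht K hK) fun h => hLt (h ▸ hK)) hl hy
    have h1 : l * r * y = y * (l * r) := hc K (Finset.mem_insert_of_mem hK) y hy
    have : l * (r * y) = l * (y * r) := by
      rw [← mul_assoc, h1, ← mul_assoc, ← mul_assoc, hly]
    exact mul_left_cancel this

theorem center_map_eq (H : Subgroup G) :
    (center H).map H.subtype = H ⊓ centralizer (H : Set G) := by
  ext x
  simp only [mem_map, mem_center_iff, mem_inf, mem_centralizer_iff]
  constructor
  · rintro ⟨y, hy, rfl⟩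
    exact ⟨y.2, fun h hh => congrArg Subtype.val (hy ⟨h, hh⟩)⟩
  · rintro ⟨hx, hc⟩
    exact ⟨⟨x, hx⟩, fun g => Subtype.ext (hc g g.2), rfl⟩

theorem layer_eq_finset : ∃ s : Finset (Subgroup G), (∀ L, L ∈ s ↔ IsComponent L) ∧
    layer G = s.sup id := by
  classical
  haveI : Fintype (Subgroup G) := Fintype.ofFinite _
  refine ⟨Finset.univ.filter IsComponent, fun L => by simp, ?_⟩
  refine le_antisymm (sSup_le fun L hL => Finset.le_sup (f := id) (by simpa using hL))
    (Finset.sup_le fun L hL => le_sSup (by simpa using hL))

theorem layer_inf_centralizer_eq :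
    layer G ⊓ centralizer (layer G : Set G)
      = ⨆ L : {K : Subgroup G // IsComponent K}, (L : Subgroup G) ⊓ centralizer ((L : Subgroup G) : Set G) := by
  refine le_antisymm (fun x hx => ?_) (iSup_le fun L => ?_)
  · obtain ⟨s, hs, heq⟩ := layer_eq_finset (G := G)
    have hle : s.sup (fun L => L ⊓ centralizer (L : Set G)) ≤
        ⨆ L : {K : Subgroup G // IsComponent K}, (L : Subgroup G) ⊓ centralizer ((L : Subgroup G) : Set G) :=
      Finset.sup_le fun L hL => le_iSup
        (fun L : {K : Subgroup G // IsComponent K} => (L : Subgroup G) ⊓ centralizer ((L : Subgroup G) : Set G))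
        ⟨L, (hs L).mp hL⟩
    apply hle
    refine central_mem_iSup_centers s (fun L hL => (hs L).mp hL) x (heq ▸ hx.1) ?_
    intro L hL l hl
    exact (mem_centralizer_iff.mp hx.2 l (comp_le_layer ((hs L).mp hL) hl)).symm
  · refine le_inf (inf_le_left.trans (comp_le_layer L.2)) ?_
    rw [← commutator_eq_bot_iff_le_centralizer, commutator_comm,
      commutator_eq_bot_iff_le_centralizer]
    refine sSup_le fun K hK => ?_
    rw [← commutator_eq_bot_iff_le_centralizer, commutator_comm,
      commutator_eq_bot_iff_le_centralizer]
    by_cases h : (L : Subgroup G) = K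
    · rw [h]; exact inf_le_right
    · exact inf_le_left.trans (commutator_eq_bot_iff_le_centralizer.mp (comp_commute L.2 hK h))

theorem centralizer_layer_normal : (centralizer (layer G : Set G)).Normal := inferInstance

theorem isMulCommutative_inf_centralizer (H : Subgroup G) :
    IsMulCommutative ↥(H ⊓ centralizer (H : Set G)) :=
  ⟨⟨fun a b => Subtype.ext ((mem_centralizer_iff.mp b.2.2) a a.2.1)⟩⟩

theorem layer_inf_centralizer_eq_fitting :
    layer G ⊓ centralizer (layer G : Set G) = fittingSubgroup G ⊓ layer G := by
  refine le_antisymm (le_inf ?_ inf_le_left) (le_inf inf_le_right ?_)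
  · haveI := isMulCommutative_inf_centralizer (layer G)
    exact le_fitting (by
      letI : CommGroup ↥(layer G ⊓ centralizer (layer G : Set G)) :=
        { mul_comm := IsMulCommutative.is_comm.comm }
      infer_instance)
  · refine inf_le_left.trans ?_
    rw [← commutator_eq_bot_iff_le_centralizer, commutator_comm]
    exact layer_commute_fitting

theorem genFitting_mem_decomp {x : G} (hx : x ∈ generalizedFittingSubgroup G)
    (s t : Set (Subgroup G)) (hst : ∀ L, IsComponent L → L ∈ s ∨ L ∈ t)
    (hs : ∀ L ∈ s, IsComponent L) (ht : ∀ L ∈ t, IsComponent L) :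
    ∃ a ∈ sSup s, ∃ b ∈ sSup t, ∃ f ∈ fittingSubgroup G, x = a * b * f := by
  have hl : layer G ≤ sSup s ⊔ sSup t := sSup_le fun L hL => (hst L hL).elim
    (fun h => le_sup_of_le_left (le_sSup h)) (fun h => le_sup_of_le_right (le_sSup h))
  obtain ⟨e, he, f, hf, rfl⟩ := mem_sup_of_normal_right.mp
    (show x ∈ layer G ⊔ fittingSubgroup G from hx)
  have hn : sSup t ≤ normalizer (sSup s : Subgroup G) := by
    refine (sSup_le fun L hL => comp_le_layer (ht L hL)).trans ?_
    intro g hg
    rw [mem_normalizer_iff_map_conj_eq, sSup_eq_iSup, Subgroup.map_iSup]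
    refine iSup_congr fun L => ?_
    rw [Subgroup.map_iSup]
    exact iSup_congr fun hL =>
      mem_normalizer_iff_map_conj_eq.mp (comp_normal_in_layer (hs L hL) hg)
  have hmem : e ∈ ((sSup s ⊔ sSup t : Subgroup G) : Set G) := hl he
  rw [coe_mul_of_right_le_normalizer_left _ _ hn] at hmem
  obtain ⟨a, ha, b, hb, rfl⟩ := hmem
  exact ⟨a, ha, b, hb, f, hf, rfl⟩

/-- The generalized Fitting subgroup of a subnormal subgroup. -/
theorem genFitting_map_subtype_eq {H : Subgroup G} (hH : H.IsSubnormal) :
    (generalizedFittingSubgroup H).map H.subtype = generalizedFittingSubgroup G ⊓ H := by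
  refine le_antisymm (le_inf ?_ (map_subtype_le _)) ?_
  · rw [generalizedFittingSubgroup, Subgroup.map_sup]
    refine sup_le ?_ ?_
    · exact ((layer_map_subtype_le hH).trans inf_le_left).trans layer_le_genFitting
    · rw [fitting_map_subtype_eq hH]
      exact inf_le_left.trans fitting_le_genFitting
  · rintro x ⟨hx, hxH⟩
    obtain ⟨a, ha, b, hb, f, hf, rfl⟩ := genFitting_mem_decomp hx
      {L | IsComponent L ∧ L ≤ H} {L | IsComponent L ∧ ¬ L ≤ H}
      (fun L hL => (em (L ≤ H)).imp (fun h => ⟨hL, h⟩) (fun h => ⟨hL, h⟩))
      (fun L hL => hL.1) (fun L hL => hL.1)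
    have hsH : sSup {L | IsComponent L ∧ L ≤ H} ≤ H := sSup_le fun L hL => hL.2
    have haH : a ∈ (generalizedFittingSubgroup H).map H.subtype := by
      have hle : sSup {L : Subgroup G | IsComponent L ∧ L ≤ H} ≤ (layer H).map H.subtype := by
        refine sSup_le fun L hL => ?_
        rw [← map_subgroupOf_eq_of_le hL.2]
        exact Subgroup.map_mono (comp_le_layer (comp_subgroupOf hL.1 hL.2))
      exact Subgroup.map_mono layer_le_genFitting (hle ha)
    have hbfH : b * f ∈ H := by
      have := H.mul_mem (H.inv_mem (hsH ha)) hxH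
      rwa [mul_assoc a b f, inv_mul_cancel_left] at this
    have hbL : b ∈ layer G := (sSup_le fun L hL => comp_le_layer hL.1 :
      sSup {L : Subgroup G | IsComponent L ∧ ¬ L ≤ H} ≤ layer G) hb
    have hbc : b ∈ centralizer (layer G : Set G) := by
      have : layer G ≤ centralizer ({b} : Set G) := by
        refine sSup_le fun L hL => ?_
        intro l hl
        rw [mem_centralizer_singleton_iff]
        by_cases hLH : L ≤ H
        · have h1 : sSup {L : Subgroup G | IsComponent L ∧ ¬ L ≤ H} ≤ centralizer (L : Set G) := by
            refine sSup_le fun K hK => ?_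
            rw [← commutator_eq_bot_iff_le_centralizer]
            exact comp_commute hK.1 hL fun h => hK.2 (h ▸ hLH)
          exact (mem_centralizer_iff.mp (h1 hb)) l hl
        · have h1 := commute_of_commutator_eq_bot (comp_commute_of_not_le hL hH hLH) hl hbfH
          have h2 : l * f = f * l := commute_of_commutator_eq_bot layer_commute_fitting
            (comp_le_layer hL hl) hf
          rw [← mul_assoc, mul_assoc b f l, ← h2, ← mul_assoc] at h1
          exact mul_right_cancel h1
      rw [mem_centralizer_iff]
      intro l hl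
      exact mem_centralizer_singleton_iff.mp (this hl)
    have hbF : b ∈ fittingSubgroup G :=
      (layer_inf_centralizer_eq_fitting.le ⟨hbL, hbc⟩).1
    have hbf : b * f ∈ (generalizedFittingSubgroup H).map H.subtype :=
      Subgroup.map_mono fitting_le_genFitting
        ((fitting_map_subtype_eq hH).ge ⟨mul_mem hbF hf, hbfH⟩)
    rw [mul_assoc]
    exact mul_mem haH hbf

theorem layer_le_centralizer_solvable_normal {N : Subgroup G} [N.Normal]
    (hN : Group.IsSolvable N) : layer G ≤ centralizer (N : Set G) :=
  commutator_eq_bot_iff_le_centralizer.mp (layer_commute_solvable_normal hN)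

end Cfsg.Lib.Components
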