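import Cfsg.Agent.Components.Supplement
import Cfsg.Agent.Components.Structure

/-!
`p`-components and the `p`-layer.
-/

set_option linter.style.haveILetI false
set_option linter.unusedSectionVars false

namespace Cfsg.Lib.Components

open Subgroup
open scoped commutatorElement

universe u

variable {G : Type u} [Group G] {G' : Type*} [Group G'] {p : ℕ}

local notation "q" => QuotientGroup.mk' (pPrimeCore p G)

theorem pPrimeCore_map_equiv (e : G ≃* G') :
    (pPrimeCore p G).map e.toMonoidHom = pPrimeCore p G' := by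
  refine le_antisymm ?_ ?_
  · rw [pPrimeCore, sSup_eq_iSup, Subgroup.map_iSup]
    refine iSup_le fun K => ?_
    rw [Subgroup.map_iSup]
    refine iSup_le fun hK => le_sSup ⟨hK.1.map _ e.surjective, ?_⟩
    rw [← Nat.card_congr (Subgroup.equivMapOfInjective K _ e.injective).toEquiv]
    exact hK.2
  · refine sSup_le fun K hK => ?_
    have hK' : K.map e.symm.toMonoidHom ≤ pPrimeCore p G :=
      le_sSup ⟨hK.1.map _ e.symm.surjective, by
        rw [← Nat.card_congr (Subgroup.equivMapOfInjective K _ e.symm.injective).toEquiv]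
        exact hK.2⟩
    have := Subgroup.map_mono (f := e.toMonoidHom) hK'
    rwa [map_map, show e.toMonoidHom.comp e.symm.toMonoidHom = MonoidHom.id G' from
      MonoidHom.ext fun x => e.apply_symm_apply x, map_id] at this

instance pPrimeCore_characteristic : (pPrimeCore p G).Characteristic :=
  characteristic_iff_map_eq.mpr fun e => pPrimeCore_map_equiv e

theorem pCore_map_equiv (e : G ≃* G') : (pCore p G).map e.toMonoidHom = pCore p G' := by
  refine le_antisymm ?_ ?_
  · rw [pCore, sSup_eq_iSup, Subgroup.map_iSup]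
    refine iSup_le fun K => ?_
    rw [Subgroup.map_iSup]
    exact iSup_le fun hK => le_sSup ⟨hK.1.map _ e.surjective, hK.2.map _⟩
  · refine sSup_le fun K hK => ?_
    have hK' : K.map e.symm.toMonoidHom ≤ pCore p G :=
      le_sSup ⟨hK.1.map _ e.symm.surjective, hK.2.map _⟩
    have := Subgroup.map_mono (f := e.toMonoidHom) hK'
    rwa [map_map, show e.toMonoidHom.comp e.symm.toMonoidHom = MonoidHom.id G' from
      MonoidHom.ext fun x => e.apply_symm_apply x, map_id] at this

instance pCore_characteristic : (pCore p G).Characteristic :=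
  characteristic_iff_map_eq.mpr fun e => pCore_map_equiv e

theorem pcomp_map_equiv {K : Subgroup G} (h : IsPComponent p K) (e : G ≃* G') :
    IsPComponent p (K.map e.toMonoidHom) := by
  let e' := QuotientGroup.congr (pPrimeCore p G) (pPrimeCore p G') e (pPrimeCore_map_equiv e)
  have hcomp : ∀ H : Subgroup G, (H.map e.toMonoidHom).map (QuotientGroup.mk' (pPrimeCore p G'))
      = (H.map q).map e'.toMonoidHom := by
    intro H
    rw [map_map, map_map]
    congr 1
  refine ⟨h.1.map e.surjective, ?_, ?_⟩
  · rw [hcomp]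
    exact comp_map_equiv h.2.1 e'
  · intro H hH hle himg
    have hH' : H = (H.map e.symm.toMonoidHom).map e.toMonoidHom := by
      rw [map_map, show e.toMonoidHom.comp e.symm.toMonoidHom = MonoidHom.id G' from
        MonoidHom.ext fun x => e.apply_symm_apply x, map_id]
    rw [hH', hcomp, hcomp] at himg
    rw [hH'] at hle ⊢
    congr 1
    exact h.2.2 _ (hH.map e.symm.surjective)
      ((Subgroup.map_le_map_iff_of_injective e.injective).mp hle)
      (Subgroup.map_injective e'.injective himg)

theorem comap_map_q (H : Subgroup G) : (H.map q).comap q = H ⊔ pPrimeCore p G := by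
  rw [comap_map_eq, QuotientGroup.ker_mk']

variable [Finite G]

theorem pcomp_image {K : Subgroup G} (h : IsPComponent p K) : IsComponent (K.map q) := h.2.1

theorem exists_pcomp {C : Subgroup (G ⧸ pPrimeCore p G)} (hC : IsComponent C) :
    ∃ K : Subgroup G, IsPComponent p K ∧ K.map q = C := by
  obtain ⟨K, ⟨hK, hKC⟩, hmin⟩ := WellFounded.has_min (wellFounded_lt (α := Subgroup G))
    {H | H.IsSubnormal ∧ H.map q = C} ⟨C.comap q, hC.1.comap _,
      map_comap_eq_self_of_surjective (QuotientGroup.mk'_surjective _) C⟩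
  refine ⟨K, ⟨hK, by rwa [hKC], fun H hH hle himg => ?_⟩, hKC⟩
  exact eq_of_le_of_not_lt hle fun hlt => hmin H ⟨hH, himg.trans hKC⟩ hlt

theorem pcomp_perfect {K : Subgroup G} (h : IsPComponent p K) : ⁅K, K⁆ = K := by
  refine h.2.2 _ ?_ (commutator_le_self K) ?_
  · exact isSubnormal_of_normal_in h.1 (commutator_le_self K) (normalizer_commutator_ge_left K K)
  · rw [map_commutator]
    exact comp_perfect h.2.1

theorem pcomp_le_of_image_le {K H : Subgroup G} (hK : IsPComponent p K) (hH : H.IsSubnormal)
    (h : K.map q ≤ H.map q) : K ≤ H := by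
  set N := pPrimeCore p G
  set Y := (K.map q).comap q with hY
  have hNY : N ≤ Y := by rw [hY, comap_map_q]; exact le_sup_right
  have hKY : K ≤ Y := by rw [hY, comap_map_q]; exact le_sup_left
  have hYsn : Y.IsSubnormal := hK.2.1.1.comap _
  haveI : (N.subgroupOf Y).Normal := inferInstance
  have hsup : ∀ A : Subgroup G, A.IsSubnormal → K.map q ≤ A.map q →
      (A ⊓ Y).subgroupOf Y ⊔ N.subgroupOf Y = ⊤ := by
    intro A _ hA
    rw [eq_top_iff]
    intro y _
    have hy : (y : G) ∈ A ⊔ N := by
      rw [← comap_map_q]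
      exact hA (mem_comap.mp y.2)
    obtain ⟨a, ha, d, hd, hyd⟩ := mem_sup_of_normal_right.mp hy
    have haY : a ∈ Y := by
      have : a = (y : G) * d⁻¹ := by rw [← hyd, mul_inv_cancel_right]
      rw [this]; exact mul_mem y.2 (inv_mem (hNY hd))
    have : y = ⟨a, haY⟩ * ⟨d, hNY hd⟩ := Subtype.ext hyd.symm
    rw [this]
    exact mul_mem_sup (⟨ha, haY⟩ : a ∈ A ⊓ Y) hd
  have hperf : ⁅(⊤ : Subgroup Y), (⊤ : Subgroup Y)⁆ ⊔ N.subgroupOf Y = ⊤ := by
    refine eq_top_iff.mpr ((hsup K hK.1 le_rfl).ge.trans ?_)
    rw [inf_eq_left.mpr hKY]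
    refine sup_le_sup_right ?_ _
    have : K.subgroupOf Y = ⁅K.subgroupOf Y, K.subgroupOf Y⁆ := by
      apply Subgroup.map_injective Y.subtype_injective
      rw [map_commutator, map_subgroupOf_eq_of_le hKY, pcomp_perfect hK]
    rw [this]
    exact commutator_mono le_top le_top
  obtain ⟨B, hBn, hBN, hBmin⟩ := exists_least_supplement (N.subgroupOf Y) hperf
  have hBK : B.map Y.subtype = K := by
    refine hK.2.2 _ (isSubnormal_map_subtype hYsn hBn.isSubnormal) ?_ ?_
    · have := Subgroup.map_mono (f := Y.subtype)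
        (hBmin _ ((hK.1.inf hYsn).subgroupOf) (hsup K hK.1 le_rfl))
      rw [map_subgroupOf_eq_of_le inf_le_right] at this
      exact this.trans inf_le_left
    · have h1 := congrArg (fun S => (Subgroup.map Y.subtype S).map q) hBN
      simp only [Subgroup.map_sup] at h1
      rw [map_subgroupOf_eq_of_le hNY, QuotientGroup.map_mk'_self, sup_bot_eq,
        ← MonoidHom.range_eq_map, range_subtype] at h1
      rw [h1, hY, map_comap_eq_self_of_surjective (QuotientGroup.mk'_surjective _)]
  have := Subgroup.map_mono (f := Y.subtype) (hBmin _ ((hH.inf hYsn).subgroupOf) (hsup H hH h))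
  rw [map_subgroupOf_eq_of_le inf_le_right, hBK] at this
  exact this.trans inf_le_left

theorem pcomp_eq_of_image_eq {K L : Subgroup G} (hK : IsPComponent p K) (hL : IsPComponent p L)
    (h : K.map q = L.map q) : K = L :=
  le_antisymm (pcomp_le_of_image_le hK hL.1 h.le) (pcomp_le_of_image_le hL hK.1 h.ge)

theorem pcomp_conj {K : Subgroup G} (hK : IsPComponent p K) (g : G) :
    IsPComponent p (K.map (MulAut.conj g).toMonoidHom) := pcomp_map_equiv hK _

theorem map_q_conj (K : Subgroup G) (g : G) :
    (K.map (MulAut.conj g).toMonoidHom).map q = (K.map q).map (MulAut.conj (q g)).toMonoidHom := by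
  rw [map_map, map_map]; congr 1

theorem pcomp_mem_normalizer {K : Subgroup G} (hK : IsPComponent p K) {g : G}
    (hg : q g ∈ normalizer ((K.map q : Subgroup (G ⧸ pPrimeCore p G)) : Set (G ⧸ pPrimeCore p G))) :
    g ∈ normalizer (K : Set G) := by
  rw [mem_normalizer_iff_map_conj_eq] at hg ⊢
  exact pcomp_eq_of_image_eq (pcomp_conj hK g) hK ((map_q_conj K g).trans hg)

theorem pPrimeCore_le_normalizer_pcomp {K : Subgroup G} (hK : IsPComponent p K) :
    pPrimeCore p G ≤ normalizer (K : Set G) := fun g hg =>
  pcomp_mem_normalizer hK (by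
    rw [show q g = 1 from (QuotientGroup.eq_one_iff g).mpr hg]; exact one_mem _)

theorem pLayer_map_q : (pLayer p G).map q = layer (G ⧸ pPrimeCore p G) := by
  refine le_antisymm ?_ (sSup_le fun C hC => ?_)
  · rw [pLayer, sSup_eq_iSup, Subgroup.map_iSup]
    refine iSup_le fun K => ?_
    rw [Subgroup.map_iSup]
    exact iSup_le fun hK => comp_le_layer hK.2.1
  · obtain ⟨K, hK, rfl⟩ := exists_pcomp hC
    exact Subgroup.map_mono (le_sSup hK)

theorem comap_layer_le_normalizer_pcomp {K : Subgroup G} (hK : IsPComponent p K) :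
    (layer (G ⧸ pPrimeCore p G)).comap q ≤ normalizer (K : Set G) := fun _ hg =>
  pcomp_mem_normalizer hK (comp_normal_in_layer hK.2.1 (mem_comap.mp hg))

theorem pLayer_le_normalizer_pcomp {K : Subgroup G} (hK : IsPComponent p K) :
    pLayer p G ≤ normalizer (K : Set G) := by
  refine le_trans ?_ (comap_layer_le_normalizer_pcomp hK)
  rw [← map_le_iff_le_comap, pLayer_map_q]

instance pLayer_normal : (pLayer p G).Normal := by
  rw [← normalizer_eq_top_iff, eq_top_iff]
  intro g _
  rw [mem_normalizer_iff_map_conj_eq]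
  have key : ∀ a : G, (pLayer p G).map (MulAut.conj a).toMonoidHom ≤ pLayer p G := by
    intro a
    rw [pLayer, sSup_eq_iSup, Subgroup.map_iSup]
    refine iSup_le fun K => ?_
    rw [Subgroup.map_iSup]
    exact iSup_le fun hK =>
      le_iSup_of_le (K.map (MulAut.conj a).toMonoidHom) (le_iSup_of_le (pcomp_conj hK a) le_rfl)
  refine le_antisymm (key g) ?_
  have := Subgroup.map_mono (f := (MulAut.conj g).toMonoidHom) (key g⁻¹)
  rwa [map_map, show (MulAut.conj g).toMonoidHom.comp (MulAut.conj g⁻¹).toMonoidHom = MonoidHom.id G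
    from MonoidHom.ext fun x => by simp [mul_assoc], map_id] at this

theorem pLayer_perfect : ⁅pLayer p G, pLayer p G⁆ = pLayer p G := by
  refine le_antisymm (commutator_le_self _) (sSup_le fun K hK => ?_)
  calc K = ⁅K, K⁆ := (pcomp_perfect hK).symm
    _ ≤ ⁅pLayer p G, pLayer p G⁆ := commutator_mono (le_sSup hK) (le_sSup hK)

theorem pPrimeCore_quotient_eq_bot : pPrimeCore p (G ⧸ pPrimeCore p G) = ⊥ := by
  set M := (pPrimeCore p (G ⧸ pPrimeCore p G)).comap q
  have hle : pPrimeCore p G ≤ M := fun x hx => by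
    simp [M, mem_comap, (QuotientGroup.eq_one_iff x).mpr hx]
  have hcard : Nat.card M = Nat.card (pPrimeCore p G) *
      Nat.card (pPrimeCore p (G ⧸ pPrimeCore p G)) := by
    have h1 : (⊥ : Subgroup G).relIndex (pPrimeCore p G) * (pPrimeCore p G).relIndex M
        = (⊥ : Subgroup G).relIndex M := relIndex_mul_relIndex _ _ _ bot_le hle
    rw [relIndex_bot_left, relIndex_bot_left] at h1
    rw [← h1]
    congr 1
    conv_lhs => rw [← QuotientGroup.ker_mk' (pPrimeCore p G)]
    rw [relIndex_ker, map_comap_eq_self_of_surjective (QuotientGroup.mk'_surjective _)]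
  have hM : M ≤ pPrimeCore p G := le_pPrimeCore (by
    rw [hcard]; exact Nat.Coprime.mul_left (coprime_card_pPrimeCore p) (coprime_card_pPrimeCore p))
  rw [← map_comap_eq_self_of_surjective (QuotientGroup.mk'_surjective (pPrimeCore p G))
    (pPrimeCore p (G ⧸ pPrimeCore p G)), Subgroup.map_eq_bot_iff, QuotientGroup.ker_mk']
  exact hM

theorem comp_dvd_card [Fact p.Prime] (hO : pPrimeCore p G = ⊥) {L : Subgroup G}
    (hL : IsComponent L) : p ∣ Nat.card L := by
  by_contra h
  exact comp_ne_bot hL (le_bot_iff.mp (hO ▸ le_pPrimeCore_of_subnormal hL.1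
    ((Fact.out : p.Prime).coprime_iff_not_dvd.mpr h).symm))

theorem pcomp_dvd_card [Fact p.Prime] {K : Subgroup G} (hK : IsPComponent p K) :
    p ∣ Nat.card K :=
  (comp_dvd_card pPrimeCore_quotient_eq_bot hK.2.1).trans (card_map_dvd _ _)

theorem pcomp_not_le_core {K : Subgroup G} (hK : IsPComponent p K) : ¬ K ≤ pPrimeCore p G := by
  intro h
  apply comp_ne_bot hK.2.1
  rw [Subgroup.map_eq_bot_iff, QuotientGroup.ker_mk']
  exact h

theorem pcomp_ne_bot {K : Subgroup G} (hK : IsPComponent p K) : K ≠ ⊥ := fun h =>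
  pcomp_not_le_core hK (h ▸ bot_le)

/-- a perfect subnormal subgroup of a `p`-component is the component or lies in the core -/
theorem pcomp_subnormal_perfect {K H : Subgroup G} (hK : IsPComponent p K) (hH : H.IsSubnormal)
    (hle : H ≤ K) (hperf : ⁅H, H⁆ = H) : H = K ∨ H ≤ pPrimeCore p G := by
  have hsn : ((H.map q).subgroupOf (K.map q)).IsSubnormal := hH.quotient.subgroupOf
  have hle' : H.map q ≤ K.map q := Subgroup.map_mono hle
  rcases qs_subnormal_eq_top_or_le_center hK.2.1.2 hsn with h | h
  · exact Or.inl (hK.2.2 H hH hle (le_antisymm hle' (subgroupOf_eq_top.mp h)))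
  · right
    have h0 : H.map q = ⊥ := by
      rw [← hperf, map_commutator]
      refine commutator_map_subtype_eq_bot hle' hle' ?_
      rw [← le_bot_iff, ← commutator_center_right (center ↥(K.map q))]
      exact commutator_mono h h
    rwa [Subgroup.map_eq_bot_iff, QuotientGroup.ker_mk'] at h0

theorem pcomp_eq_of_le {K L : Subgroup G} (hK : IsPComponent p K) (hL : IsPComponent p L)
    (h : K ≤ L) : K = L :=
  pcomp_eq_of_image_eq hK hL (comp_eq_of_le hK.2.1 hL.2.1 (Subgroup.map_mono h))

theorem pcomp_le_or_commute {K H : Subgroup G} (hK : IsPComponent p K) (hH : H.IsSubnormal) :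
    K ≤ H ∨ ⁅K, H⁆ ≤ pPrimeCore p G := by
  rcases comp_le_or_commute hK.2.1 (hH.quotient (K := pPrimeCore p G)) with h | h
  · exact Or.inl (pcomp_le_of_image_le hK hH h)
  · right
    rwa [← map_commutator, Subgroup.map_eq_bot_iff, QuotientGroup.ker_mk'] at h

theorem pcomp_commute {K L : Subgroup G} (hK : IsPComponent p K) (hL : IsPComponent p L)
    (h : K ≠ L) : ⁅K, L⁆ ≤ pPrimeCore p G :=
  (pcomp_le_or_commute hK hL.1).resolve_left fun hle => h (pcomp_eq_of_le hK hL hle)

theorem pPrimeCore_map_subtype_eq {H : Subgroup G} (hH : H.IsSubnormal) :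
    (pPrimeCore p H).map H.subtype = pPrimeCore p G ⊓ H := by
  refine le_antisymm (le_inf ?_ (map_subtype_le _)) ?_
  · refine le_pPrimeCore_of_subnormal
      (isSubnormal_map_subtype hH (pPrimeCore_normal' p).isSubnormal) ?_
    rw [← Nat.card_congr (Subgroup.equivMapOfInjective _ _ H.subtype_injective).toEquiv]
    exact coprime_card_pPrimeCore p
  · have h : (pPrimeCore p G).subgroupOf H ≤ pPrimeCore p H := by
      apply le_pPrimeCore
      rw [← inf_subgroupOf_right, card_subgroupOf_of_le inf_le_right]
      exact (coprime_card_pPrimeCore p).coprime_dvd_left (Subgroup.card_dvd_of_le inf_le_left)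
    have := Subgroup.map_mono (f := H.subtype) h
    rwa [subgroupOf_map_subtype] at this

theorem pPrimeCore_subgroupOf_eq {H : Subgroup G} (hH : H.IsSubnormal) :
    (pPrimeCore p G).subgroupOf H = pPrimeCore p H := by
  apply Subgroup.map_injective H.subtype_injective
  rw [subgroupOf_map_subtype, pPrimeCore_map_subtype_eq hH]

theorem pcomp_map_subtype_iff {H : Subgroup G} (hH : H.IsSubnormal) {K : Subgroup H} :
    IsPComponent p (K.map H.subtype) ↔ IsPComponent p K := by
  set R := H.map q
  let f : H →* R := (q).subgroupMap H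
  have hker : f.ker = pPrimeCore p H := by
    rw [← pPrimeCore_subgroupOf_eq hH]
    ext x
    rw [MonoidHom.mem_ker, Subtype.ext_iff, mem_subgroupOf]
    exact QuotientGroup.eq_one_iff _
  let e : (↥H ⧸ pPrimeCore p H) ≃* R := (QuotientGroup.quotientMulEquivOfEq hker).symm.trans
    (QuotientGroup.quotientKerEquivOfSurjective f ((q).subgroupMap_surjective H))
  have hcomp : ∀ A : Subgroup H, (A.map H.subtype).map q
      = ((A.map (QuotientGroup.mk' (pPrimeCore p H))).map e.toMonoidHom).map R.subtype := by
    intro A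
    rw [map_map, map_map, map_map]
    congr 1
  have hR : R.IsSubnormal := hH.quotient
  constructor
  · rintro ⟨h1, h2, h3⟩
    refine ⟨isSubnormal_of_map_subtype h1, ?_, fun A hA hle himg => ?_⟩
    · rw [hcomp, comp_map_subtype_iff hR, comp_map_equiv_iff] at h2
      exact h2
    · apply Subgroup.map_injective H.subtype_injective
      refine h3 _ (isSubnormal_map_subtype hH hA) (Subgroup.map_mono hle) ?_
      rw [hcomp, hcomp, himg]
  · rintro ⟨h1, h2, h3⟩
    refine ⟨isSubnormal_map_subtype hH h1, ?_, fun A hA hle himg => ?_⟩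
    · rw [hcomp, comp_map_subtype_iff hR, comp_map_equiv_iff]
      exact h2
    · have hAH : A ≤ H := hle.trans (map_subtype_le K)
      rw [← map_subgroupOf_eq_of_le hAH] at hle himg ⊢
      congr 1
      refine h3 _ hA.subgroupOf
        ((Subgroup.map_le_map_iff_of_injective H.subtype_injective).mp hle) ?_
      rw [hcomp, hcomp] at himg
      exact Subgroup.map_injective e.injective (Subgroup.map_injective R.subtype_injective himg)

end Cfsg.Lib.Components
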