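import Cfsg.Agent.Components.Cores

/-!
Subnormality helpers and quasisimple groups.
-/

set_option linter.style.haveILetI false

namespace Cfsg.Lib.Components

open Subgroup
open scoped commutatorElement

variable {G : Type*} [Group G] {G' : Type*} [Group G']

theorem exists_proper_normal {H : Subgroup G} (hH : H.IsSubnormal) (hne : H ≠ ⊤) :
    ∃ N : Subgroup G, N.Normal ∧ H ≤ N ∧ N ≠ ⊤ := by
  obtain ⟨K, hK, hle, hlt⟩ := hH.exists_normal_and_le_and_lt_top_of_ne hne
  exact ⟨K, hK, hle, hlt.ne⟩

theorem card_lt_of_ne_top [Finite G] {N : Subgroup G} (h : N ≠ ⊤) :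
    Nat.card N < Nat.card G := by
  refine lt_of_le_of_ne (Subgroup.card_le_card_group N) fun he => h ?_
  exact Subgroup.eq_top_of_card_eq N he

theorem isSubnormal_map_subtype {H : Subgroup G} (hH : H.IsSubnormal) {K : Subgroup H}
    (hK : K.IsSubnormal) : (K.map H.subtype).IsSubnormal :=
  hK.trans' hH

theorem isSubnormal_of_map_subtype {H : Subgroup G} {K : Subgroup H}
    (hK : (K.map H.subtype).IsSubnormal) : K.IsSubnormal := by
  have h : (K.map H.subtype).subgroupOf H = K := comap_map_eq_self_of_injective H.subtype_injective K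
  rw [← h]
  exact hK.subgroupOf

theorem isSubnormal_of_normal_in {H M : Subgroup G} (hM : M.IsSubnormal) (hHM : H ≤ M)
    (hn : M ≤ normalizer (H : Set G)) : H.IsSubnormal :=
  IsSubnormal.step H M hHM hM (normal_subgroupOf_of_le_normalizer hn)

theorem isSubnormal_conj {H : Subgroup G} (hH : H.IsSubnormal) (e : G ≃* G') :
    (H.map e.toMonoidHom).IsSubnormal :=
  hH.map e.surjective

/-! ### quasisimple groups -/

theorem qs_congr' (e : G ≃* G') (h : IsQuasisimple G) : IsQuasisimple G' := by
  refine ⟨?_, ?_⟩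
  · haveI := h.1
    exact Group.IsPerfect.ofSurjective (f := e.toMonoidHom) e.surjective
  · have hc : (center G).map e.toMonoidHom = center G' := by
      ext x
      simp only [mem_map, mem_center_iff]
      constructor
      · rintro ⟨y, hy, rfl⟩ g
        obtain ⟨g, rfl⟩ := e.surjective g
        simp only [MulEquiv.toMonoidHom_eq_coe, MonoidHom.coe_coe, ← map_mul]
        rw [hy]
      · intro hx
        refine ⟨e.symm x, fun g => ?_, by simp⟩
        apply e.injective
        simpa using hx (e g)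
    haveI := h.2
    exact (QuotientGroup.congr (center G) (center G') e hc).symm.isSimpleGroup

theorem isQuasisimple_congr (e : G ≃* G') : IsQuasisimple G ↔ IsQuasisimple G' :=
  ⟨qs_congr' e, qs_congr' e.symm⟩

theorem qs_center_ne_top (h : IsQuasisimple G) : center G ≠ ⊤ := by
  intro hc
  haveI := h.2
  have := (inferInstance : Nontrivial (G ⧸ center G))
  obtain ⟨x, y, hxy⟩ := this
  apply hxy
  induction x using QuotientGroup.induction_on with
  | H a =>
    induction y using QuotientGroup.induction_on with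
    | H b => exact QuotientGroup.eq.mpr (hc ▸ mem_top _)

theorem qs_nontrivial (h : IsQuasisimple G) : Nontrivial G := by
  by_contra hn
  haveI : Subsingleton G := not_nontrivial_iff_subsingleton.mp hn
  exact (qs_center_ne_top h) (Subsingleton.elim _ _)

theorem qs_commutator_top (h : IsQuasisimple G) : ⁅(⊤ : Subgroup G), (⊤ : Subgroup G)⁆ = ⊤ := by
  have := h.1
  rw [Group.isPerfect_def] at this
  exact this

theorem qs_not_isSolvable (h : IsQuasisimple G) : ¬ Group.IsSolvable G := by
  haveI := h.1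
  haveI := (qs_nontrivial h)
  exact Group.IsPerfect.not_isSolvable G

theorem qs_not_isMulCommutative (h : IsQuasisimple G) : ¬ IsMulCommutative G := by
  haveI := h.1
  haveI := (qs_nontrivial h)
  exact Group.IsPerfect.not_isMulCommutative G

/-- a subgroup which together with the centre generates a perfect group is everything -/
theorem eq_top_of_sup_center_eq_top (hp : ⁅(⊤ : Subgroup G), (⊤ : Subgroup G)⁆ = ⊤) {H : Subgroup G}
    (h : H ⊔ center G = ⊤) : H = ⊤ := by
  rw [eq_top_iff, ← hp, commutator_le]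
  intro a _ b _
  have ha : a ∈ H ⊔ center G := h ▸ mem_top a
  have hb : b ∈ H ⊔ center G := h ▸ mem_top b
  obtain ⟨a₁, ha₁, z, hz, rfl⟩ := mem_sup_of_normal_right.mp ha
  obtain ⟨b₁, hb₁, w, hw, rfl⟩ := mem_sup_of_normal_right.mp hb
  have hz' : ∀ g, g * z = z * g := mem_center_iff.mp hz
  have hw' : ∀ g, g * w = w * g := mem_center_iff.mp hw
  have : ⁅a₁ * z, b₁ * w⁆ = ⁅a₁, b₁⁆ := by
    simp only [commutatorElement_def, mul_inv_rev]
    calc a₁ * z * (b₁ * w) * (z⁻¹ * a₁⁻¹) * (w⁻¹ * b₁⁻¹)
        = a₁ * (z * (b₁ * w)) * (z⁻¹ * a₁⁻¹) * (w⁻¹ * b₁⁻¹) := by group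
      _ = a₁ * ((b₁ * w) * z) * (z⁻¹ * a₁⁻¹) * (w⁻¹ * b₁⁻¹) := by rw [hz']
      _ = a₁ * b₁ * (w * a₁⁻¹) * (w⁻¹ * b₁⁻¹) := by group
      _ = a₁ * b₁ * (a₁⁻¹ * w) * (w⁻¹ * b₁⁻¹) := by rw [hw']
      _ = a₁ * b₁ * a₁⁻¹ * b₁⁻¹ := by group
  rw [this]
  exact H.mul_mem (H.mul_mem (H.mul_mem ha₁ hb₁) (H.inv_mem ha₁)) (H.inv_mem hb₁)

theorem qs_subnormal_eq_top_or_le_center (h : IsQuasisimple G) {H : Subgroup G}
    (hH : H.IsSubnormal) : H = ⊤ ∨ H ≤ center G := by
  rcases (hH.quotient (K := center G)).eq_bot_or_top_of_isSimpleGroup h.2 with h1 | h1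
  · right
    rw [Subgroup.map_eq_bot_iff, QuotientGroup.ker_mk'] at h1
    exact h1
  · left
    apply eq_top_of_sup_center_eq_top (qs_commutator_top h)
    have := congrArg (comap (QuotientGroup.mk' (center G))) h1
    rwa [comap_map_eq, QuotientGroup.ker_mk', comap_top] at this

theorem isQuasisimple_of_perfect_of_subnormal [Finite G] (hne : Nontrivial G)
    (hp : ⁅(⊤ : Subgroup G), (⊤ : Subgroup G)⁆ = ⊤)
    (h : ∀ N : Subgroup G, N.Normal → N ≠ ⊤ → N ≤ center G) : IsQuasisimple G := by
  refine ⟨⟨hp⟩, ?_⟩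
  have hc : center G ≠ ⊤ := by
    intro hc
    haveI : Group.IsPerfect G := ⟨hp⟩
    exact Group.IsPerfect.not_isMulCommutative G ((_root_.commutator_eq_bot_iff G).mp
      ((_root_.commutator_eq_bot_iff_center_eq_top (G := G)).mpr hc))
  haveI : Nontrivial (G ⧸ center G) := QuotientGroup.nontrivial_iff.mpr hc
  constructor
  intro N hN
  have hle : center G ≤ N.comap (QuotientGroup.mk' (center G)) := by
    intro x hx
    simp [mem_comap, (QuotientGroup.eq_one_iff x).mpr hx]
  by_cases htop : N.comap (QuotientGroup.mk' (center G)) = ⊤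
  · right
    rw [← map_comap_eq_self_of_surjective (QuotientGroup.mk'_surjective _) N, htop,
      map_top_of_surjective _ (QuotientGroup.mk'_surjective _)]
  · left
    rw [← map_comap_eq_self_of_surjective (QuotientGroup.mk'_surjective _) N, Subgroup.map_eq_bot_iff,
      QuotientGroup.ker_mk']
    exact h _ inferInstance htop

end Cfsg.Lib.Components
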