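import Cfsg.Agent.Components.PxQ

/-!
Centralizers and normalizers of `p`-subgroups: the `p'`-core and `p`-components of a local
subgroup against `O_p`, and the components of a group with trivial `p'`-core.
-/

set_option linter.style.haveILetI false
set_option linter.unusedSectionVars false

namespace Cfsg.Lib.Components

open Subgroup
open scoped commutatorElement

universe u

variable {G : Type u} [Group G] [Finite G] {p : ℕ} [Fact p.Prime]

theorem coprime_pGroup_disjoint {A B : Subgroup G} (hA : IsPGroup p A)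
    (hB : (Nat.card B).Coprime p) : A ⊓ B = ⊥ := by
  refine Subgroup.eq_bot_of_card_eq _ ?_
  obtain ⟨k, hk⟩ := IsPGroup.iff_card.mp (hA.to_le (inf_le_left : A ⊓ B ≤ A))
  have hd : Nat.card ↥(A ⊓ B) ∣ Nat.card B := Subgroup.card_dvd_of_le inf_le_right
  rcases k with _ | k
  · simpa using hk
  · exfalso
    exact (Fact.out : p.Prime).coprime_iff_not_dvd.mp hB.symm
      (dvd_trans ⟨p ^ k, by rw [hk, pow_succ']⟩ hd)

theorem relIndex_dvd_index_of_normal_right (S E : Subgroup G) [E.Normal] :
    S.relIndex E ∣ S.index := by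
  refine dvd_trans ?_ (relIndex_dvd_index_of_le (le_sup_left : S ≤ S ⊔ E))
  have key : ∀ H K : Subgroup G, H ≤ K → Nat.card H * H.relIndex K = Nat.card K := fun H K hle => by
    have := relIndex_mul_relIndex ⊥ H K bot_le hle
    rwa [relIndex_bot_left, relIndex_bot_left] at this
  have h1 := key S (S ⊔ E) le_sup_left
  have h2 := key E (S ⊔ E) le_sup_right
  rw [relIndex_sup_right] at h2
  have h3 := key (S ⊓ E) E inf_le_right
  rw [inf_relIndex_right] at h3
  have h4 := key (S ⊓ E) S inf_le_left
  rw [inf_relIndex_left] at h4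
  have h5 : Nat.card S * S.relIndex E = Nat.card ↥(S ⊔ E) := by
    rw [← h2, ← h3, ← h4]; ring
  rw [Nat.eq_of_mul_eq_mul_left Nat.card_pos (h5.trans h1.symm)]

theorem relIndex_dvd_relIndex_of_normal_left (Z : Subgroup G) [Z.Normal] {L E : Subgroup G}
    (h : L ≤ E) : Z.relIndex L ∣ Z.relIndex E := by
  have h1 := relIndex_dvd_index_of_normal (H := Z.subgroupOf E) (L.subgroupOf E)
  rwa [relIndex_subgroupOf h] at h1

theorem map_subtype_le_centralizer {H : Subgroup G} {A B : Subgroup H} (h : ⁅A, B⁆ = ⊥) :
    A.map H.subtype ≤ centralizer (B.map H.subtype : Set G) := by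
  rw [← commutator_eq_bot_iff_le_centralizer, ← map_commutator, h, Subgroup.map_bot]

theorem pPrimeCore_commute_pCore : ⁅pPrimeCore p G, pCore p G⁆ = ⊥ := by
  rw [← le_bot_iff]
  refine (commutator_le_inf _ _).trans (le_of_eq ?_)
  rw [inf_comm]
  exact coprime_pGroup_disjoint (isPGroup_pCore p) (coprime_card_pPrimeCore p)

theorem pcomp_commute_pCore {K : Subgroup G} (hK : IsPComponent p K) :
    ⁅K, pCore p G⁆ = ⊥ := by
  have h1 : ⁅K, pCore p G⁆ ≤ pPrimeCore p G := by
    rw [← QuotientGroup.ker_mk' (pPrimeCore p G), ← Subgroup.map_eq_bot_iff, map_commutator]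
    haveI : ((pCore p G).map (QuotientGroup.mk' (pPrimeCore p G))).Normal :=
      (pCore_normal' p).map _ (QuotientGroup.mk'_surjective _)
    have hpg : IsPGroup p ((pCore p G).map (QuotientGroup.mk' (pPrimeCore p G))) :=
      (isPGroup_pCore p).map _
    haveI := hpg.isNilpotent
    exact comp_commute_of_solvable hK.2.1 inferInstance (by rw [normalizer_eq_top]; exact le_top)
  rw [← le_bot_iff]
  refine (le_inf h1 (commutator_le_right (H₁ := K) (H₂ := pCore p G))).trans (le_of_eq ?_)
  rw [inf_comm]
  exact coprime_pGroup_disjoint (isPGroup_pCore p) (coprime_card_pPrimeCore p)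

theorem pGroup_le_pCore_normalizer {P : Subgroup G} (hP : IsPGroup p P) :
    P ≤ (pCore p ↥(normalizer (P : Set G))).map (normalizer (P : Set G)).subtype := by
  haveI : (P.subgroupOf (normalizer (P : Set G))).Normal :=
    normal_subgroupOf_of_le_normalizer le_rfl
  refine le_trans (map_subgroupOf_eq_of_le (le_normalizer (H := P))).ge ?_
  exact Subgroup.map_mono (le_pCore (N := P.subgroupOf (normalizer (P : Set G)))
    (hP.of_equiv (subgroupOfEquivOfLe le_normalizer).symm))

theorem inf_normalizer_le_pCore {W P : Subgroup G} [W.Normal] (hW : IsPGroup p W) :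
    W ⊓ normalizer (P : Set G) ≤
      (pCore p ↥(normalizer (P : Set G))).map (normalizer (P : Set G)).subtype := by
  rw [← subgroupOf_map_subtype]
  refine Subgroup.map_mono (le_pCore ?_)
  rw [← inf_subgroupOf_right]
  exact (hW.to_le inf_le_left).of_equiv (subgroupOfEquivOfLe inf_le_right).symm

theorem centralizer_inf_le_inf_normalizer (W P : Subgroup G) :
    W ⊓ centralizer (P : Set G) ≤ W ⊓ normalizer (P : Set G) :=
  inf_le_inf_left _ (centralizer_le_normalizer _)

/-- a `p'`-element of `N(P)` centralizing `O_p(N(P))` centralizes every normal `p`-subgroup -/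
theorem pPrime_element_centralizes {P W : Subgroup G} (hP : IsPGroup p P) [hWn : W.Normal]
    (hW : IsPGroup p W) {x : G} (hx : (orderOf x).Coprime p)
    (hc : x ∈ centralizer
      ((pCore p ↥(normalizer (P : Set G))).map (normalizer (P : Set G)).subtype : Set G)) :
    x ∈ centralizer (W : Set G) := by
  rw [mem_centralizer_iff]
  intro w hw
  refine mem_centralizer_singleton_iff.mp
    (pxq_element hx hP ?_ W hW (by rw [normalizer_eq_top]; exact le_top)
      (by rw [normalizer_eq_top]; exact mem_top x) ?_ hw)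
  · rw [mem_centralizer_iff] at hc ⊢
    exact fun u hu => hc u (pGroup_le_pCore_normalizer hP hu)
  · intro c hc'
    rw [mem_centralizer_singleton_iff]
    exact mem_centralizer_iff.mp hc c
      (inf_normalizer_le_pCore hW (centralizer_inf_le_inf_normalizer W P hc'))

theorem perfect_centralizes {P W K : Subgroup G} (hP : IsPGroup p P) [hWn : W.Normal]
    (hW : IsPGroup p W) (hperf : ⁅K, K⁆ = K)
    (hc : K ≤ centralizer
      ((pCore p ↥(normalizer (P : Set G))).map (normalizer (P : Set G)).subtype : Set G)) :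
    K ≤ centralizer (W : Set G) :=
  perfect_le_of_pPrime_elements hperf (by rw [normalizer_eq_top]; exact le_top)
    fun x hx ho => pPrime_element_centralizes hP hW ho (hc hx)

theorem local_pPrimeCore_centralizes {P W : Subgroup G} (hP : IsPGroup p P) [hWn : W.Normal]
    (hW : IsPGroup p W) :
    (pPrimeCore p ↥(normalizer (P : Set G))).map (normalizer (P : Set G)).subtype ≤
      centralizer (W : Set G) := by
  intro x hx
  refine pPrime_element_centralizes hP hW ?_
    (map_subtype_le_centralizer pPrimeCore_commute_pCore hx)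
  refine Nat.Coprime.coprime_dvd_left (Subgroup.orderOf_dvd_natCard _ hx) ?_
  rw [← Nat.card_congr (Subgroup.equivMapOfInjective _ _ (normalizer (P : Set G)).subtype_injective).toEquiv]
  exact coprime_card_pPrimeCore p

theorem local_pcomp_centralizes {P W : Subgroup G} (hP : IsPGroup p P) [hWn : W.Normal]
    (hW : IsPGroup p W) {K : Subgroup ↥(normalizer (P : Set G))} (hK : IsPComponent p K) :
    K.map (normalizer (P : Set G)).subtype ≤ centralizer (W : Set G) :=
  perfect_centralizes hP hW (by rw [← map_commutator, pcomp_perfect hK])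
    (map_subtype_le_centralizer (pcomp_commute_pCore hK))

theorem local_comp_centralizes {P W : Subgroup G} (hP : IsPGroup p P) [hWn : W.Normal]
    (hW : IsPGroup p W) {K : Subgroup ↥(normalizer (P : Set G))} (hK : IsComponent K) :
    K.map (normalizer (P : Set G)).subtype ≤ centralizer (W : Set G) := by
  refine perfect_centralizes hP hW (by rw [← map_commutator, comp_perfect hK])
    (map_subtype_le_centralizer ?_)
  haveI := (isPGroup_pCore (G := ↥(normalizer (P : Set G))) p).isNilpotent
  exact comp_commute_of_solvable hK inferInstance (le_top.trans (normalizer_eq_top _).ge)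

theorem comap_layer_eq :
    (layer (G ⧸ pPrimeCore p G)).comap (QuotientGroup.mk' (pPrimeCore p G))
      = pLayer p G ⊔ pPrimeCore p G := by
  rw [← pLayer_map_q, comap_map_q]

/-- the preimage of `E(N/O_{p'}(N))` for `N = N(P)` centralizes every normal `p`-subgroup -/
theorem local_layerPre_centralizes {P W : Subgroup G} (hP : IsPGroup p P) [hWn : W.Normal]
    (hW : IsPGroup p W) :
    ((layer (↥(normalizer (P : Set G)) ⧸ pPrimeCore p ↥(normalizer (P : Set G)))).comap
        (QuotientGroup.mk' (pPrimeCore p ↥(normalizer (P : Set G))))).map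
        (normalizer (P : Set G)).subtype ≤ centralizer (W : Set G) := by
  rw [comap_layer_eq, Subgroup.map_sup]
  refine sup_le ?_ (local_pPrimeCore_centralizes hP hW)
  rw [pLayer, sSup_eq_iSup, Subgroup.map_iSup]
  refine iSup_le fun K => ?_
  rw [Subgroup.map_iSup]
  exact iSup_le fun hK => local_pcomp_centralizes hP hW hK

/-! ### `F* = O_p` -/

theorem fitting_eq_pCore (h : pPrimeCore p G = ⊥) : fittingSubgroup G = pCore p G := by
  refine le_antisymm ?_ (le_fitting (isPGroup_pCore p).isNilpotent)
  rw [fitting_eq_iSup_pCore]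
  refine iSup_le fun r => ?_
  by_cases hr : (r : ℕ) = p
  · rw [hr]
  · haveI := Fact.mk r.2
    obtain ⟨k, hk⟩ := IsPGroup.iff_card.mp (isPGroup_pCore (G := G) r.1)
    have : pCore r.1 G ≤ pPrimeCore p G := le_pPrimeCore (by
      rw [hk]; exact Nat.Coprime.pow_left _ ((Nat.coprime_primes r.2 (Fact.out : p.Prime)).mpr hr))
    rw [h] at this
    exact this.trans bot_le

theorem genFitting_eq_pCore_iff :
    generalizedFittingSubgroup G = pCore p G ↔ pPrimeCore p G = ⊥ ∧ layer G = ⊥ := by
  constructor
  · intro h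
    have hl : layer G ≤ pCore p G := h ▸ layer_le_genFitting
    have hlayer : layer G = ⊥ := by
      rw [← le_bot_iff]
      refine sSup_le fun L hL => ?_
      haveI := ((isPGroup_pCore p).to_le ((comp_le_layer hL).trans hl)).isNilpotent
      exact (comp_not_isSolvable hL inferInstance).elim
    refine ⟨?_, hlayer⟩
    have hc : pPrimeCore p G ≤ centralizer (generalizedFittingSubgroup G : Set G) := by
      rw [h, ← commutator_eq_bot_iff_le_centralizer]
      exact pPrimeCore_commute_pCore
    have := (le_inf (hc.trans (h ▸ centralizer_genFitting_le)) le_rfl :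
      pPrimeCore p G ≤ pCore p G ⊓ pPrimeCore p G)
    rwa [coprime_pGroup_disjoint (isPGroup_pCore p) (coprime_card_pPrimeCore p), le_bot_iff] at this
  · rintro ⟨h1, h2⟩
    rw [generalizedFittingSubgroup, h2, bot_sup_eq, fitting_eq_pCore h1]

/-! ### components and local subgroups -/

theorem center_layer_isPGroup (hO : pPrimeCore p G = ⊥) :
    IsPGroup p ↥(layer G ⊓ centralizer (layer G : Set G)) := by
  have h : layer G ⊓ centralizer (layer G : Set G) ≤ pCore p G := by
    rw [layer_inf_centralizer_eq_fitting, fitting_eq_pCore hO]; exact inf_le_left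
  exact (isPGroup_pCore p).to_le h

theorem conj_sSup (s : Set (Subgroup G)) (g : G) :
    (sSup s).map (MulAut.conj g).toMonoidHom
      = sSup ((fun L : Subgroup G => L.map (MulAut.conj g).toMonoidHom) '' s) := by
  rw [sSup_eq_iSup, Subgroup.map_iSup, sSup_image]
  exact iSup_congr fun L => Subgroup.map_iSup _ _

theorem map_conj_mul (L : Subgroup G) (a b : G) :
    (L.map (MulAut.conj b).toMonoidHom).map (MulAut.conj a).toMonoidHom
      = L.map (MulAut.conj (a * b)).toMonoidHom := by
  rw [map_map]; congr 1; rw [map_mul]; rfl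

theorem map_conj_one (L : Subgroup G) : L.map (MulAut.conj (1 : G)).toMonoidHom = L := by
  rw [map_one]; exact Subgroup.map_id L

/-- the `P`-orbit of a component is mapped to itself by an element commuting with `P` whose
commutators with `E(G) ∩ N(P)` have order prime to `p` -/
theorem orbit_stable (hO : pPrimeCore p G = ⊥) {P : Subgroup G} (hP : IsPGroup p P)
    (hZ : layer G ⊓ centralizer (layer G : Set G) ≤ P) {x : G} (hxP : x ∈ centralizer (P : Set G))
    (hx : ∀ d ∈ layer G ⊓ normalizer (P : Set G), (orderOf ⁅x, d⁆).Coprime p)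
    {L : Subgroup G} (hL : IsComponent L) :
    ∃ u ∈ P, L.map (MulAut.conj x).toMonoidHom = L.map (MulAut.conj u).toMonoidHom := by
  by_contra hne
  push Not at hne
  set O : Set (Subgroup G) := (fun u => L.map (MulAut.conj u).toMonoidHom) '' (P : Set G) with hOdef
  have hOc : ∀ M ∈ O, IsComponent M := by
    rintro M ⟨u, _, rfl⟩; exact comp_conj hL u
  set E := sSup O with hE
  have hEl : E ≤ layer G := sSup_le fun M hM => comp_le_layer (hOc M hM)
  set Z := layer G ⊓ centralizer (layer G : Set G) with hZdef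
  haveI : Z.Normal := inferInstance
  have hPE : P ≤ normalizer (E : Set G) := by
    intro u hu
    rw [mem_normalizer_iff_map_conj_eq]
    show (sSup O).map (MulAut.conj u).toMonoidHom = sSup O
    rw [conj_sSup]
    congr 1
    ext M
    constructor
    · rintro ⟨_, ⟨v, hv, rfl⟩, rfl⟩
      exact ⟨u * v, mul_mem hu hv, (map_conj_mul L u v).symm⟩
    · rintro ⟨v, hv, rfl⟩
      refine ⟨_, ⟨u⁻¹ * v, mul_mem (inv_mem hu) hv, rfl⟩, ?_⟩
      show (L.map _).map _ = _
      rw [map_conj_mul, mul_inv_cancel_left]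
  -- a Sylow subgroup of `E` normalized by `P`
  set N := normalizer (E : Set G) with hN
  obtain ⟨S, hPS⟩ := (hP.of_equiv (subgroupOfEquivOfLe hPE).symm).exists_le_sylow
  haveI : (E.subgroupOf N).Normal := normal_subgroupOf_of_le_normalizer le_rfl
  set S' : Subgroup G := (S : Subgroup ↥N).map N.subtype with hS'
  set A := S' ⊓ E with hA
  have hPS'' : P.subgroupOf N ≤ (S : Subgroup ↥N) := hPS
  have hPS' : P ≤ S' := by
    rw [← map_subgroupOf_eq_of_le hPE]; exact Subgroup.map_mono hPS''
  have hS'p : IsPGroup p S' := S.2.map _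
  have hS'A : S' ≤ normalizer (A : Set G) := by
    intro s hs
    refine (inf_normalizer_le_normalizer_inf (H := S') (K := E)) ⟨le_normalizer hs, ?_⟩
    obtain ⟨s', _, rfl⟩ := hs
    exact s'.2
  have hAE : ¬ A ≤ Z := by
    intro hle
    have hp1 : p ∣ (center L).index :=
      qs_dvd_index_center hL.2 (comp_center_isPGroup hO hL) (comp_dvd_card hO hL)
    have hLE : L ≤ E := le_sSup ⟨1, P.one_mem, map_conj_one L⟩
    have hEN : E ≤ N := le_normalizer
    -- index of `A` in `E`
    have h1 : ¬ p ∣ A.relIndex E := by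
      have h2 : (S : Subgroup ↥N).relIndex (E.subgroupOf N) = A.relIndex E := by
        rw [← relIndex_map_map_of_injective _ _ N.subtype_injective, map_subgroupOf_eq_of_le hEN,
          hA, inf_relIndex_right]
      rw [← h2]
      intro h
      exact S.not_dvd_index (h.trans (relIndex_dvd_index_of_normal_right (S : Subgroup ↥N) (E.subgroupOf N)))
    have h3 : Z.relIndex E ∣ A.relIndex E := relIndex_dvd_of_le_left E hle
    have h4 : Z.relIndex L ∣ Z.relIndex E := relIndex_dvd_relIndex_of_normal_left Z hLE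
    have h5 : Z.relIndex L = (center L).index := by
      rw [relIndex]
      congr 1
      ext l
      rw [mem_subgroupOf, mem_center_iff]
      constructor
      · intro hl m
        exact Subtype.ext (mem_centralizer_iff.mp hl.2 m (comp_le_layer hL m.2))
      · intro hl
        have hmem : (l : G) ∈ L ⊓ centralizer (L : Set G) :=
          ⟨l.2, mem_centralizer_iff.mpr fun m hm => congrArg Subtype.val (hl ⟨m, hm⟩)⟩
        exact layer_inf_centralizer_eq.ge
          (le_iSup (fun L : {K : Subgroup G // IsComponent K} =>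
            (L : Subgroup G) ⊓ centralizer ((L : Subgroup G) : Set G)) ⟨L, hL⟩ hmem)
    exact h1 ((h5 ▸ hp1).trans (h4.trans h3))
  obtain ⟨M, ⟨hMA, hMn, hMZ⟩, hmin⟩ := WellFounded.has_min (wellFounded_lt (α := Subgroup G))
    {M | M ≤ A ∧ S' ≤ normalizer (M : Set G) ∧ ¬ M ≤ Z} ⟨A, le_rfl, hS'A, hAE⟩
  have hMp : IsPGroup p M := hS'p.to_le (hMA.trans inf_le_left)
  have hMne : M ≠ ⊥ := fun h => hMZ (h ▸ bot_le)
  have hlt : ⁅M, S'⁆ < M := commutator_pGroup_lt hMp hS'p hMn hMne
  have hMSZ : ⁅M, S'⁆ ≤ Z := by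
    by_contra h
    exact hmin _ ⟨hlt.le.trans hMA, normalizer_commutator_ge_right M S', h⟩ hlt
  obtain ⟨d, hdM, hdZ⟩ := SetLike.not_le_iff_exists.mp hMZ
  have hdE : d ∈ E := (hMA hdM).2
  have hdl : d ∈ layer G := hEl hdE
  have hdN : d ∈ normalizer (P : Set G) := by
    rw [mem_normalizer_iff_map_conj_eq]
    refine Subgroup.eq_of_le_of_card_ge ?_ ?_
    · rintro _ ⟨u, hu, rfl⟩
      have h1 : ⁅d, u⁆ ∈ P := hZ (hMSZ (commutator_mem_commutator hdM (hPS' hu)))
      have := P.mul_mem h1 hu
      simpa [commutatorElement_def] using this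
    · exact (Nat.card_congr
        (Subgroup.equivMapOfInjective P _ (MulAut.conj d).injective).toEquiv).le
  set d' := x * d * x⁻¹ with hd'
  -- the image of the orbit under `x` is disjoint from the orbit
  set O' : Set (Subgroup G) := (fun L : Subgroup G => L.map (MulAut.conj x).toMonoidHom) '' O
  have hdisj : ∀ M ∈ O, ∀ M' ∈ O', M ≠ M' := by
    rintro _ ⟨u, hu, rfl⟩ _ ⟨_, ⟨v, hv, rfl⟩, rfl⟩ h
    apply hne (v⁻¹ * u) (mul_mem (inv_mem hv) hu)
    have h' := congrArg (Subgroup.map (MulAut.conj v⁻¹).toMonoidHom) h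
    simp only [map_conj_mul] at h'
    rw [h', show x * v = v * x from (mem_centralizer_iff.mp hxP v hv).symm, inv_mul_cancel_left]
  have hd'E : d' ∈ sSup O' := by
    rw [← conj_sSup]; exact ⟨d, hdE, rfl⟩
  have hcomm : ⁅E, sSup O'⁆ = ⊥ := by
    rw [commutator_eq_bot_iff_le_centralizer]
    refine sSup_le fun M hM => ?_
    rw [← commutator_eq_bot_iff_le_centralizer, commutator_comm,
      commutator_eq_bot_iff_le_centralizer]
    refine sSup_le fun M' hM' => ?_
    rw [← commutator_eq_bot_iff_le_centralizer]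
    obtain ⟨M₀, hM₀, rfl⟩ := hM'
    exact comp_commute (comp_conj (hOc M₀ hM₀) x) (hOc M hM) (hdisj M hM _ ⟨M₀, hM₀, rfl⟩).symm
  have hc : Commute d d' := commute_of_commutator_eq_bot hcomm hdE hd'E
  obtain ⟨a, ha⟩ := hMp ⟨d, hdM⟩
  have ha' : d ^ p ^ a = 1 := congrArg Subtype.val ha
  have hpow : ⁅x, d⁆ ^ p ^ a = 1 := by
    rw [commutatorElement_def, ← hd', hc.symm.inv_right.mul_pow, inv_pow, ha', hd', conj_pow, ha']
    simp
  have h1 : ⁅x, d⁆ = 1 := by
    have h2 := pow_gcd_eq_one.mpr ⟨hpow, pow_orderOf_eq_one ⁅x, d⁆⟩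
    rwa [((hx d ⟨hdl, hdN⟩).symm.pow_left a).gcd_eq_one, pow_one] at h2
  have hdd : d' = d := by
    rw [hd', commutatorElement_eq_one_iff_mul_comm.mp h1, mul_inv_cancel_right]
  apply hdZ
  refine ⟨hdl, ?_⟩
  have hall : layer G ≤ centralizer ({d} : Set G) := by
    refine sSup_le fun M hM m hm => ?_
    rw [mem_centralizer_singleton_iff]
    by_cases hMO : M ∈ O
    · refine commute_of_commutator_eq_bot (A := M) (B := sSup O') ?_ hm (hdd ▸ hd'E)
      exact le_bot_iff.mp ((commutator_mono (le_sSup hMO) le_rfl).trans hcomm.le)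
    · refine commute_of_commutator_eq_bot (A := M) (B := E) ?_ hm hdE
      rw [commutator_comm, commutator_eq_bot_iff_le_centralizer]
      refine sSup_le fun M' hM' => ?_
      rw [← commutator_eq_bot_iff_le_centralizer]
      exact comp_commute (hOc M' hM') hM fun h => hMO (h ▸ hM')
  exact mem_centralizer_iff.mpr fun m hm => mem_centralizer_singleton_iff.mp (hall hm)

theorem fixes_of_orbit_stable (hO : pPrimeCore p G = ⊥) {P : Subgroup G} (hP : IsPGroup p P)
    (hZ : layer G ⊓ centralizer (layer G : Set G) ≤ P) {x : G} (hxP : x ∈ centralizer (P : Set G))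
    (hxo : (orderOf x).Coprime p)
    (hx : ∀ d ∈ layer G ⊓ normalizer (P : Set G), (orderOf ⁅x, d⁆).Coprime p)
    {L : Subgroup G} (hL : IsComponent L) : x ∈ normalizer (L : Set G) := by
  obtain ⟨u, hu, hxu⟩ := orbit_stable hO hP hZ hxP hx hL
  have hcm : Commute u x := mem_centralizer_iff.mp hxP u hu
  have hfix : u⁻¹ * x ∈ normalizer (L : Set G) := by
    rw [mem_normalizer_iff_map_conj_eq]
    show L.map (MulAut.conj (u⁻¹ * x)).toMonoidHom = L
    rw [← map_conj_mul, hxu, map_conj_mul, inv_mul_cancel, map_conj_one]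
  obtain ⟨a, ha⟩ := hP ⟨u, hu⟩
  have ha' : u ^ p ^ a = 1 := congrArg Subtype.val ha
  -- `x` and `u⁻¹ * x` generate the same action
  have h1 : x ^ p ^ a ∈ normalizer (L : Set G) := by
    have := pow_mem hfix (p ^ a)
    rwa [hcm.inv_left.mul_pow, inv_pow, ha', inv_one, one_mul] at this
  obtain ⟨m, hm⟩ := exists_pow_eq_self_of_coprime (hxo.symm.pow_left a)
  exact hm ▸ pow_mem h1 m

end Cfsg.Lib.Components
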