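import Cfsg.Agent.Components.LocalBalance

/-!
Groups of characteristic `p`: `C(O_p(G)) ≤ O_p(G)`.
-/

set_option linter.style.haveILetI false
set_option linter.unusedSectionVars false

namespace Cfsg.Lib.Components

open Subgroup
open scoped commutatorElement

universe u

variable {G : Type u} [Group G] [Finite G] {p : ℕ} [Fact p.Prime]

/-- `C(O_p(G)) ≤ O_p(G)` -/
def CharPGroup (p : ℕ) (G : Type*) [Group G] : Prop :=
  centralizer (pCore p G : Set G) ≤ pCore p G

theorem charP_iff : CharPGroup p G ↔ pPrimeCore p G = ⊥ ∧ layer G = ⊥ := by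
  constructor
  · intro h
    have key : ∀ A : Subgroup G, A ≤ centralizer (pCore p G : Set G) → IsPGroup p A := fun A hA =>
      (isPGroup_pCore p).to_le (hA.trans h)
    refine ⟨?_, ?_⟩
    · have h1 := coprime_pGroup_disjoint
        (key _ (commutator_eq_bot_iff_le_centralizer.mp pPrimeCore_commute_pCore))
        (coprime_card_pPrimeCore p)
      rwa [inf_idem] at h1
    · rw [← le_bot_iff]
      refine sSup_le fun L hL => ?_
      haveI := (isPGroup_pCore (G := G) p).isNilpotent
      haveI := (key L ((comp_le_layer hL).trans
        (layer_le_centralizer_solvable_normal inferInstance))).isNilpotent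
      exact (comp_not_isSolvable hL inferInstance).elim
  · intro h
    have := centralizer_genFitting_le (G := G)
    rwa [genFitting_eq_pCore_iff.mpr h] at this

theorem charP_iff_genFitting :
    CharPGroup p G ↔ generalizedFittingSubgroup G = pCore p G :=
  charP_iff.trans genFitting_eq_pCore_iff.symm

theorem charP_congr {G' : Type u} [Group G'] [Finite G'] (e : G ≃* G') (h : CharPGroup p G) :
    CharPGroup p G' := by
  rw [charP_iff] at h ⊢
  exact ⟨by rw [← pPrimeCore_map_equiv e, h.1, Subgroup.map_bot],
    by rw [← layer_map_equiv e, h.2, Subgroup.map_bot]⟩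

theorem charP_subnormal {Y : Subgroup G} (h : CharPGroup p G) (hY : Y.IsSubnormal) :
    CharPGroup p Y := by
  rw [charP_iff] at h ⊢
  constructor
  · apply Subgroup.map_injective Y.subtype_injective
    rw [pPrimeCore_map_subtype_eq hY, h.1, bot_inf_eq, Subgroup.map_bot]
  · apply Subgroup.map_injective Y.subtype_injective
    rw [Subgroup.map_bot, ← le_bot_iff, ← h.2]
    exact (layer_map_subtype_le hY).trans inf_le_left

/-- if a subnormal subgroup contains the core and the components and has characteristic `p`, so
has the group -/
theorem charP_of_subnormal {R : Subgroup G} (hR : R.IsSubnormal) (h : CharPGroup p R)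
    (hcore : pPrimeCore p G ≤ R) (hcomp : ∀ L : Subgroup G, IsComponent L → L ≤ R) :
    CharPGroup p G := by
  rw [charP_iff] at h ⊢
  constructor
  · have h1 := pPrimeCore_map_subtype_eq (p := p) hR
    rw [h.1, Subgroup.map_bot, inf_eq_left.mpr hcore] at h1
    exact h1.symm
  · rw [← le_bot_iff]
    refine sSup_le fun L hL => ?_
    have h1 := comp_le_layer (comp_subgroupOf hL (hcomp L hL))
    rw [h.2, le_bot_iff, subgroupOf_eq_bot] at h1
    exact (comp_ne_bot hL (h1.eq_bot_of_le (hcomp L hL))).elim

/-- if the centralizer of `O_p(G)` lies in a subgroup of characteristic `p`, so has `G`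
characteristic `p` -/
theorem charP_of_centralizer_le {U : Subgroup G}
    (hU : centralizer (pCore p G : Set G) ≤ U) (h : CharPGroup p U) : CharPGroup p G := by
  set C := centralizer (pCore p G : Set G)
  haveI : C.Normal := inferInstance
  haveI := (isPGroup_pCore (G := G) p).isNilpotent
  refine charP_of_subnormal (Subgroup.Normal.isSubnormal (inferInstance : C.Normal)) ?_
    (commutator_eq_bot_iff_le_centralizer.mp pPrimeCore_commute_pCore)
    (fun L hL => (comp_le_layer hL).trans (layer_le_centralizer_solvable_normal inferInstance))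
  exact charP_congr (subgroupOfEquivOfLe hU)
    (charP_subnormal h (inferInstance : (C.subgroupOf U).Normal).isSubnormal)

theorem charP_normalizer_subgroup (h : CharPGroup p G) {P : Subgroup G} (hP : IsPGroup p P) :
    CharPGroup p ↥(normalizer (P : Set G)) := by
  have key : ∀ A : Subgroup ↥(normalizer (P : Set G)),
      A.map (normalizer (P : Set G)).subtype ≤ centralizer (pCore p G : Set G) → IsPGroup p A := by
    intro A hA
    exact ((isPGroup_pCore p).to_le (hA.trans h)).of_equiv
      (equivMapOfInjective A _ (normalizer (P : Set G)).subtype_injective).symm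
  rw [charP_iff]
  constructor
  · have h2 := coprime_pGroup_disjoint
      (key _ (local_pPrimeCore_centralizes hP (isPGroup_pCore p))) (coprime_card_pPrimeCore p)
    rwa [inf_idem] at h2
  · rw [← le_bot_iff]
    refine sSup_le fun K hK => ?_
    haveI := (key _ (local_comp_centralizes hP (isPGroup_pCore p) hK)).isNilpotent
    exact (comp_not_isSolvable hK inferInstance).elim

/-- a subgroup normalized by `O_p(G)` inherits characteristic `p` -/
theorem charP_of_normalized (h : CharPGroup p G) {L : Subgroup G}
    (hL : pCore p G ≤ normalizer (L : Set G)) : CharPGroup p L := by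
  set Q := pCore p G with hQ
  have hcomm : ∀ A : Subgroup L, ⁅A.map L.subtype, Q⁆ ≤ (pCore p L).map L.subtype := by
    intro A
    have h1 : ⁅A.map L.subtype, Q⁆ ≤ L ⊓ Q := le_inf
      ((commutator_mono (map_subtype_le A) le_rfl).trans
        (le_normalizer_iff_commutator_le_left.mp hL)) (commutator_le_right (A.map L.subtype) Q)
    refine h1.trans ?_
    rw [inf_comm, ← subgroupOf_map_subtype]
    refine Subgroup.map_mono (le_pCore ?_)
    rw [← inf_subgroupOf_right]
    exact ((isPGroup_pCore p).to_le inf_le_left).of_equiv (subgroupOfEquivOfLe inf_le_right).symm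
  have hkill : ∀ A : Subgroup L, A.map L.subtype ≤ centralizer (Q : Set G) → IsPGroup p A :=
    fun A hA => ((isPGroup_pCore p).to_le (hA.trans h)).of_equiv
      (equivMapOfInjective A _ L.subtype_injective).symm
  rw [charP_iff]
  constructor
  · have hle : (pPrimeCore p L).map L.subtype ≤ centralizer (Q : Set G) := by
      rintro _ ⟨x, hx, rfl⟩
      rw [mem_centralizer_iff]
      intro u hu
      refine (centralize_of_commutator_fixed (isPGroup_pCore p) ?_ ?_ hu ?_).symm
      · rw [orderOf_injective _ L.subtype_injective]
        exact (coprime_card_pPrimeCore p).coprime_dvd_left (Subgroup.orderOf_dvd_natCard _ hx)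
      · rw [normalizer_eq_top]; exact mem_top _
      · have h1 := hcomm _ (commutator_mem_commutator (mem_map_of_mem L.subtype hx) hu)
        have h2 := mem_centralizer_iff.mp
          (map_subtype_le_centralizer pPrimeCore_commute_pCore (mem_map_of_mem L.subtype hx)) _ h1
        rw [← h2, mul_inv_cancel_right]
    have h2 := coprime_pGroup_disjoint (hkill _ hle) (coprime_card_pPrimeCore p)
    rwa [inf_idem] at h2
  · rw [← le_bot_iff]
    refine sSup_le fun K hK => ?_
    have hc : ⁅K.map L.subtype, Q⁆ = ⊥ := by
      refine commutator_eq_bot_of_perfect (by rw [← map_commutator, comp_perfect hK]) ?_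
      rw [← le_bot_iff]
      refine (commutator_mono (hcomm K) le_rfl).trans (le_of_eq ?_)
      rw [← map_commutator, commutator_comm]
      haveI := (isPGroup_pCore (G := L) p).isNilpotent
      rw [comp_commute_of_solvable hK inferInstance (le_top.trans (normalizer_eq_top _).ge),
        Subgroup.map_bot]
    haveI := (hkill K (commutator_eq_bot_iff_le_centralizer.mp hc)).isNilpotent
    exact (comp_not_isSolvable hK inferInstance).elim

/-- characteristic `p` passes from `N(C)` to `N(B)` for `C ⊴ B` -/
theorem charP_normalizer_of_normal_in {B C : Subgroup G} (hB : IsPGroup p B) (hCB : C ≤ B)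
    (hBC : B ≤ normalizer (C : Set G)) (h : CharPGroup p ↥(normalizer (C : Set G))) :
    CharPGroup p ↥(normalizer (B : Set G)) ∧ CharPGroup p ↥(centralizer (B : Set G)) := by
  set NC := normalizer (C : Set G)
  set NB := normalizer (B : Set G)
  set M := normalizer ((B.subgroupOf NC : Subgroup ↥NC) : Set ↥NC)
  have hM : CharPGroup p ↥M :=
    charP_normalizer_subgroup h (hB.of_equiv (subgroupOfEquivOfLe hBC).symm)
  set U := NB ⊓ NC
  have hU' : CharPGroup p ↥U := by
    have hmap : M.map NC.subtype = U := by
      ext x
      constructor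
      · rintro ⟨y, hy, rfl⟩
        refine ⟨mem_normalizer_iff_map_conj_eq.mpr ?_, y.2⟩
        have h1 := congrArg (Subgroup.map NC.subtype) (mem_normalizer_iff_map_conj_eq.mp hy)
        rw [map_map, show NC.subtype.comp ((MulAut.conj y : ↥NC ≃* ↥NC) : ↥NC →* ↥NC)
            = ((MulAut.conj (NC.subtype y) : G ≃* G) : G →* G).comp NC.subtype
          from MonoidHom.ext fun _ => rfl, ← map_map, map_subgroupOf_eq_of_le hBC] at h1
        exact h1
      · rintro ⟨hx1, hx2⟩
        refine ⟨⟨x, hx2⟩, mem_normalizer_iff.mpr fun b => ?_, rfl⟩
        simpa [mem_subgroupOf] using mem_normalizer_iff.mp hx1 b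
    exact charP_congr ((equivMapOfInjective M NC.subtype NC.subtype_injective).trans
      (MulEquiv.subgroupCongr hmap)) hM
  have h1 : CharPGroup p ↥NB := by
    refine charP_of_centralizer_le (U := U.subgroupOf NB) ?_
      (charP_congr (subgroupOfEquivOfLe inf_le_left).symm hU')
    intro x hx
    refine mem_subgroupOf.mpr ⟨x.2, centralizer_le_normalizer _ ?_⟩
    rw [mem_centralizer_iff]
    intro c hc
    exact mem_centralizer_iff.mp
      (map_subtype_le_centralizer (B := pCore p ↥NB) (A := centralizer (pCore p ↥NB : Set ↥NB))
        (commutator_eq_bot_iff_le_centralizer.mpr le_rfl) (mem_map_of_mem NB.subtype hx)) c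
      (pGroup_le_pCore_normalizer hB (hCB hc))
  refine ⟨h1, charP_congr (subgroupOfEquivOfLe (centralizer_le_normalizer (B : Set G)))
    (charP_subnormal h1 (normal_subgroupOf_of_le_normalizer ?_).isSubnormal)⟩
  exact normalizer_le_normalizer_centralizer' B

end Cfsg.Lib.Components
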