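import Cfsg.Agent.Components.Balance

/-!
`Δ_G(B)` against locally balanced components.
-/

set_option linter.style.haveILetI false
set_option linter.unusedSectionVars false

namespace Cfsg.Lib.Components

open Subgroup
open scoped commutatorElement

universe u

variable {G : Type u} [Group G] {G' : Type*} [Group G'] {p : ℕ}

theorem isElementaryAbelian_map {A : Subgroup G} (hA : IsElementaryAbelian p A) {H : Type u}
    [Group H] (f : G →* H) : IsElementaryAbelian p (A.map f) := by
  refine ⟨⟨⟨?_⟩⟩, ?_⟩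
  · rintro ⟨_, a, ha, rfl⟩ ⟨_, b, hb, rfl⟩
    refine Subtype.ext ?_
    show f a * f b = f b * f a
    haveI := hA.1
    rw [← map_mul, ← map_mul,
      show a * b = b * a from congrArg Subtype.val (IsMulCommutative.is_comm.comm (⟨a, ha⟩ : ↥A) ⟨b, hb⟩)]
  · rintro _ ⟨a, ha, rfl⟩
    rw [← map_pow, hA.2 a ha, map_one]

theorem isElementaryAbelian_subgroupOf {A : Subgroup G} (hA : IsElementaryAbelian p A)
    (C : Subgroup G) : IsElementaryAbelian p (A.subgroupOf C) := by
  refine ⟨⟨⟨?_⟩⟩, ?_⟩
  · rintro ⟨a, ha⟩ ⟨b, hb⟩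
    refine Subtype.ext (Subtype.ext ?_)
    show (a : G) * (b : G) = (b : G) * (a : G)
    haveI := hA.1
    exact congrArg Subtype.val (IsMulCommutative.is_comm.comm (⟨(a : G), ha⟩ : ↥A) ⟨(b : G), hb⟩)
  · intro a ha
    exact Subtype.ext (hA.2 a ha)

theorem mem_signalizerDelta {B : Subgroup G} {x : G} :
    x ∈ signalizerDelta p B ↔ ∀ b ∈ B, b ≠ 1 → x ∈ centralizerPPrimeCore p b := by
  simp only [signalizerDelta, mem_iInf, Subtype.forall, and_imp]

theorem signalizerDelta_le {B : Subgroup G} {b : G} (hb : b ∈ B) (hb1 : b ≠ 1) :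
    signalizerDelta p B ≤ centralizerPPrimeCore p b := fun _ hx =>
  mem_signalizerDelta.mp hx b hb hb1

theorem signalizerDelta_anti {B B' : Subgroup G} (h : B ≤ B') :
    signalizerDelta p B' ≤ signalizerDelta p B := fun _ hx =>
  mem_signalizerDelta.mpr fun b hb hb1 => mem_signalizerDelta.mp hx b (h hb) hb1

theorem signalizerDelta_map_equiv (e : G ≃* G') (B : Subgroup G) :
    (signalizerDelta p B).map e.toMonoidHom = signalizerDelta p (B.map e.toMonoidHom) := by
  ext y
  obtain ⟨x, rfl⟩ := e.surjective y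
  rw [show e x = e.toMonoidHom x from rfl, mem_map_iff_mem e.injective, mem_signalizerDelta,
    mem_signalizerDelta]
  constructor
  · rintro h _ ⟨b, hb, rfl⟩ hb1
    rw [show e.toMonoidHom b = e b from rfl, ← centralizerPPrimeCore_map_equiv e b]
    exact mem_map_of_mem _ (h b hb fun h => hb1 (by rw [h, map_one]))
  · intro h b hb hb1
    have h1 := h _ (mem_map_of_mem _ hb) fun h => hb1 (e.injective (by simpa using h))
    rw [show e.toMonoidHom b = e b from rfl, ← centralizerPPrimeCore_map_equiv e b] at h1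
    exact (mem_map_iff_mem e.injective).mp h1

theorem delta_normalized {B : Subgroup G} {x : G} (hx : x ∈ centralizer (B : Set G)) :
    x ∈ normalizer (signalizerDelta p B : Set G) := by
  have key : ∀ z ∈ centralizer (B : Set G), ∀ y ∈ signalizerDelta p B,
      z * y * z⁻¹ ∈ signalizerDelta p B := by
    intro z hz y hy
    refine mem_signalizerDelta.mpr fun b hb hb1 => ?_
    have hzb : z ∈ centralizer ({b} : Set G) :=
      mem_centralizer_singleton_iff.mpr (mem_centralizer_iff.mp hz b hb).symm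
    exact (mem_normalizer_iff.mp (centralizer_le_normalizer_centralizerPPrimeCore b hzb) y).mp
      (mem_signalizerDelta.mp hy b hb hb1)
  rw [mem_normalizer_iff]
  intro y
  refine ⟨key x hx y, fun hy => ?_⟩
  have := key x⁻¹ (inv_mem hx) _ hy
  simpa [mul_assoc] using this

variable [Finite G] [Fact p.Prime]

/-- centralizers of `p`-elements map onto centralizers modulo a normal `p'`-subgroup -/
theorem centralizer_map_of_coprime_ker {Q : Type*} [Group Q] {f : G →* Q}
    (hf : Function.Surjective f) (hker : (Nat.card f.ker).Coprime p) {b : G}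
    (hb : IsPGroup p (zpowers b)) :
    (centralizer ({b} : Set G)).map f = centralizer ({f b} : Set Q) := by
  refine le_antisymm ?_ fun y hy => ?_
  · rintro _ ⟨x, hx, rfl⟩
    rw [mem_centralizer_singleton_iff, ← map_mul, ← map_mul, mem_centralizer_singleton_iff.mp hx]
  have hy' : y ∈ normalizer (((zpowers b).map f : Subgroup Q) : Set Q) := by
    rw [MonoidHom.map_zpowers]
    refine centralizer_le_normalizer _ (mem_centralizer_iff.mpr fun z hz => ?_)
    obtain ⟨k, rfl⟩ := mem_zpowers_iff.mp hz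
    exact (Commute.zpow_left (mem_centralizer_singleton_iff.mp hy).symm k)
  rw [← normalizer_map_of_coprime_ker hf hker hb] at hy'
  obtain ⟨g, hg, rfl⟩ := hy'
  refine ⟨g, mem_centralizer_singleton_iff.mpr ?_, rfl⟩
  have h1 : g * b * g⁻¹ * b⁻¹ ∈ zpowers b :=
    mul_mem ((mem_normalizer_iff.mp hg b).mp (mem_zpowers b)) (inv_mem (mem_zpowers b))
  have h2 : g * b * g⁻¹ * b⁻¹ ∈ f.ker := by
    rw [MonoidHom.mem_ker, map_mul, map_mul, map_mul, map_inv, map_inv,
      mem_centralizer_singleton_iff.mp hy]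
    group
  have h3 : g * b * g⁻¹ * b⁻¹ ∈ (⊥ : Subgroup G) := by
    rw [← coprime_pGroup_disjoint hb hker]; exact ⟨h1, h2⟩
  rw [mem_bot] at h3
  calc g * b = (g * b * g⁻¹ * b⁻¹) * (b * g) := by group
    _ = b * g := by rw [h3, one_mul]

theorem centralizerPPrimeCore_map_le {Q : Type u} [Group Q] [Finite Q] {f : G →* Q}
    (hf : Function.Surjective f) (hker : (Nat.card f.ker).Coprime p) {b : G}
    (hb : IsPGroup p (zpowers b)) :
    (centralizerPPrimeCore p b).map f ≤ centralizerPPrimeCore p (f b) := by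
  refine le_centralizerPPrimeCore ?_ ?_ ?_
  · rw [← centralizer_map_of_coprime_ker hf hker hb]
    exact Subgroup.map_mono (centralizerPPrimeCore_le_centralizer b)
  · rw [← centralizer_map_of_coprime_ker hf hker hb]
    exact (Subgroup.map_mono (centralizer_le_normalizer_centralizerPPrimeCore b)).trans
      (le_normalizer_map f)
  · exact (centralizerPPrimeCore_card_coprime b).coprime_dvd_left (card_map_dvd _ _)

theorem centralizerPPrimeCore_inf_le (C : Subgroup G) {b : G} (hb : b ∈ C) :
    centralizerPPrimeCore p b ⊓ C ≤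
      (centralizerPPrimeCore p (⟨b, hb⟩ : ↥C)).map C.subtype := by
  rw [← subgroupOf_map_subtype]
  refine Subgroup.map_mono (le_centralizerPPrimeCore ?_ ?_ ?_)
  · intro x hx
    exact mem_centralizer_singleton_iff.mpr (Subtype.ext
      (mem_centralizer_singleton_iff.mp (centralizerPPrimeCore_le_centralizer b hx)))
  · intro x hx
    have hx' : (x : G) ∈ centralizer ({b} : Set G) :=
      mem_centralizer_singleton_iff.mpr
        (congrArg Subtype.val (mem_centralizer_singleton_iff.mp hx))
    rw [mem_normalizer_iff]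
    intro y
    exact mem_normalizer_iff.mp (centralizer_le_normalizer_centralizerPPrimeCore b hx') (y : G)
  · rw [← inf_subgroupOf_right, card_subgroupOf_of_le inf_le_right]
    exact (centralizerPPrimeCore_card_coprime b).coprime_dvd_left (Subgroup.card_dvd_of_le inf_le_left)

/-- restriction of `Δ` to a subgroup and passage to the quotient by its `p'`-core -/
theorem delta_inf_image_le {C B : Subgroup G} (hB : IsElementaryAbelian p B) (hBC : B ≤ C) :
    (((signalizerDelta p B ⊓ C).subgroupOf C).map (QuotientGroup.mk' (pPrimeCore p ↥C))) ≤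
      signalizerDelta p ((B.subgroupOf C).map (QuotientGroup.mk' (pPrimeCore p ↥C))) := by
  rintro _ ⟨d, hd, rfl⟩
  refine mem_signalizerDelta.mpr ?_
  rintro _ ⟨b, hb, rfl⟩ hb1
  have hb' : (b : G) ∈ B := hb
  have hbne : (b : G) ≠ 1 := fun h => hb1 (by rw [show b = 1 from Subtype.ext h, map_one])
  refine centralizerPPrimeCore_map_le (QuotientGroup.mk'_surjective _)
    (by rw [QuotientGroup.ker_mk']; exact coprime_card_pPrimeCore p)
    (isPGroup_zpowers_of_pow_eq_one (Subtype.ext (hB.2 _ hb'))) (mem_map_of_mem _ ?_)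
  obtain ⟨d', hd', hdd⟩ := centralizerPPrimeCore_inf_le C (hBC hb')
    ⟨mem_signalizerDelta.mp hd.1 _ hb' hbne, hd.2⟩
  have h2 : d' = d := Subtype.ext hdd
  subst h2
  exact hd'

theorem signalizerDelta_coprime {B : Subgroup G} (hB : B ≠ ⊥) :
    (Nat.card (signalizerDelta p B)).Coprime p := by
  obtain ⟨b, hb, hb1⟩ := (Subgroup.ne_bot_iff_exists_ne_one.mp hB).elim
    (fun b h => ⟨(b : G), b.2, fun he => h (Subtype.ext he)⟩ :
      ∀ b : ↥B, b ≠ 1 → ∃ b' : G, b' ∈ B ∧ b' ≠ 1)
  exact (centralizerPPrimeCore_card_coprime b).coprime_dvd_left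
    (Subgroup.card_dvd_of_le (signalizerDelta_le hb hb1))

/-- the automorphism group induced on a component by `L ⊔ M` -/
theorem delta_action (hO : pPrimeCore p G = ⊥) {L : Subgroup G} (hL : IsComponent L)
    {B M : Subgroup G} (hB : IsElementaryAbelian p B) (hBM : B ≤ M) (hDM : signalizerDelta p B ≤ M)
    (hMB : M ≤ centralizer (B : Set G)) (hML : M ≤ normalizer (L : Set G)) :
    ∃ (H : Subgroup (MulAut ↥L)) (f : ↥(L ⊔ M) →* ↥H),
      (MulAut.conj : ↥L →* MulAut ↥L).range ≤ H ∧ Function.Surjective f ∧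
      (∀ t : ↥(L ⊔ M), f t = 1 ↔ (t : G) ∈ centralizer (L : Set G)) ∧
      ((signalizerDelta p B).subgroupOf (L ⊔ M)).map f ≤
        signalizerDelta p ((B.subgroupOf (L ⊔ M)).map f) := by
  set T := L ⊔ M
  have hTN : T ≤ normalizer (L : Set G) := sup_le le_normalizer hML
  let φ : ↥(normalizer (L : Set G)) →* MulAut ↥L := L.normalizerMonoidHom
  let g : ↥T →* MulAut ↥L := φ.comp (Subgroup.inclusion hTN)
  refine ⟨g.range, g.rangeRestrict, ?_, g.rangeRestrict_surjective, ?_, ?_⟩
  · rintro _ ⟨l, rfl⟩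
    exact ⟨⟨(l : G), (le_sup_left : L ≤ T) l.2⟩, by ext x; rfl⟩
  · intro t
    rw [← MonoidHom.mem_ker, MonoidHom.ker_rangeRestrict, MonoidHom.mem_ker]
    show φ (Subgroup.inclusion hTN t) = 1 ↔ _
    rw [← MonoidHom.mem_ker, normalizerMonoidHom_ker]
    rfl
  · rintro _ ⟨d, hd, rfl⟩
    refine mem_signalizerDelta.mpr ?_
    rintro _ ⟨b, hb, rfl⟩ hb1
    have hb' : (b : G) ∈ B := hb
    have hbne : (b : G) ≠ 1 := fun h => hb1 (by rw [show b = 1 from Subtype.ext h, map_one])
    refine core_image_le hO (isPGroup_zpowers_of_pow_eq_one (hB.2 _ hb')) hL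
      (M := M) (D := signalizerDelta p B) rfl
      (hMB.trans (centralizer_le (Set.singleton_subset_iff.mpr hb')))
      (fun x hx => delta_normalized (hMB hx)) hML (hBM hb')
      (signalizerDelta_le hb' hbne) hDM g.rangeRestrict g.rangeRestrict_surjective ?_ b.2
      (mem_map_of_mem _ hd)
    intro t
    rw [← MonoidHom.mem_ker, MonoidHom.ker_rangeRestrict, MonoidHom.mem_ker]
    show φ (Subgroup.inclusion hTN t) = 1 ↔ _
    rw [← MonoidHom.mem_ker, normalizerMonoidHom_ker]
    rfl

theorem delta_le_compKernel (hO : pPrimeCore p G = ⊥) {B : Subgroup G}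
    (hB : IsElementaryAbelian p B) (hne : B ≠ ⊥) : signalizerDelta p B ≤ compKernel G := by
  obtain ⟨b, hb⟩ := Subgroup.ne_bot_iff_exists_ne_one.mp hne
  exact (signalizerDelta_le b.2 fun h => hb (Subtype.ext h)).trans
    (centralizerPPrimeCore_le_compKernel hO (isPGroup_zpowers_of_pow_eq_one (hB.2 _ b.2)))

/-- if some element of `B` moves or centralizes `L`, then `Δ(B)` centralizes `L` -/
theorem delta_centralizes_of_special (hO : pPrimeCore p G = ⊥) {L : Subgroup G}
    (hL : IsComponent L) {B : Subgroup G} (hB : IsElementaryAbelian p B) {b : G} (hb : b ∈ B)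
    (hb1 : b ≠ 1) (h : b ∉ normalizer (L : Set G) ∨ b ∈ centralizer (L : Set G)) :
    signalizerDelta p B ≤ centralizer (L : Set G) := by
  refine (signalizerDelta_le hb hb1).trans ?_
  rw [← commutator_eq_bot_iff_le_centralizer, commutator_comm]
  rcases h with h | h
  · exact core_commute_of_moved hO (orderOf_eq_prime (hB.2 b hb) hb1) hL h
  · refine core_commute_of_centralized hO (isPGroup_zpowers_of_pow_eq_one (hB.2 _ hb)) hL ?_
    intro l hl
    exact mem_centralizer_singleton_iff.mpr (mem_centralizer_iff.mp h l hl)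

theorem ne_bot_of_card {k : ℕ} (hk : 1 ≤ k) {B : Subgroup G} (hBk : Nat.card B = p ^ k) :
    B ≠ ⊥ := by
  intro h
  rw [h, Subgroup.card_bot] at hBk
  exact (Nat.one_lt_pow (by omega) (Fact.out : p.Prime).one_lt).ne hBk

theorem delta_centralizes_component (hO : pPrimeCore p G = ⊥) {k : ℕ} (hk : 1 ≤ k)
    {L : Subgroup G} (hL : IsComponent L) (hloc : IsLocallyKBalanced p k ↥L)
    {B : Subgroup G} (hB : IsElementaryAbelian p B) (hBk : Nat.card B = p ^ k) :
    signalizerDelta p B ≤ centralizer (L : Set G) := by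
  have hne : B ≠ ⊥ := ne_bot_of_card hk hBk
  by_cases hex : ∃ b ∈ B, b ≠ 1 ∧ (b ∉ normalizer (L : Set G) ∨ b ∈ centralizer (L : Set G))
  · obtain ⟨b, hb, hb1, h⟩ := hex
    exact delta_centralizes_of_special hO hL hB hb hb1 h
  push Not at hex
  set D := signalizerDelta p B
  haveI := hB.1
  have hBn : B ≤ normalizer (L : Set G) := fun b hb => by
    by_cases h1 : b = 1
    · rw [h1]; exact one_mem _
    · exact (hex b hb h1).1
  have hBc : B ≤ centralizer (B : Set G) := fun b hb => mem_centralizer_iff.mpr fun c hc =>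
    congrArg Subtype.val (IsMulCommutative.is_comm.comm (⟨c, hc⟩ : ↥B) ⟨b, hb⟩)
  have hDc : D ≤ centralizer (B : Set G) := fun d hd => mem_centralizer_iff.mpr fun c hc => by
    by_cases h1 : c = 1
    · rw [h1, one_mul, mul_one]
    · exact (mem_centralizer_singleton_iff.mp
        (centralizerPPrimeCore_le_centralizer c (mem_signalizerDelta.mp hd c hc h1))).symm
  obtain ⟨H, f, hinn, _, hker, hle⟩ := delta_action hO hL hB (M := B ⊔ D) le_sup_left
    le_sup_right (sup_le hBc hDc)
    (sup_le hBn (fun x hx => mem_compKernel.mp (delta_le_compKernel hO hB hne hx) L hL))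
  have hBT : B ≤ (L ⊔ (B ⊔ D)) := le_sup_of_le_right le_sup_left
  have hcard : Nat.card ↥((B.subgroupOf (L ⊔ (B ⊔ D))).map f) = p ^ k := by
    refine le_antisymm ?_ ?_
    · rw [← hBk, ← card_subgroupOf_of_le hBT]
      exact Nat.le_of_dvd Nat.card_pos (card_map_dvd _ _)
    · rw [← hBk, ← card_subgroupOf_of_le hBT]
      refine Nat.card_le_card_of_injective
        (fun x : ↥(B.subgroupOf (L ⊔ (B ⊔ D))) => (⟨f x, mem_map_of_mem f x.2⟩ : ↥((B.subgroupOf (L ⊔ (B ⊔ D))).map f))) ?_
      intro x y hxy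
      have h1 : f ((x : ↥(L ⊔ (B ⊔ D)))⁻¹ * y) = 1 := by
        rw [map_mul, map_inv, show f (x : ↥(L ⊔ (B ⊔ D))) = f (y : ↥(L ⊔ (B ⊔ D))) from congrArg Subtype.val hxy, inv_mul_cancel]
      have h2 := (hker _).mp h1
      have h3 : (((x : ↥(L ⊔ (B ⊔ D)))⁻¹ * y : ↥(L ⊔ (B ⊔ D))) : G) = 1 := by
        by_contra hne'
        exact (hex _ (mul_mem (inv_mem x.2) y.2) hne').2 h2
      exact Subtype.ext (inv_mul_eq_one.mp (Subtype.ext h3))
  rw [hloc H hinn _ (isElementaryAbelian_map (isElementaryAbelian_subgroupOf hB (L ⊔ (B ⊔ D))) f) hcard,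
    le_bot_iff, Subgroup.map_eq_bot_iff] at hle
  intro d hd
  exact (hker ⟨d, (le_sup_of_le_right le_sup_right : D ≤ L ⊔ (B ⊔ D)) hd⟩).mp (hle hd)

/-- a subgroup centralizing all components and `O_p` with order prime to `p` is trivial -/
theorem eq_bot_of_centralizes (hO : pPrimeCore p G = ⊥) {D : Subgroup G}
    (hc : (Nat.card D).Coprime p) (hW : D ≤ centralizer (pCore p G : Set G))
    (hL : ∀ L : Subgroup G, IsComponent L → D ≤ centralizer (L : Set G)) : D = ⊥ := by
  have h1 : D ≤ centralizer (generalizedFittingSubgroup G : Set G) := by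
    rw [← commutator_eq_bot_iff_le_centralizer, commutator_comm,
      commutator_eq_bot_iff_le_centralizer]
    refine sup_le (sSup_le fun L hL' => ?_) ?_
    · rw [← commutator_eq_bot_iff_le_centralizer, commutator_comm,
        commutator_eq_bot_iff_le_centralizer]
      exact hL L hL'
    · rw [fitting_eq_pCore hO, ← commutator_eq_bot_iff_le_centralizer, commutator_comm,
        commutator_eq_bot_iff_le_centralizer]
      exact hW
  have h3 : generalizedFittingSubgroup G ⊓ centralizer (generalizedFittingSubgroup G : Set G)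
      ≤ pCore p G := by
    rw [← fitting_eq_pCore hO]
    haveI := isMulCommutative_inf_centralizer (generalizedFittingSubgroup G)
    exact le_fitting (by
      letI : CommGroup ↥(generalizedFittingSubgroup G ⊓
          centralizer (generalizedFittingSubgroup G : Set G)) :=
        { mul_comm := IsMulCommutative.is_comm.comm }
      infer_instance)
  have h4 : D ≤ pCore p G ⊓ D :=
    le_inf ((le_inf (h1.trans centralizer_genFitting_le) h1).trans h3) le_rfl
  rwa [coprime_pGroup_disjoint (isPGroup_pCore p) hc, le_bot_iff] at h4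

theorem delta_centralizes_pCore {B : Subgroup G} (hB : IsElementaryAbelian p B) (hne : B ≠ ⊥) :
    signalizerDelta p B ≤ centralizer (pCore p G : Set G) := by
  obtain ⟨b, hb⟩ := Subgroup.ne_bot_iff_exists_ne_one.mp hne
  exact (signalizerDelta_le b.2 fun h => hb (Subtype.ext h)).trans
    (centralizerPPrimeCore_centralizes (isPGroup_zpowers_of_pow_eq_one (hB.2 _ b.2))
      (isPGroup_pCore p))

theorem delta_eq_bot (hO : pPrimeCore p G = ⊥) {k : ℕ} (hk : 1 ≤ k)
    (hloc : ∀ L : Subgroup G, IsComponent L → IsLocallyKBalanced p k ↥L)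
    {B : Subgroup G} (hB : IsElementaryAbelian p B) (hBk : Nat.card B = p ^ k) :
    signalizerDelta p B = ⊥ :=
  eq_bot_of_centralizes hO (signalizerDelta_coprime (ne_bot_of_card hk hBk))
    (delta_centralizes_pCore hB (ne_bot_of_card hk hBk))
    fun L hL => delta_centralizes_component hO hk hL (hloc L hL) hB hBk

theorem map_mk_card {C B : Subgroup G} (hB : IsElementaryAbelian p B) (hBC : B ≤ C) {k : ℕ}
    (hBk : Nat.card B = p ^ k) :
    Nat.card ↥((B.subgroupOf C).map (QuotientGroup.mk' (pPrimeCore p ↥C))) = p ^ k := by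
  rw [← hBk, ← card_subgroupOf_of_le hBC]
  refine le_antisymm (Nat.le_of_dvd Nat.card_pos (card_map_dvd _ _)) ?_
  refine Nat.card_le_card_of_injective
    (fun x : ↥(B.subgroupOf C) => (⟨_, mem_map_of_mem (QuotientGroup.mk' (pPrimeCore p ↥C)) x.2⟩ :
      ↥((B.subgroupOf C).map (QuotientGroup.mk' (pPrimeCore p ↥C))))) ?_
  intro x y hxy
  have h1 : (x : ↥C)⁻¹ * y ∈ pPrimeCore p ↥C := QuotientGroup.eq.mp (congrArg Subtype.val hxy)
  have h2 : (x : ↥C)⁻¹ * y ∈ (⊥ : Subgroup ↥C) := by
    rw [← coprime_pGroup_disjoint (A := B.subgroupOf C) ?_ (coprime_card_pPrimeCore (G := ↥C) p)]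
    · exact ⟨(B.subgroupOf C).mul_mem ((B.subgroupOf C).inv_mem x.2) y.2, h1⟩
    · intro g
      exact ⟨1, Subtype.ext (by simpa using (isElementaryAbelian_subgroupOf hB C).2 _ g.2)⟩
  exact Subtype.ext (inv_mul_eq_one.mp (mem_bot.mp h2))

/-- `k`-balance at `(B, a)` from locally `k`-balanced components of `C(a)/O_{p'}(C(a))` -/
theorem delta_inf_le {k : ℕ} (hk : 1 ≤ k) {a : G}
    (hloc : ∀ L : Subgroup (↥(centralizer ({a} : Set G)) ⧸ pPrimeCore p ↥(centralizer ({a} : Set G))),
      IsComponent L → IsLocallyKBalanced p k ↥L)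
    {B : Subgroup G} (hB : IsElementaryAbelian p B) (hBk : Nat.card B = p ^ k)
    (hBa : B ≤ centralizer ({a} : Set G)) :
    signalizerDelta p B ⊓ centralizer ({a} : Set G) ≤ centralizerPPrimeCore p a := by
  set C := centralizer ({a} : Set G)
  have h := delta_inf_image_le (p := p) hB hBa
  rw [delta_eq_bot pPrimeCore_quotient_eq_bot hk hloc
      (isElementaryAbelian_map (isElementaryAbelian_subgroupOf hB C) _) (map_mk_card hB hBa hBk),
    le_bot_iff, Subgroup.map_eq_bot_iff, QuotientGroup.ker_mk'] at h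
  intro x hx
  exact mem_map_of_mem C.subtype (h (show (⟨x, hx.2⟩ : ↥C) ∈ (signalizerDelta p B ⊓ C).subgroupOf C from hx))

/-- local balance passes from the simple quotient to a perfect group -/
theorem isLocallyKBalanced_of_quotient {K : Type u} [Group K] [Finite K]
    (hperf : ⁅(⊤ : Subgroup K), (⊤ : Subgroup K)⁆ = ⊤) {k : ℕ}
    (h : IsLocallyKBalanced p k (K ⧸ center K)) : IsLocallyKBalanced p k K := by
  let ι : MulAut K →* MulAut (K ⧸ center K) :=
    MonoidHom.mk' (fun α => QuotientGroup.congr (center K) (center K) α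
        (characteristic_iff_map_eq.mp inferInstance α)) fun α β => by
      ext x
      induction x using QuotientGroup.induction_on with
      | H a => rfl
  have hinj : Function.Injective ι := by
    rw [injective_iff_map_eq_one]
    intro α hα
    have hz : ∀ x : K, x⁻¹ * α x ∈ center K := fun x => by
      have h1 := congrArg (fun e : MulAut (K ⧸ center K) => e (x : K ⧸ center K)) hα
      exact QuotientGroup.eq.mp h1.symm
    ext x
    have hS : (⊤ : Subgroup K) ≤ MonoidHom.eqLocus (α.toMonoidHom) (MonoidHom.id K) := by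
      rw [← hperf, commutator_le]
      intro a _ b _
      show α ⁅a, b⁆ = ⁅a, b⁆
      rw [map_commutatorElement]
      have ha : α a = a * (a⁻¹ * α a) := by group
      have hb : α b = b * (b⁻¹ * α b) := by group
      have hza := mem_center_iff.mp (hz a)
      have hzb := mem_center_iff.mp (hz b)
      rw [ha, hb, commutatorElement_def, commutatorElement_def]
      generalize a⁻¹ * α a = z at hza
      generalize b⁻¹ * α b = w at hzb
      calc a * z * (b * w) * (a * z)⁻¹ * (b * w)⁻¹
          = a * (z * (b * w)) * z⁻¹ * a⁻¹ * (w⁻¹ * b⁻¹) := by group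
        _ = a * ((b * w) * z) * z⁻¹ * a⁻¹ * (w⁻¹ * b⁻¹) := by rw [hza]
        _ = a * b * (w * a⁻¹) * (w⁻¹ * b⁻¹) := by group
        _ = a * b * (a⁻¹ * w) * (w⁻¹ * b⁻¹) := by rw [hzb]
        _ = a * b * a⁻¹ * b⁻¹ := by group
    exact hS (mem_top x)
  intro H hH A hA hAk
  let e : ↥H ≃* ↥(H.map ι) := equivMapOfInjective H ι hinj
  have hH' : (MulAut.conj : (K ⧸ center K) →* MulAut (K ⧸ center K)).range ≤ H.map ι := by
    rintro _ ⟨y, rfl⟩
    obtain ⟨a, rfl⟩ := QuotientGroup.mk'_surjective (center K) y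
    refine ⟨MulAut.conj a, hH ⟨a, rfl⟩, ?_⟩
    ext x
    induction x using QuotientGroup.induction_on with
    | H b => rfl
  have h1 := h (H.map ι) hH' (A.map e.toMonoidHom) (isElementaryAbelian_map hA _) (by
    rw [← Nat.card_congr (equivMapOfInjective A e.toMonoidHom e.injective).toEquiv, hAk])
  rw [← signalizerDelta_map_equiv e, map_eq_bot_iff_of_injective _ e.injective] at h1
  exact h1

end Cfsg.Lib.Components
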