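import Cfsg.Agent.Components.CoprimeKer
import Cfsg.Agent.Components.CharP
import Cfsg.Prelude.Def_KGroupFacts

/-!
L-balance from the solvability of the outer automorphism groups of the components.
-/

set_option linter.style.haveILetI false
set_option linter.unusedSectionVars false

namespace Cfsg.Lib.Components

open Subgroup
open scoped commutatorElement

universe u

variable {G : Type u} [Group G] [Finite G] {p : ℕ} [Fact p.Prime]

/-- `Aut(L) → Aut(L/Z(L))` -/
def autModCenter (L : Type u) [Group L] : MulAut L →* MulAut (L ⧸ center L) where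
  toFun φ := QuotientGroup.congr (center L) (center L) φ
    (characteristic_iff_map_eq.mp inferInstance φ)
  map_one' := by
    ext x
    induction x using QuotientGroup.induction_on with
    | H a => rfl
  map_mul' φ ψ := by
    ext x
    induction x using QuotientGroup.induction_on with
    | H a => rfl

theorem autModCenter_apply {L : Type u} [Group L] (φ : MulAut L) (a : L) :
    autModCenter L φ (a : L ⧸ center L) = ((φ a : L) : L ⧸ center L) := rfl

theorem map_eq_one_of_perfect_solvable {M : Subgroup G} (hM : ⁅M, M⁆ = M) {H : Type*} [Group H]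
    (hH : Group.IsSolvable H) (θ : ↥M →* H) : ∀ x, θ x = 1 := by
  obtain ⟨n, hn⟩ := hH.solvable
  have htop : ⁅(⊤ : Subgroup ↥M), (⊤ : Subgroup ↥M)⁆ = ⊤ := by
    apply Subgroup.map_injective M.subtype_injective
    rw [map_commutator, ← MonoidHom.range_eq_map, range_subtype, hM]
  have hd : ∀ k, derivedSeries ↥M k = ⊤ := by
    intro k
    induction k with
    | zero => rfl
    | succ k ih => rw [derivedSeries_succ, ih, htop]
  intro x
  have := map_derivedSeries_le_derivedSeries θ n (mem_map_of_mem θ (show x ∈ derivedSeries ↥M n by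
    rw [hd]; exact mem_top x))
  rwa [hn, mem_bot] at this

/-- a perfect subgroup normalizing a component with solvable outer automorphism group induces
inner automorphisms on it -/
theorem perfect_induces_inner {L : Subgroup G} (hL : IsComponent L)
    (hS : Group.IsSolvable (Out (↥L ⧸ center ↥L))) {M : Subgroup G} (hM : ⁅M, M⁆ = M)
    (hn : M ≤ normalizer (L : Set G)) {x : G} (hx : x ∈ M) :
    ∃ e ∈ L, e⁻¹ * x ∈ centralizer (L : Set G) := by
  let a : ↥M →* MulAut ↥L := L.normalizerMonoidHom.comp (inclusion hn)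
  have h1 : autModCenter ↥L (a ⟨x, hx⟩) ∈ Inn (↥L ⧸ center ↥L) := by
    rw [← QuotientGroup.eq_one_iff]
    exact map_eq_one_of_perfect_solvable hM hS
      ((QuotientGroup.mk' (Inn (↥L ⧸ center ↥L))).comp ((autModCenter ↥L).comp a)) ⟨x, hx⟩
  obtain ⟨ē, he⟩ := h1
  obtain ⟨e, rfl⟩ := QuotientGroup.mk'_surjective _ ē
  refine ⟨e, e.2, ?_⟩
  set y := (e : G)⁻¹ * x with hy
  have hyN : y ∈ normalizer (L : Set G) := mul_mem (inv_mem (le_normalizer e.2)) (hn hx)
  have hz : ∀ l : ↥L, (⟨y * l * y⁻¹, (mem_normalizer_iff.mp hyN _).mp l.2⟩ * l⁻¹ : ↥L) ∈ center ↥L := by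
    intro l
    have hxl : x * l * x⁻¹ ∈ L := (mem_normalizer_iff.mp (hn hx) _).mp l.2
    have key : ((e * l * e⁻¹ : ↥L) : ↥L ⧸ center ↥L) = ((⟨_, hxl⟩ : ↥L) : ↥L ⧸ center ↥L) :=
      DFunLike.congr_fun he (l : ↥L ⧸ center ↥L)
    rw [QuotientGroup.eq] at key
    have h5 : (⟨y * l * y⁻¹, (mem_normalizer_iff.mp hyN _).mp l.2⟩ * l⁻¹ : ↥L)
        = l * ((e * l * e⁻¹)⁻¹ * ⟨_, hxl⟩) ^ 0 * l⁻¹ * (e⁻¹ * ((⟨_, hxl⟩ : ↥L) * (e * l * e⁻¹)⁻¹) * e) := by
      apply Subtype.ext
      simp only [Subgroup.coe_mul, InvMemClass.coe_inv, hy, pow_zero, OneMemClass.coe_one]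
      group
    rw [h5, pow_zero, mul_one, mul_inv_cancel, one_mul]
    have h6 : (⟨_, hxl⟩ : ↥L) * (e * l * e⁻¹)⁻¹ ∈ center ↥L := by
      have := (inferInstance : (center ↥L).Normal).mem_comm key
      exact this
    simpa using (inferInstance : (center ↥L).Normal).conj_mem _ h6 e⁻¹
  let ψ : ↥L →* ↥(center ↥L) := MonoidHom.mk' (fun l => ⟨_, hz l⟩) fun l m => by
    apply Subtype.ext
    show (_ : ↥L) = _ * _
    have hc := mem_center_iff.mp (hz m) l
    apply Subtype.ext
    have hc' := congrArg Subtype.val hc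
    simp only [Subgroup.coe_mul, InvMemClass.coe_inv] at hc' ⊢
    calc y * ((l : G) * m) * y⁻¹ * ((l : G) * m)⁻¹
        = y * l * y⁻¹ * (y * m * y⁻¹ * (m : G)⁻¹) * (l : G)⁻¹ := by group
      _ = y * l * y⁻¹ * (l : G)⁻¹ * ((l : G) * (y * m * y⁻¹ * (m : G)⁻¹) * (l : G)⁻¹) := by group
      _ = _ := by rw [hc']; group
  haveI : IsMulCommutative ↥(center ↥L) := inferInstance
  have hker : ∀ l, ψ l = 1 := by
    intro l
    have hle : ⁅(⊤ : Subgroup ↥L), ⊤⁆ ≤ ψ.ker := by
      rw [commutator_le]
      intro a _ b _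
      rw [MonoidHom.mem_ker, map_commutatorElement, commutatorElement_eq_one_iff_mul_comm]
      exact Subtype.ext (mem_center_iff.mp (ψ b).2 (ψ a : ↥L))
    exact hle ((qs_commutator_top hL.2).ge (mem_top l))
  rw [mem_centralizer_iff]
  intro l hl
  have h := congrArg (fun z : ↥(center ↥L) => ((z : ↥L) : G)) (hker ⟨l, hl⟩)
  have h' : y * l * y⁻¹ * l⁻¹ = 1 := h
  exact (commutatorElement_eq_one_iff_mul_comm.mp h').symm

/-- `M ≤ E(G) C(E(G))` element-wise -/
theorem perfect_mem_layer_mul {M : Subgroup G} (hM : ⁅M, M⁆ = M) (hn : M ≤ compKernel G)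
    (hS : ∀ L : Subgroup G, IsComponent L → Group.IsSolvable (Out (↥L ⧸ center ↥L)))
    {x : G} (hx : x ∈ M) :
    ∃ e ∈ layer G, e⁻¹ * x ∈ centralizer (layer G : Set G) := by
  classical
  obtain ⟨s, hs, hsup⟩ := layer_eq_finset (G := G)
  suffices h : ∀ t : Finset (Subgroup G), (∀ L ∈ t, IsComponent L) →
      ∃ e ∈ layer G, (∀ L : Subgroup G, IsComponent L → L ∉ t → e ∈ centralizer (L : Set G)) ∧
        ∀ L ∈ t, e⁻¹ * x ∈ centralizer (L : Set G) by
    obtain ⟨e, he, -, hc⟩ := h s fun L hL => (hs L).mp hL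
    refine ⟨e, he, ?_⟩
    rw [hsup, mem_centralizer_iff]
    intro u hu
    refine (mem_centralizer_singleton_iff.mp ?_)
    have hle : s.sup id ≤ centralizer ({e⁻¹ * x} : Set G) := Finset.sup_le fun L hL v hv =>
      mem_centralizer_singleton_iff.mpr (mem_centralizer_iff.mp (hc L hL) v hv)
    exact hle hu
  intro t
  induction t using Finset.induction_on with
  | empty => exact fun _ => ⟨1, one_mem _, fun _ _ _ => one_mem _, by simp⟩
  | @insert L₀ t hL₀ ih =>
    intro ht
    have hL₀c := ht L₀ (Finset.mem_insert_self _ _)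
    obtain ⟨e, he, heout, hec⟩ := ih fun L hL => ht L (Finset.mem_insert_of_mem hL)
    obtain ⟨a, ha, hac⟩ := perfect_induces_inner hL₀c (hS _ hL₀c) hM
      (fun y hy => mem_compKernel.mp (hn hy) _ hL₀c) hx
    have hea : a * e = e * a := mem_centralizer_iff.mp (heout L₀ hL₀c hL₀) a ha
    have haout : ∀ L : Subgroup G, IsComponent L → L ≠ L₀ → a ∈ centralizer (L : Set G) :=
      fun L hL hne => commutator_eq_bot_iff_le_centralizer.mp (comp_commute hL₀c hL hne.symm) ha
    refine ⟨e * a, mul_mem he (comp_le_layer hL₀c ha), ?_, ?_⟩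
    · intro L hL hnot
      simp only [Finset.mem_insert, not_or] at hnot
      exact mul_mem (heout L hL hnot.2) (haout L hL hnot.1)
    · intro L hL
      rcases Finset.mem_insert.mp hL with rfl | hL'
      · rw [show (e * a)⁻¹ * x = e⁻¹ * (a⁻¹ * x) by rw [← hea]; group]
        exact mul_mem (inv_mem (heout _ hL₀c hL₀)) hac
      · rw [show (e * a)⁻¹ * x = a⁻¹ * (e⁻¹ * x) by group]
        exact mul_mem (inv_mem (haout L (ht L hL) (fun h => hL₀ (h ▸ hL')))) (hec L hL')

/-- a perfect subgroup normalizing all components and centralizing `O_p` lies in the layer -/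
theorem perfect_le_layer (hO : pPrimeCore p G = ⊥) {M : Subgroup G} (hM : ⁅M, M⁆ = M)
    (hn : M ≤ compKernel G) (hc : M ≤ centralizer (pCore p G : Set G))
    (hS : ∀ L : Subgroup G, IsComponent L → Group.IsSolvable (Out (↥L ⧸ center ↥L))) :
    M ≤ layer G := by
  have hF : M ≤ layer G ⊔ fittingSubgroup G := by
    intro x hx
    obtain ⟨e, he, hec⟩ := perfect_mem_layer_mul hM hn hS hx
    have hep : e ∈ centralizer (pCore p G : Set G) := by
      rw [← fitting_eq_pCore hO]
      exact commutator_eq_bot_iff_le_centralizer.mp layer_commute_fitting he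
    have h : e⁻¹ * x ∈ centralizer (generalizedFittingSubgroup G : Set G) := by
      rw [mem_centralizer_iff]
      intro u hu
      refine mem_centralizer_singleton_iff.mp ?_
      have hle : generalizedFittingSubgroup G ≤ centralizer ({e⁻¹ * x} : Set G) := by
        rw [generalizedFittingSubgroup, fitting_eq_pCore hO]
        refine sup_le (fun v hv => mem_centralizer_singleton_iff.mpr ?_)
          (fun v hv => mem_centralizer_singleton_iff.mpr ?_)
        · exact mem_centralizer_iff.mp hec v hv
        · exact mem_centralizer_iff.mp (mul_mem (inv_mem hep) (hc hx)) v hv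
      exact hle hu
    have := mul_mem (mem_sup_left he : e ∈ layer G ⊔ fittingSubgroup G)
      (centralizer_genFitting_le h)
    rwa [mul_inv_cancel_left] at this
  haveI : (layer G).Normal := inferInstance
  set π := QuotientGroup.mk' (layer G)
  have h1 : M.map π ≤ (fittingSubgroup G).map π := by
    refine (Subgroup.map_mono hF).trans ?_
    rw [Subgroup.map_sup, QuotientGroup.map_mk'_self, bot_sup_eq]
  have h2 : M.map π = ⊥ := by
    haveI := isSolvable_fitting (G := G)
    have hsol : Group.IsSolvable ↥((fittingSubgroup G).map π) :=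
      Group.isSolvable_of_surjective (π.subgroupMap_surjective (fittingSubgroup G))
    rw [eq_bot_iff]
    intro y hy
    have := map_eq_one_of_perfect_solvable (M := M.map π) (by rw [← map_commutator, hM]) hsol
      (inclusion h1) ⟨y, hy⟩
    exact mem_bot.mpr (congrArg Subtype.val this)
  rwa [Subgroup.map_eq_bot_iff, QuotientGroup.ker_mk'] at h2

/-- L-balance -/
theorem pLayer_local_le
    (hS : ∀ L : Subgroup (G ⧸ pPrimeCore p G), IsComponent L →
      Group.IsSolvable (Out (↥L ⧸ center ↥L)))
    {R : Subgroup G} (hR : IsPGroup p R) :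
    (pLayer p ↥(normalizer (R : Set G))).map (normalizer (R : Set G)).subtype ≤ pLayer p G := by
  rw [pLayer, sSup_eq_iSup, Subgroup.map_iSup]
  refine iSup_le fun K => ?_
  rw [Subgroup.map_iSup]
  refine iSup_le fun hK => pcomp_map_le_pLayer hK ?_
  set f := QuotientGroup.mk' (pPrimeCore p G) with hf'
  have hf : Function.Surjective f := QuotientGroup.mk'_surjective _
  have hker : (Nat.card f.ker).Coprime p := by
    rw [hf', QuotientGroup.ker_mk']; exact coprime_card_pPrimeCore p
  obtain ⟨g, hg, hgker, hcomp⟩ := exists_localMap hf hker hR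
  have hRQ : IsPGroup p ↥(R.map f) := hR.map f
  have hKle : K ≤ (layer (↥(normalizer (R : Set G)) ⧸ pPrimeCore p ↥(normalizer (R : Set G)))).comap
      (QuotientGroup.mk' (pPrimeCore p ↥(normalizer (R : Set G)))) := by
    rw [← map_le_iff_le_comap]; exact comp_le_layer hK.2.1
  have h1 : (K.map (normalizer (R : Set G)).subtype).map f ≤
      ((layer (↥(normalizer ((R.map f : Subgroup (G ⧸ pPrimeCore p G)) : Set (G ⧸ pPrimeCore p G))) ⧸
        pPrimeCore p ↥(normalizer ((R.map f : Subgroup (G ⧸ pPrimeCore p G)) : Set (G ⧸ pPrimeCore p G))))).comap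
          (QuotientGroup.mk' _)).map
          (normalizer ((R.map f : Subgroup (G ⧸ pPrimeCore p G)) : Set (G ⧸ pPrimeCore p G))).subtype := by
    rw [map_map, ← hcomp, ← map_map]
    exact Subgroup.map_mono ((Subgroup.map_mono hKle).trans (map_comap_layer_of_coprime_ker hg hgker))
  have hO : pPrimeCore p (G ⧸ pPrimeCore p G) = ⊥ := pPrimeCore_quotient_eq_bot
  refine perfect_le_layer hO (by rw [← map_commutator, ← map_commutator, pcomp_perfect hK])
    (h1.trans (local_layerPre_le_compKernel hO hRQ)) ?_ hS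
  haveI : (pCore p (G ⧸ pPrimeCore p G)).Normal := pCore_normal' p
  exact h1.trans (local_layerPre_centralizes hRQ (isPGroup_pCore p))

end Cfsg.Lib.Components
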