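import Cfsg.Agent.Components.CoprimeKer
import Cfsg.Agent.Coprime.Action
import Cfsg.Prelude.Def_ClassificationStages

/-!
`p`-components as quasisimple groups; fixed points of an element centralizing a `p`-component
modulo its `p'`-core.
-/

set_option linter.style.haveILetI false
set_option linter.unusedSectionVars false

namespace Cfsg.Lib.Components

open Subgroup
open scoped commutatorElement

universe u

variable {G : Type u} [Group G] [Finite G] {p : ℕ} [Fact p.Prime]

theorem pcomp_isComponent_iff {K : Subgroup G} (hK : IsPComponent p K) :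
    IsComponent K ↔ ⁅K, pPrimeCore p G⁆ = ⊥ := by
  constructor
  · intro h
    exact comp_commute_of_not_le h (pPrimeCore_normal' p).isSubnormal (pcomp_not_le_core hK)
  · intro h
    set q := QuotientGroup.mk' (pPrimeCore p G)
    haveI : Nontrivial ↥K := (Subgroup.nontrivial_iff_ne_bot K).mpr (pcomp_ne_bot hK)
    refine ⟨hK.1, isQuasisimple_of_perfect_of_subnormal inferInstance ?_ ?_⟩
    · apply Subgroup.map_injective K.subtype_injective
      rw [map_commutator, ← MonoidHom.range_eq_map, range_subtype, pcomp_perfect hK]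
    · intro N hN hNt
      have hN' := isSubnormal_map_subtype hK.1 hN.isSubnormal
      have hle : N.map K.subtype ≤ K := map_subtype_le N
      have hle' : (N.map K.subtype).map q ≤ K.map q := Subgroup.map_mono hle
      rcases qs_subnormal_eq_top_or_le_center hK.2.1.2
          ((hN'.quotient (K := pPrimeCore p G)).subgroupOf (K := K.map q)) with h' | h'
      · exfalso
        apply hNt
        apply Subgroup.map_injective K.subtype_injective
        rw [← MonoidHom.range_eq_map, range_subtype]
        exact hK.2.2 _ hN' hle (le_antisymm hle' (subgroupOf_eq_top.mp h'))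
      · have h0 : ⁅K, N.map K.subtype⁆ ≤ pPrimeCore p G := by
          rw [← QuotientGroup.ker_mk' (pPrimeCore p G), ← Subgroup.map_eq_bot_iff, map_commutator]
          refine commutator_map_subtype_eq_bot le_rfl hle' ?_
          rw [← le_bot_iff, ← commutator_center_right ((K.map q).subgroupOf (K.map q))]
          exact commutator_mono le_rfl h'
        have h1 : ⁅⁅K, N.map K.subtype⁆, K⁆ = ⊥ := by
          rw [← le_bot_iff]
          refine (commutator_mono h0 le_rfl).trans ?_
          rw [commutator_comm, h]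
        have h2 := commutator_eq_bot_of_perfect (pcomp_perfect hK) h1
        intro n hn
        rw [mem_center_iff]
        intro k
        exact Subtype.ext (commute_of_commutator_eq_bot h2 k.2 (mem_map_of_mem _ hn))

/-- `C_K(y) O_{p'}(K) = K` and the `p`-layer of `C_K(y)` covers `K/O_{p'}(K)` -/
theorem pcomp_le_pLayerOf_centralizer {K : Subgroup G} (hK : IsPComponent p K) {y : G}
    (hy : orderOf y = p)
    (hyK : ∀ k ∈ K, y * k * y⁻¹ * k⁻¹ ∈ ((pPrimeCore p ↥K).map K.subtype : Subgroup G)) :
    K ≤ pLayerOf p (K ⊓ centralizer ({y} : Set G)) ⊔ (pPrimeCore p ↥K).map K.subtype := by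
  set D := (pPrimeCore p ↥K).map K.subtype with hD
  have hDK : D ≤ K := map_subtype_le _
  have hKD : K ≤ normalizer (D : Set G) := by
    intro k hk
    rw [mem_normalizer_iff_map_conj_eq]
    show D.map (MulAut.conj k).toMonoidHom = D
    rw [hD, map_map,
      show (MulAut.conj k).toMonoidHom.comp K.subtype
        = K.subtype.comp (MulAut.conj (⟨k, hk⟩ : K)).toMonoidHom from MonoidHom.ext fun _ => rfl,
      ← map_map, pPrimeCore_map_equiv]
  have hyN : y ∈ normalizer (K : Set G) := by
    rw [mem_normalizer_iff_map_conj_eq]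
    refine Subgroup.eq_of_le_of_card_ge ?_ ?_
    · rintro _ ⟨k, hk, rfl⟩
      have := mul_mem (hDK (hyK k hk)) hk
      simpa using this
    · exact (Nat.card_congr
        (Subgroup.equivMapOfInjective K _ (MulAut.conj y).injective).toEquiv).le
  have hyD : y ∈ normalizer (D : Set G) := by
    have e : ∀ u, u ∈ normalizer (K : Set G) → ∀ x : G, x ∈ K → u * x * u⁻¹ ∈ K :=
      fun u hu x hx => (mem_normalizer_iff.mp hu x).mp hx
    let φ : ↥K ≃* ↥K := ((MulAut.conj y).subgroupMap K).trans
      (MulEquiv.subgroupCongr (mem_normalizer_iff_map_conj_eq.mp hyN))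
    rw [mem_normalizer_iff_map_conj_eq]
    show D.map (MulAut.conj y).toMonoidHom = D
    rw [hD, map_map,
      show (MulAut.conj y).toMonoidHom.comp K.subtype = K.subtype.comp φ.toMonoidHom from
        MonoidHom.ext fun _ => rfl, ← map_map, pPrimeCore_map_equiv]
  have hstab : ∀ k ∈ K, ∀ a ∈ zpowers y, k⁻¹ * a * k * a⁻¹ ∈ D := by
    intro k hk a ha
    rw [← mem_powers_iff_mem_zpowers] at ha
    obtain ⟨n, rfl⟩ := ha
    have h : y ^ n * k * (y ^ n)⁻¹ * k⁻¹ ∈ D := by
      induction n with
      | zero => simp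
      | succ n ih =>
        have := mul_mem ((mem_normalizer_iff.mp hyD _).mp ih) (hyK k hk)
        convert this using 1
        rw [pow_succ']; group
    have h2 := (mem_normalizer_iff.mp (hKD (inv_mem hk)) _).mp h
    convert h2 using 1
    group
  have hcard : Nat.card D = Nat.card (pPrimeCore p ↥K) := (Nat.card_congr
    (Subgroup.equivMapOfInjective _ _ K.subtype_injective).toEquiv).symm
  have hcop : (Nat.card (zpowers y)).Coprime (Nat.card D) := by
    rw [Nat.card_zpowers, hy, hcard]; exact (coprime_card_pPrimeCore p).symm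
  have hsup := Cfsg.Lib.Coprime.le_centralizer_sup (A := zpowers y) (K := K) (zpowers_le.mpr hyD) hcop
    (Or.inl inferInstance) hDK hstab
  set C := K ⊓ centralizer ({y} : Set G) with hC
  have hCC : C = K ⊓ centralizer (zpowers y : Set G) := by
    rw [hC, zpowers_eq_closure, centralizer_closure]
  rw [← hCC] at hsup
  -- `C/O_{p'}(C) ≅ K/O_{p'}(K)`
  let f : ↥C →* ↥K ⧸ pPrimeCore p ↥K :=
    (QuotientGroup.mk' (pPrimeCore p ↥K)).comp (inclusion inf_le_left)
  have hf : Function.Surjective f := by
    intro z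
    obtain ⟨k, rfl⟩ := QuotientGroup.mk'_surjective _ z
    obtain ⟨c, hc, d, hd, hcd⟩ : ∃ c ∈ C, ∃ d ∈ D, c * d = (k : G) := by
      have hk : (k : G) ∈ C ⊔ D := hsup.ge k.2
      rw [sup_comm] at hk
      exact (Cfsg.Lib.Coprime.mem_sup_of_le_normalizer' (inf_le_left.trans hKD)).mp hk
    obtain ⟨d', hd', rfl⟩ := hd
    refine ⟨⟨c, hc⟩, ?_⟩
    show (QuotientGroup.mk' (pPrimeCore p ↥K)) (inclusion inf_le_left ⟨c, hc⟩) = _
    rw [QuotientGroup.mk'_apply, QuotientGroup.mk'_apply, QuotientGroup.eq]
    have he : (inclusion (inf_le_left : C ≤ K) ⟨c, hc⟩)⁻¹ * k = d' := by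
      apply Subtype.ext
      show c⁻¹ * (k : G) = (d' : G)
      rw [← hcd]
      show c⁻¹ * (c * (d' : G)) = d'
      group
    rw [he]
    exact hd'
  have hker : (Nat.card f.ker).Coprime p := by
    refine (coprime_card_pPrimeCore (G := ↥K) p).coprime_dvd_left ?_
    rw [Nat.card_congr (Subgroup.equivMapOfInjective f.ker (inclusion (inf_le_left : C ≤ K))
      (inclusion_injective _)).toEquiv]
    refine Subgroup.card_dvd_of_le ?_
    rintro _ ⟨x, hx, rfl⟩
    exact (QuotientGroup.eq_one_iff _).mp (MonoidHom.mem_ker.mp hx)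
  obtain ⟨e, -⟩ := exists_quotient_equiv_of_coprime_ker hf hker
  have hbot : pPrimeCore p (↥K ⧸ pPrimeCore p ↥K) = ⊥ := pPrimeCore_quotient_eq_bot
  let e' : (↥C ⧸ pPrimeCore p ↥C) ≃* (↥K ⧸ pPrimeCore p ↥K) :=
    e.trans ((QuotientGroup.quotientMulEquivOfEq hbot).trans QuotientGroup.quotientBot)
  have hqs : IsQuasisimple (↥C ⧸ pPrimeCore p ↥C) := qs_congr' e'.symm (pcomp_quotient_qs hK)
  have htop : layer (↥C ⧸ pPrimeCore p ↥C) = ⊤ :=
    top_le_iff.mp (comp_le_layer ⟨IsSubnormal.top, qs_congr' topEquiv.symm hqs⟩)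
  have hCl : C ≤ pLayerOf p C ⊔ D := by
    have h := congrArg (Subgroup.map C.subtype)
      (comap_layer_eq (G := ↥C) (p := p))
    rw [htop, comap_top, ← MonoidHom.range_eq_map, range_subtype, Subgroup.map_sup] at h
    refine h.le.trans ?_
    refine sup_le (le_sup_of_le_left (le_refl (pLayerOf p C))) (le_sup_of_le_right ?_)
    rintro _ ⟨x, hx, rfl⟩
    refine ⟨inclusion inf_le_left x, ?_, rfl⟩
    have := map_pPrimeCore_of_coprime_ker hf hker
    rw [hbot] at this
    exact (QuotientGroup.eq_one_iff _).mp (mem_bot.mp (this.le (mem_map_of_mem f hx)))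
  exact hsup.ge.trans (sup_le hCl le_sup_right)

end Cfsg.Lib.Components
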