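import Cfsg.Agent.Components.CharP
import Cfsg.Prelude.Def_Balance
import Cfsg.Prelude.Def_EvenTechniques

/-!
Balance: `O_{p'}` of centralizers against components, and `Δ_G(B)`.
-/

set_option linter.style.haveILetI false
set_option linter.unusedSectionVars false

namespace Cfsg.Lib.Components

open Subgroup
open scoped commutatorElement

universe u

variable {G : Type u} [Group G] {G' : Type*} [Group G'] {p : ℕ}

theorem centralizer_singleton_map_equiv (e : G ≃* G') (x : G) :
    (centralizer ({x} : Set G)).map e.toMonoidHom = centralizer ({e x} : Set G') := by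
  ext y
  constructor
  · rintro ⟨z, hz, rfl⟩
    rw [mem_centralizer_singleton_iff]
    show e z * e x = e x * e z
    rw [← map_mul, ← map_mul, mem_centralizer_singleton_iff.mp hz]
  · intro hy
    obtain ⟨z, rfl⟩ := e.surjective y
    refine ⟨z, mem_centralizer_singleton_iff.mpr (e.injective ?_), rfl⟩
    rw [map_mul, map_mul]
    exact mem_centralizer_singleton_iff.mp hy

theorem centralizerPPrimeCore_le_centralizer (x : G) :
    centralizerPPrimeCore p x ≤ centralizer ({x} : Set G) := map_subtype_le _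

theorem centralizerPPrimeCore_card_coprime [Finite G] (x : G) :
    (Nat.card (centralizerPPrimeCore p x)).Coprime p := by
  rw [centralizerPPrimeCore, ← Nat.card_congr (Subgroup.equivMapOfInjective _ _
    (centralizer ({x} : Set G)).subtype_injective).toEquiv]
  exact coprime_card_pPrimeCore p

theorem centralizer_le_normalizer_centralizerPPrimeCore (x : G) :
    centralizer ({x} : Set G) ≤ normalizer (centralizerPPrimeCore p x : Set G) := by
  conv_lhs => rw [← range_subtype (centralizer ({x} : Set G)), MonoidHom.range_eq_map]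
  exact le_trans (Subgroup.map_mono (normalizer_eq_top _).ge) (le_normalizer_map _)

theorem centralizerPPrimeCore_map_equiv (e : G ≃* G') (x : G) :
    (centralizerPPrimeCore p x).map e.toMonoidHom = centralizerPPrimeCore p (e x) := by
  let e' : ↥(centralizer ({x} : Set G)) ≃* ↥(centralizer ({e x} : Set G')) :=
    (equivMapOfInjective _ e.toMonoidHom e.injective).trans
      (MulEquiv.subgroupCongr (centralizer_singleton_map_equiv e x))
  rw [centralizerPPrimeCore, centralizerPPrimeCore, ← pPrimeCore_map_equiv e', map_map, map_map]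
  congr 1

variable [Finite G] [Fact p.Prime]

theorem le_centralizerPPrimeCore {x : G} {A : Subgroup G}
    (hA : A ≤ centralizer ({x} : Set G))
    (hn : centralizer ({x} : Set G) ≤ normalizer (A : Set G)) (h : (Nat.card A).Coprime p) :
    A ≤ centralizerPPrimeCore p x := by
  refine le_trans (map_subgroupOf_eq_of_le hA).ge (Subgroup.map_mono ?_)
  haveI : (A.subgroupOf (centralizer ({x} : Set G))).Normal := normal_subgroupOf_of_le_normalizer hn
  exact le_pPrimeCore (by rwa [card_subgroupOf_of_le hA])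

theorem centralizerPPrimeCore_le_local (x : G) :
    centralizerPPrimeCore p x ≤ (pPrimeCore p ↥(normalizer ((zpowers x : Subgroup G) : Set G))).map
      (normalizer ((zpowers x : Subgroup G) : Set G)).subtype := by
  set C := centralizer ({x} : Set G)
  set N := normalizer ((zpowers x : Subgroup G) : Set G)
  have hCeq : centralizer ((zpowers x : Subgroup G) : Set G) = C := by
    refine le_antisymm (centralizer_le (Set.singleton_subset_iff.mpr (mem_zpowers x))) ?_
    intro y hy
    rw [mem_centralizer_iff]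
    intro z hz
    obtain ⟨k, rfl⟩ := mem_zpowers_iff.mp hz
    exact (Commute.zpow_left (mem_centralizer_singleton_iff.mp hy).symm k)
  have hCN : C ≤ N := hCeq ▸ centralizer_le_normalizer _
  have hn : (C.subgroupOf N).Normal := normal_subgroupOf_of_le_normalizer
    (hCeq ▸ normalizer_le_normalizer_centralizer' (zpowers x))
  have h1 := pPrimeCore_map_subtype_eq (p := p) hn.isSubnormal
  rw [← pPrimeCore_map_equiv (subgroupOfEquivOfLe hCN).symm] at h1
  refine le_trans (le_of_eq ?_) (Subgroup.map_mono (h1.le.trans inf_le_left))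
  rw [centralizerPPrimeCore, map_map, map_map]
  rfl

theorem centralizerPPrimeCore_centralizes {x : G} (hx : IsPGroup p (zpowers x)) {W : Subgroup G}
    [W.Normal] (hW : IsPGroup p W) : centralizerPPrimeCore p x ≤ centralizer (W : Set G) :=
  (centralizerPPrimeCore_le_local x).trans (local_pPrimeCore_centralizes hx hW)

theorem centralizerPPrimeCore_le_compKernel (hO : pPrimeCore p G = ⊥) {x : G}
    (hx : IsPGroup p (zpowers x)) : centralizerPPrimeCore p x ≤ compKernel G :=
  (centralizerPPrimeCore_le_local x).trans (local_pPrimeCore_le_compKernel hO hx)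

theorem isPGroup_zpowers_of_pow_eq_one {x : G} (hx : x ^ p = 1) : IsPGroup p (zpowers x) := by
  intro g
  obtain ⟨k, hk⟩ := mem_zpowers_iff.mp g.2
  refine ⟨1, Subtype.ext ?_⟩
  push_cast
  rw [pow_one, ← hk, ← zpow_natCast, ← zpow_mul, mul_comm k, zpow_mul, zpow_natCast, hx, one_zpow]

theorem center_component_le_pCore (hO : pPrimeCore p G = ⊥) {L : Subgroup G}
    (hL : IsComponent L) : L ⊓ centralizer (L : Set G) ≤ pCore p G := by
  rw [← fitting_eq_pCore hO]
  refine le_trans ?_ (inf_le_left (b := layer G))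
  rw [← layer_inf_centralizer_eq_fitting, layer_inf_centralizer_eq]
  exact le_iSup (fun L : {K : Subgroup G // IsComponent K} =>
    (L : Subgroup G) ⊓ centralizer ((L : Subgroup G) : Set G)) ⟨L, hL⟩

/-- if `x` centralizes the component `L` then so does `O_{p'}(C(x))` -/
theorem core_commute_of_centralized (hO : pPrimeCore p G = ⊥) {x : G} (hx : IsPGroup p (zpowers x))
    {L : Subgroup G} (hL : IsComponent L) (hxL : L ≤ centralizer ({x} : Set G)) :
    ⁅L, centralizerPPrimeCore p x⁆ = ⊥ := by
  set X := centralizerPPrimeCore p x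
  have h1 : L ≤ normalizer (X : Set G) :=
    hxL.trans (centralizer_le_normalizer_centralizerPPrimeCore x)
  rcases comp_le_or_commute_of_normalizes hL h1 with h | h
  · exfalso
    have := comp_dvd_card (p := p) hO hL
    exact (Fact.out : p.Prime).coprime_iff_not_dvd.mp (centralizerPPrimeCore_card_coprime x).symm
      (this.trans (Subgroup.card_dvd_of_le h))
  · exact h

/-- product of the first `k` conjugates -/
def orbitProd (x : G) : ℕ → G → G
  | 0, _ => 1
  | k + 1, l => orbitProd x k l * (x ^ k * l * (x ^ k)⁻¹)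

/-- if `x` moves the component `L` then `O_{p'}(C(x))` centralizes it -/
theorem core_commute_of_moved (hO : pPrimeCore p G = ⊥) {x : G} (hx : orderOf x = p)
    {L : Subgroup G} (hL : IsComponent L) (hxL : x ∉ normalizer (L : Set G)) :
    ⁅L, centralizerPPrimeCore p x⁆ = ⊥ := by
  have hxp : IsPGroup p (zpowers x) :=
    isPGroup_zpowers_of_pow_eq_one (by rw [← hx]; exact pow_orderOf_eq_one x)
  have hker : centralizerPPrimeCore p x ≤ compKernel G :=
    centralizerPPrimeCore_le_compKernel hO hxp
  set X := centralizerPPrimeCore p x with hX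
  have hcomm : ∀ i j : ℕ, i < p → j < p → i ≠ j → ∀ a ∈ L, ∀ b ∈ L,
      Commute (x ^ i * a * (x ^ i)⁻¹) (x ^ j * b * (x ^ j)⁻¹) := by
    have key : ∀ i j : ℕ, i < j → j < p →
        L.map (MulAut.conj (x ^ i)).toMonoidHom ≠ L.map (MulAut.conj (x ^ j)).toMonoidHom := by
      intro i j hij hjp h
      have h' := congrArg (Subgroup.map (MulAut.conj (x ^ i)⁻¹).toMonoidHom) h
      simp only [map_conj_mul, inv_mul_cancel, map_conj_one] at h'
      have hd : (x ^ i)⁻¹ * x ^ j = x ^ (j - i) := by
        rw [eq_comm, eq_inv_mul_iff_mul_eq, ← pow_add]; congr 1; omega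
      rw [hd] at h'
      have hmem : x ^ (j - i) ∈ normalizer (L : Set G) := mem_normalizer_iff_map_conj_eq.mpr h'.symm
      apply hxL
      obtain ⟨m, hm⟩ := exists_pow_eq_self_of_coprime (x := x) (n := j - i) (by
        rw [hx]
        exact (((Fact.out : p.Prime).coprime_iff_not_dvd).mpr
          (Nat.not_dvd_of_pos_of_lt (by omega) (by omega))).symm)
      exact hm ▸ pow_mem hmem m
    intro i j hi hj hij a ha b hb
    have hne : L.map (MulAut.conj (x ^ i)).toMonoidHom ≠ L.map (MulAut.conj (x ^ j)).toMonoidHom := by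
      rcases lt_or_gt_of_ne hij with h | h
      · exact key i j h hj
      · exact (key j i h hi).symm
    exact commute_of_commutator_eq_bot (comp_commute (comp_conj hL _) (comp_conj hL _) hne)
      ⟨a, ha, rfl⟩ ⟨b, hb, rfl⟩
  have hA : ∀ k : ℕ, k ≤ p → ∀ a ∈ L, ∀ j, k ≤ j → j < p → ∀ b ∈ L,
      Commute (orbitProd x k a) (x ^ j * b * (x ^ j)⁻¹) := by
    intro k
    induction k with
    | zero => intro _ a _ j _ _ b _; exact Commute.one_left _
    | succ k ih =>
      intro hk a ha j hj hjp b hb
      exact (ih (by omega) a ha j (by omega) hjp b hb).mul_left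
        (hcomm k j (by omega) hjp (by omega) a ha b hb)
  have hmul : ∀ k, k ≤ p → ∀ a ∈ L, ∀ b ∈ L,
      orbitProd x k (a * b) = orbitProd x k a * orbitProd x k b := by
    intro k
    induction k with
    | zero => intro _ a _ b _; simp [orbitProd]
    | succ k ih =>
      intro hk a ha b hb
      have hc := hA k (by omega) b hb k le_rfl (by omega) a ha
      simp only [orbitProd]
      rw [ih (by omega) a ha b hb]
      calc orbitProd x k a * orbitProd x k b * (x ^ k * (a * b) * (x ^ k)⁻¹)
          = orbitProd x k a * (orbitProd x k b * (x ^ k * a * (x ^ k)⁻¹)) *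
              (x ^ k * b * (x ^ k)⁻¹) := by group
        _ = orbitProd x k a * ((x ^ k * a * (x ^ k)⁻¹) * orbitProd x k b) *
              (x ^ k * b * (x ^ k)⁻¹) := by rw [hc.eq]
        _ = _ := by group
  have hconjL : ∀ k, 1 ≤ k → k ≤ p → ∀ a ∈ L, ∀ b ∈ L,
      orbitProd x k a * b * (orbitProd x k a)⁻¹ = a * b * a⁻¹ := by
    intro k
    induction k with
    | zero => intro h; omega
    | succ k ih =>
      intro _ hk a ha b hb
      rcases Nat.eq_zero_or_pos k with h0 | h0
      · subst h0; simp [orbitProd]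
      · have hc : Commute (x ^ k * a * (x ^ k)⁻¹) b := by
          have := hcomm k 0 (by omega) (by omega) (by omega) a ha b hb
          simpa using this
        simp only [orbitProd]
        calc orbitProd x k a * (x ^ k * a * (x ^ k)⁻¹) * b *
              (orbitProd x k a * (x ^ k * a * (x ^ k)⁻¹))⁻¹
            = orbitProd x k a * ((x ^ k * a * (x ^ k)⁻¹) * b) * (x ^ k * a * (x ^ k)⁻¹)⁻¹ *
                (orbitProd x k a)⁻¹ := by group
          _ = orbitProd x k a * (b * (x ^ k * a * (x ^ k)⁻¹)) * (x ^ k * a * (x ^ k)⁻¹)⁻¹ *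
                (orbitProd x k a)⁻¹ := by rw [hc.eq]
          _ = orbitProd x k a * b * (orbitProd x k a)⁻¹ := by group
          _ = _ := ih h0 (by omega) a ha b hb
  have hshift : ∀ k (a : G), a * (x * orbitProd x k a * x⁻¹) = orbitProd x (k + 1) a := by
    intro k
    induction k with
    | zero => intro a; simp [orbitProd]
    | succ k ih =>
      intro a
      show a * (x * (orbitProd x k a * (x ^ k * a * (x ^ k)⁻¹)) * x⁻¹) =
        orbitProd x (k + 1) a * (x ^ (k + 1) * a * (x ^ (k + 1))⁻¹)
      rw [← ih a, pow_succ' x k]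
      group
  have hfix : ∀ a ∈ L, x * orbitProd x p a * x⁻¹ = orbitProd x p a := by
    intro a ha
    have h1 := hshift p a
    have h2 : orbitProd x (p + 1) a = orbitProd x p a * a := by
      show orbitProd x p a * (x ^ p * a * (x ^ p)⁻¹) = _
      rw [← hx, pow_orderOf_eq_one]; simp
    have h3 : orbitProd x p a * a = a * orbitProd x p a := by
      have h4 := hconjL p (Fact.out : p.Prime).one_lt.le le_rfl a ha a ha
      rw [mul_inv_cancel_right] at h4
      exact mul_inv_eq_iff_eq_mul.mp h4
    rw [h2, h3] at h1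
    exact mul_left_cancel h1
  have hequiv : ∀ y : G, Commute y x → ∀ k a,
      y * orbitProd x k a * y⁻¹ = orbitProd x k (y * a * y⁻¹) := by
    intro y hy k
    induction k with
    | zero => intro a; simp [orbitProd]
    | succ k ih =>
      intro a
      simp only [orbitProd]
      rw [← ih a]
      have hyk : y * x ^ k = x ^ k * y := (hy.pow_right k).eq
      calc y * (orbitProd x k a * (x ^ k * a * (x ^ k)⁻¹)) * y⁻¹
          = (y * orbitProd x k a * y⁻¹) * ((y * x ^ k) * a * (y * x ^ k)⁻¹) := by group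
        _ = _ := by rw [hyk]; group
  let δ : ↥L →* G :=
    MonoidHom.mk' (fun l => orbitProd x p (l : G)) fun a b => hmul p le_rfl a a.2 b b.2
  have hδC : ∀ l : ↥L, δ l ∈ centralizer ({x} : Set G) := fun l => by
    rw [mem_centralizer_singleton_iff]
    exact (mul_inv_eq_iff_eq_mul.mp (hfix l l.2)).symm
  set J : Subgroup ↥L := X.comap δ with hJ
  haveI hJn : J.Normal := by
    refine ⟨fun j hj g => ?_⟩
    show δ (g * j * g⁻¹) ∈ X
    rw [map_mul, map_mul, map_inv]
    exact (mem_normalizer_iff.mp (centralizer_le_normalizer_centralizerPPrimeCore x (hδC g)) _).mp hj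
  have hJc : J ≤ center ↥L := by
    rcases qs_subnormal_eq_top_or_le_center hL.2 hJn.isSubnormal with h | h
    · exfalso
      have hp1 : p ∣ (center L).index :=
        qs_dvd_index_center hL.2 (comp_center_isPGroup hO hL) (comp_dvd_card hO hL)
      obtain ⟨S⟩ := (inferInstance : Nonempty (Sylow p ↥L))
      apply S.not_dvd_index
      refine hp1.trans (Subgroup.index_dvd_of_le ?_)
      intro s hs
      obtain ⟨a, ha⟩ := S.2 ⟨s, hs⟩
      have ha' : s ^ p ^ a = 1 := congrArg Subtype.val ha
      have h1 : δ s ^ p ^ a = 1 := by rw [← map_pow, ha', map_one]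
      have hmem : δ s ∈ X := (show s ∈ J by rw [h]; exact mem_top s)
      have h2 : δ s = 1 := by
        have h3 := pow_gcd_eq_one.mpr ⟨h1, pow_orderOf_eq_one (δ s)⟩
        rwa [(((centralizerPPrimeCore_card_coprime x).coprime_dvd_left
          (Subgroup.orderOf_dvd_natCard X hmem)).symm.pow_left a).gcd_eq_one, pow_one] at h3
      rw [mem_center_iff]
      intro b
      apply Subtype.ext
      have h4 := hconjL p (Fact.out : p.Prime).one_lt.le le_rfl (s : G) s.2 (b : G) b.2
      rw [show orbitProd x p (s : G) = δ s from rfl, h2, one_mul, inv_one, mul_one] at h4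
      exact mul_inv_eq_iff_eq_mul.mp h4.symm |>.symm
    · exact h
  apply commutator_eq_bot_of_perfect (comp_perfect hL)
  rw [commutator_eq_bot_iff_le_centralizer, commutator_le]
  intro l hl y hy
  have hyL : y * l * y⁻¹ ∈ L :=
    (mem_normalizer_iff.mp (mem_compKernel.mp (hker hy) L hL) l).mp hl
  have hyC : y ∈ centralizer ({x} : Set G) := centralizerPPrimeCore_le_centralizer x hy
  set c : ↥L := ⟨y * l * y⁻¹, hyL⟩ * ⟨l, hl⟩⁻¹ with hc
  have hcJ : c ∈ J := by
    show δ c ∈ X
    rw [hc, map_mul, map_inv]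
    show orbitProd x p (y * l * y⁻¹) * (δ ⟨l, hl⟩)⁻¹ ∈ X
    rw [← hequiv y (mem_centralizer_singleton_iff.mp hyC) p l]
    show y * δ ⟨l, hl⟩ * y⁻¹ * (δ ⟨l, hl⟩)⁻¹ ∈ X
    rw [mul_assoc, mul_assoc, ← mul_assoc (δ ⟨l, hl⟩)]
    exact mul_mem hy ((mem_normalizer_iff.mp
      (centralizer_le_normalizer_centralizerPPrimeCore x (hδC ⟨l, hl⟩)) _).mp (inv_mem hy))
  have hz := hJc hcJ
  have hlc : ⁅l, y⁆ = (c : G)⁻¹ := by
    rw [hc]; push_cast; rw [commutatorElement_def]; group
  rw [hlc]
  refine inv_mem (mem_centralizer_iff.mpr fun b hb => ?_)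
  exact congrArg Subtype.val (mem_center_iff.mp hz ⟨b, hb⟩)

/-- S1270: `[L,x] ≠ L` -/
theorem core_commute_of_commutator_ne (hO : pPrimeCore p G = ⊥) {x : G} (hx : orderOf x = p)
    {L : Subgroup G} (hL : IsComponent L) (hne : ⁅L, zpowers x⁆ ≠ L) :
    ⁅L, centralizerPPrimeCore p x⁆ = ⊥ := by
  by_cases hxL : x ∈ normalizer (L : Set G)
  · apply core_commute_of_centralized hO
      (isPGroup_zpowers_of_pow_eq_one (by rw [← hx]; exact pow_orderOf_eq_one x)) hL
    have hle : ⁅L, zpowers x⁆ ≤ L :=
      le_normalizer_iff_commutator_le_left.mp (zpowers_le.mpr hxL)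
    have hn : (⁅L, zpowers x⁆.subgroupOf L).Normal :=
      normal_subgroupOf_of_le_normalizer (normalizer_commutator_ge_left L (zpowers x))
    rcases qs_subnormal_eq_top_or_le_center hL.2 hn.isSubnormal with h | h
    · exact absurd (le_antisymm hle (subgroupOf_eq_top.mp h)) hne
    · have h1 : ⁅⁅L, zpowers x⁆, L⁆ = ⊥ := by
        rw [commutator_eq_bot_iff_le_centralizer]
        intro c hc
        rw [mem_centralizer_iff]
        intro b hb
        exact congrArg Subtype.val
          (mem_center_iff.mp (h (show (⟨c, hle hc⟩ : ↥L) ∈ _ from hc)) ⟨b, hb⟩)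
      have h2 := commutator_eq_bot_of_perfect (comp_perfect hL) h1
      rw [commutator_eq_bot_iff_le_centralizer] at h2
      exact h2.trans (centralizer_le (Set.singleton_subset_iff.mpr (mem_zpowers x)))
  · exact core_commute_of_moved hO hx hL hxL

/-- the part of `O_{p'}(C(b))` acting on a component lands in the `p'`-core of the centralizer of
the automorphism induced by `b` -/
theorem core_image_le (hO : pPrimeCore p G = ⊥) {b : G} (hb : IsPGroup p (zpowers b))
    {L : Subgroup G} (hL : IsComponent L) {M D T : Subgroup G} (hT : T = L ⊔ M)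
    (hMb : M ≤ centralizer ({b} : Set G)) (hMD : M ≤ normalizer (D : Set G))
    (hML : M ≤ normalizer (L : Set G)) (hbM : b ∈ M) (hD : D ≤ centralizerPPrimeCore p b)
    (hDM : D ≤ M) {Q : Type*} [Group Q] [Finite Q] (f : ↥T →* Q) (hf : Function.Surjective f)
    (hker : ∀ t : ↥T, f t = 1 ↔ (t : G) ∈ centralizer (L : Set G)) (hbT : b ∈ T) :
    (D.subgroupOf T).map f ≤ centralizerPPrimeCore p (f ⟨b, hbT⟩) := by
  have hLT : L ≤ T := hT ▸ le_sup_left
  have hMT : M ≤ T := hT ▸ le_sup_right
  have hTL : T ≤ normalizer (L : Set G) := hT ▸ sup_le le_normalizer hML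
  set U : Subgroup ↥T := (centralizer ({f ⟨b, hbT⟩} : Set Q)).comap f with hU
  set T0 : Subgroup G := L ⊔ D with hT0
  have hT0T : T0 ≤ T := sup_le hLT (hDM.trans hMT)
  have hT0n : T ≤ normalizer (T0 : Set G) := by
    rw [hT]
    refine sup_le (le_trans (le_sup_left : L ≤ L ⊔ D) le_normalizer) ?_
    exact (le_inf hML hMD).trans (normalizer_inf_normalizer_le_normalizer_sup L D)
  set T0' := T0.subgroupOf T
  haveI : T0'.Normal := normal_subgroupOf_of_le_normalizer hT0n
  haveI hU0n : ((T0' ⊓ U).subgroupOf U).Normal := by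
    rw [inf_subgroupOf_right]; infer_instance
  set V : Subgroup ↥T := T0' ⊓ U ⊓ centralizer ({(⟨b, hbT⟩ : ↥T)} : Set ↥T) with hV
  -- commutators of `U ∩ T0` with `b` are central in `T0`
  have hZc : ∀ u ∈ T0' ⊓ U, ∀ c ∈ T0',
      (⁅((u : ↥T) : G), b⁆) * ((c : ↥T) : G) = ((c : ↥T) : G) * ⁅((u : ↥T) : G), b⁆ := by
    intro u hu c hc
    have h1 : ⁅((u : ↥T) : G), b⁆ ∈ centralizer (L : Set G) := by
      have h2 : f ⁅u, (⟨b, hbT⟩ : ↥T)⁆ = 1 := by
        rw [map_commutatorElement]
        exact commutatorElement_eq_one_iff_mul_comm.mpr (mem_centralizer_singleton_iff.mp hu.2)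
      have h3 := (hker _).mp h2
      rwa [← T.coe_subtype, map_commutatorElement] at h3
    have h2 : ⁅((u : ↥T) : G), b⁆ ∈ L := by
      have hu1 : ((u : ↥T) : G) ∈ ((L ⊔ D : Subgroup G) : Set G) := hu.1
      rw [coe_mul_of_right_le_normalizer_left _ _ (hDM.trans hML)] at hu1
      obtain ⟨l, hl, d, hd, hld⟩ := hu1
      have hdb : d * b = b * d := mem_centralizer_singleton_iff.mp (hMb (hDM hd))
      have : ⁅((u : ↥T) : G), b⁆ = l * (b * l⁻¹ * b⁻¹) := by
        rw [← hld]
        show ⁅l * d, b⁆ = _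
        rw [commutatorElement_def]
        calc l * d * b * (l * d)⁻¹ * b⁻¹ = l * (d * b) * d⁻¹ * l⁻¹ * b⁻¹ := by group
          _ = l * (b * d) * d⁻¹ * l⁻¹ * b⁻¹ := by rw [hdb]
          _ = _ := by group
      rw [this]
      exact mul_mem hl ((mem_normalizer_iff.mp (hTL (hMT hbM)) _).mp (inv_mem hl))
    have h3 : T0 ≤ centralizer ({⁅((u : ↥T) : G), b⁆} : Set G) := by
      refine sup_le (fun l hl => mem_centralizer_singleton_iff.mpr
        (mem_centralizer_iff.mp h1 l hl)) (fun d hd => mem_centralizer_singleton_iff.mpr ?_)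
      exact (mem_centralizer_iff.mp (centralizerPPrimeCore_centralizes hb (isPGroup_pCore p) (hD hd))
        _ (center_component_le_pCore hO hL ⟨h2, h1⟩)).symm
    exact (mem_centralizer_singleton_iff.mp (h3 hc)).symm
  have hVn : (V.subgroupOf (T0' ⊓ U)).Normal := by
    refine ⟨fun c hc g => mem_subgroupOf.mpr ?_⟩
    have hc' : (c : ↥T) ∈ V := mem_subgroupOf.mp hc
    have hm : ((g : ↥T) * (c : ↥T) * (g : ↥T)⁻¹) ∈ T0' ⊓ U :=
      mul_mem (mul_mem g.2 c.2) (inv_mem g.2)
    refine ⟨hm, mem_centralizer_singleton_iff.mpr (Subtype.ext ?_)⟩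
    set gg : G := ((g : ↥T) : G) with hgg
    set cc : G := ((c : ↥T) : G) with hcc
    have hcb : cc * b = b * cc := congrArg Subtype.val (mem_centralizer_singleton_iff.mp hc'.2)
    have hz := hZc _ ((T0' ⊓ U).inv_mem g.2) _ hc'.1.1
    have hz' : (gg⁻¹ * b * gg * b⁻¹) * cc = cc * (gg⁻¹ * b * gg * b⁻¹) := by
      have : ⁅(((g : ↥T)⁻¹ : ↥T) : G), b⁆ = gg⁻¹ * b * gg * b⁻¹ := by
        rw [commutatorElement_def, InvMemClass.coe_inv, ← hgg, inv_inv]
      rwa [this] at hz
    show gg * cc * gg⁻¹ * b = b * (gg * cc * gg⁻¹)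
    calc gg * cc * gg⁻¹ * b = gg * (cc * (gg⁻¹ * b * gg * b⁻¹)) * b * gg⁻¹ := by group
      _ = gg * ((gg⁻¹ * b * gg * b⁻¹) * cc) * b * gg⁻¹ := by rw [hz']
      _ = gg * (gg⁻¹ * b * gg * b⁻¹) * (cc * b) * gg⁻¹ := by group
      _ = gg * (gg⁻¹ * b * gg * b⁻¹) * (b * cc) * gg⁻¹ := by rw [hcb]
      _ = b * (gg * cc * gg⁻¹) := by group
  set X : Subgroup ↥T := V ⊓ (centralizerPPrimeCore p b).subgroupOf T with hX
  have hXn : (X.subgroupOf V).Normal := by
    refine ⟨fun c hc g => mem_subgroupOf.mpr ?_⟩
    have hc' : (c : ↥T) ∈ X := mem_subgroupOf.mp hc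
    refine ⟨(g * c * g⁻¹).2, mem_subgroupOf.mpr ?_⟩
    have hg : ((g : ↥T) : G) ∈ centralizer ({b} : Set G) :=
      mem_centralizer_singleton_iff.mpr
        (congrArg Subtype.val (mem_centralizer_singleton_iff.mp g.2.2))
    exact (mem_normalizer_iff.mp (centralizer_le_normalizer_centralizerPPrimeCore b hg) _).mp hc'.2
  have hXsn : (X.subgroupOf U).IsSubnormal := by
    have h2 : ((V.subgroupOf U).subgroupOf ((T0' ⊓ U).subgroupOf U)).Normal := by
      refine normal_subgroupOf_of_le_normalizer ?_
      intro g hg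
      rw [mem_normalizer_iff]
      intro c
      simp only [SetLike.mem_coe, mem_subgroupOf] at hg ⊢
      constructor
      · intro hc
        exact hVn.conj_mem ⟨(c : ↥T), hc.1⟩ hc ⟨(g : ↥T), hg⟩
      · intro hc
        have := hVn.conj_mem ⟨_, hc.1⟩ hc ⟨((g : ↥T))⁻¹, inv_mem hg⟩
        simpa [mem_subgroupOf, mul_assoc] using this
    have hVsn : (V.subgroupOf U).IsSubnormal :=
      IsSubnormal.step _ _ (Subgroup.comap_mono inf_le_left) hU0n.isSubnormal h2
    refine IsSubnormal.step _ _ (Subgroup.comap_mono inf_le_left) hVsn ?_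
    refine normal_subgroupOf_of_le_normalizer ?_
    intro g hg
    rw [mem_normalizer_iff]
    intro c
    simp only [SetLike.mem_coe, mem_subgroupOf] at hg ⊢
    constructor
    · intro hc
      exact hXn.conj_mem ⟨(c : ↥T), hc.1⟩ hc ⟨(g : ↥T), hg⟩
    · intro hc
      have := hXn.conj_mem ⟨_, hc.1⟩ hc ⟨((g : ↥T))⁻¹, inv_mem hg⟩
      simpa [mem_subgroupOf, mul_assoc] using this
  have hXcop : (Nat.card ↥(X.subgroupOf U)).Coprime p := by
    rw [card_subgroupOf_of_le (inf_le_left.trans (inf_le_left.trans inf_le_right))]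
    refine (centralizerPPrimeCore_card_coprime (p := p) b).coprime_dvd_left ?_
    refine (Subgroup.card_dvd_of_le (inf_le_right : X ≤ _)).trans ?_
    rw [← inf_subgroupOf_right, card_subgroupOf_of_le inf_le_right]
    exact Subgroup.card_dvd_of_le inf_le_left
  have hXle := Subgroup.map_mono (f := f) (Subgroup.map_mono (f := U.subtype)
    (le_pPrimeCore_of_subnormal hXsn hXcop))
  rw [map_subgroupOf_eq_of_le (inf_le_left.trans (inf_le_left.trans inf_le_right))] at hXle
  refine le_trans (Subgroup.map_mono ?_) (hXle.trans ?_)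
  · intro d hd
    have hd' : (d : G) ∈ D := hd
    have hdb : d * (⟨b, hbT⟩ : ↥T) = ⟨b, hbT⟩ * d :=
      Subtype.ext (mem_centralizer_singleton_iff.mp (hMb (hDM hd')))
    refine ⟨⟨⟨(le_sup_right : D ≤ T0) hd', ?_⟩, mem_centralizer_singleton_iff.mpr hdb⟩, hD hd'⟩
    show f d ∈ centralizer ({f ⟨b, hbT⟩} : Set Q)
    rw [mem_centralizer_singleton_iff, ← map_mul, ← map_mul, hdb]
  · have hUf : U.map f = centralizer ({f ⟨b, hbT⟩} : Set Q) :=
      map_comap_eq_self_of_surjective hf _
    refine le_centralizerPPrimeCore ?_ ?_ ?_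
    · exact hUf ▸ Subgroup.map_mono (map_subtype_le _)
    · rw [← hUf]
      refine le_trans (Subgroup.map_mono ?_) (le_normalizer_map f)
      conv_lhs => rw [← range_subtype U, MonoidHom.range_eq_map]
      exact le_trans (Subgroup.map_mono (normalizer_eq_top _).ge) (le_normalizer_map _)
    · refine Nat.Coprime.coprime_dvd_left (card_map_dvd _ _) ?_
      rw [← Nat.card_congr (Subgroup.equivMapOfInjective _ _ U.subtype_injective).toEquiv]
      exact coprime_card_pPrimeCore p

end Cfsg.Lib.Components
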