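import Cfsg.Agent.Components.Layer

/-!
The least subnormal supplement of a normal subgroup with perfect quotient; subnormal subgroups and
the `p`-core and `p'`-core.
-/

set_option linter.style.haveILetI false
set_option linter.unusedSectionVars false

namespace Cfsg.Lib.Components

open Subgroup
open scoped commutatorElement

universe u

variable {G : Type u} [Group G]

theorem perfect_mod_iff (D : Subgroup G) [D.Normal] :
    ⁅(⊤ : Subgroup G), (⊤ : Subgroup G)⁆ ⊔ D = ⊤ ↔ Group.IsPerfect (G ⧸ D) := by
  have hmap : (⁅(⊤ : Subgroup G), (⊤ : Subgroup G)⁆).map (QuotientGroup.mk' D)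
      = _root_.commutator (G ⧸ D) := by
    rw [map_commutator, map_top_of_surjective _ (QuotientGroup.mk'_surjective D),
      _root_.commutator_def]
  constructor
  · intro h
    refine ⟨?_⟩
    rw [← hmap]
    have := congrArg (Subgroup.map (QuotientGroup.mk' D)) h
    rwa [Subgroup.map_sup, QuotientGroup.map_mk'_self, sup_bot_eq,
      map_top_of_surjective _ (QuotientGroup.mk'_surjective D)] at this
  · intro h
    have h' := congrArg (Subgroup.comap (QuotientGroup.mk' D)) (hmap.trans h.1)
    rwa [comap_map_eq, QuotientGroup.ker_mk', comap_top] at h'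

theorem commutator_sup_eq_top {D A B : Subgroup G} [D.Normal]
    (hperf : ⁅(⊤ : Subgroup G), (⊤ : Subgroup G)⁆ ⊔ D = ⊤) (hA : A ⊔ D = ⊤) (hB : B ⊔ D = ⊤) :
    ⁅A, B⁆ ⊔ D = ⊤ := by
  have hA' := congrArg (Subgroup.map (QuotientGroup.mk' D)) hA
  have hB' := congrArg (Subgroup.map (QuotientGroup.mk' D)) hB
  rw [Subgroup.map_sup, QuotientGroup.map_mk'_self, sup_bot_eq] at hA' hB'
  have h : (⁅A, B⁆).map (QuotientGroup.mk' D)
      = (⁅(⊤ : Subgroup G), (⊤ : Subgroup G)⁆).map (QuotientGroup.mk' D) := by
    rw [map_commutator, hA', hB', map_commutator]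
  have h2 := congrArg (Subgroup.comap (QuotientGroup.mk' D)) h
  rw [comap_map_eq, comap_map_eq, QuotientGroup.ker_mk'] at h2
  rw [h2, hperf]

theorem exists_least_supplement_aux (n : ℕ) : ∀ (G : Type u) [Group G] [Finite G],
    Nat.card G ≤ n → ∀ (D : Subgroup G) [D.Normal],
      ⁅(⊤ : Subgroup G), (⊤ : Subgroup G)⁆ ⊔ D = ⊤ →
      ∃ B : Subgroup G, B.Normal ∧ B ⊔ D = ⊤ ∧
        ∀ H : Subgroup G, H.IsSubnormal → H ⊔ D = ⊤ → B ≤ H := by
  induction n with
  | zero => intro G _ _ hc; exact absurd hc (by have := Nat.card_pos (α := G); omega)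
  | succ n ih =>
    intro G _ _ hc D _ hperf
    obtain ⟨B, ⟨hBn, hBD⟩, hmin⟩ := WellFounded.has_min (wellFounded_lt (α := Subgroup G))
      {B | B.Normal ∧ B ⊔ D = ⊤} ⟨⊤, inferInstance, top_sup_eq D⟩
    have hleN : ∀ N : Subgroup G, N.Normal → N ⊔ D = ⊤ → B ≤ N := by
      intro N hN hND
      have hle : ⁅B, N⁆ ≤ B ⊓ N := commutator_le_inf B N
      have heq : ⁅B, N⁆ = B := eq_of_le_of_not_lt (hle.trans inf_le_left)
        fun hlt => hmin _ ⟨inferInstance, commutator_sup_eq_top hperf hBD hND⟩ hlt
      exact heq ▸ hle.trans inf_le_right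
    refine ⟨B, hBn, hBD, fun H hH hHD => ?_⟩
    by_cases ht : H = ⊤
    · exact ht ▸ le_top
    obtain ⟨M, hM, hHM, hMt⟩ := exists_proper_normal hH ht
    have hcM : Nat.card M ≤ n := by have := card_lt_of_ne_top hMt; omega
    have hMD : M ⊔ D = ⊤ := eq_top_iff.mpr (hHD ▸ sup_le_sup_right hHM D)
    have hperfM : ⁅(⊤ : Subgroup M), (⊤ : Subgroup M)⁆ ⊔ D.subgroupOf M = ⊤ := by
      rw [perfect_mod_iff]
      haveI := (perfect_mod_iff D).mp hperf
      have hsurj : Function.Surjective ((QuotientGroup.mk' D).comp M.subtype) := by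
        intro y
        obtain ⟨g, rfl⟩ := QuotientGroup.mk'_surjective D y
        obtain ⟨m, hm, d, hd, rfl⟩ := mem_sup_of_normal_right.mp (hMD ▸ mem_top g : g ∈ M ⊔ D)
        exact ⟨⟨m, hm⟩, by simp [(QuotientGroup.eq_one_iff d).mpr hd]⟩
      have hker : ((QuotientGroup.mk' D).comp M.subtype).ker = D.subgroupOf M := by
        rw [← MonoidHom.comap_ker, QuotientGroup.ker_mk']; rfl
      have e := ((QuotientGroup.quotientMulEquivOfEq hker).symm.trans
        (QuotientGroup.quotientKerEquivOfSurjective _ hsurj)).symm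
      exact Group.IsPerfect.ofSurjective (f := e.toMonoidHom) e.surjective
    obtain ⟨BM, hBMn, hBMD, hBMmin⟩ := ih M hcM (D.subgroupOf M) hperfM
    have hHD' : H.subgroupOf M ⊔ D.subgroupOf M = ⊤ := by
      rw [eq_top_iff]
      intro m _
      obtain ⟨h, hh, d, hd, hm⟩ := mem_sup_of_normal_right.mp (hHD ▸ mem_top (m : G) : (m : G) ∈ H ⊔ D)
      have hdM : d ∈ M := by
        have : d = h⁻¹ * (m : G) := by rw [← hm, inv_mul_cancel_left]
        rw [this]; exact mul_mem (inv_mem (hHM hh)) m.2
      have : m = ⟨h, hHM hh⟩ * ⟨d, hdM⟩ := Subtype.ext hm.symm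
      rw [this]
      exact mul_mem_sup hh hd
    have h1 := Subgroup.map_mono (f := M.subtype) (hBMmin _ hH.subgroupOf hHD')
    rw [map_subgroupOf_eq_of_le hHM] at h1
    have hconj : ∀ g : G, BM.map M.subtype ≤ (BM.map M.subtype).map (MulAut.conj g).toMonoidHom := by
      intro g
      let e : M ≃* M := MulAut.conjNormal g
      have he : (BM.map M.subtype).map (MulAut.conj g).toMonoidHom
          = (BM.map e.toMonoidHom).map M.subtype := by
        rw [map_map, map_map]; rfl
      rw [he]
      refine Subgroup.map_mono (hBMmin _ (hBMn.isSubnormal.map e.surjective) ?_)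
      have hD : (D.subgroupOf M).map e.toMonoidHom = D.subgroupOf M := by
        ext x
        simp only [mem_map, mem_subgroupOf]
        constructor
        · rintro ⟨y, hy, rfl⟩
          exact Subgroup.Normal.conj_mem inferInstance (y : G) hy g
        · intro hx
          refine ⟨e.symm x, ?_, e.apply_symm_apply x⟩
          simpa [e] using Subgroup.Normal.conj_mem' (inferInstance : D.Normal) (x : G) hx g
      have := congrArg (Subgroup.map e.toMonoidHom) hBMD
      rw [Subgroup.map_sup, hD] at this
      exact this.trans (map_top_of_surjective _ e.surjective)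
    have hnorm : (BM.map M.subtype).Normal := by
      rw [← normalizer_eq_top_iff, eq_top_iff]
      intro g _
      rw [mem_normalizer_iff_map_conj_eq]
      refine le_antisymm ?_ (hconj g)
      have h2 := Subgroup.map_mono (f := (MulAut.conj g).toMonoidHom) (hconj g⁻¹)
      rw [map_map (BM.map M.subtype)] at h2
      refine h2.trans (le_of_eq ?_)
      have : (MulAut.conj g).toMonoidHom.comp (MulAut.conj g⁻¹).toMonoidHom = MonoidHom.id G := by
        ext x; simp [mul_assoc]
      rw [this, map_id]
    refine (hleN _ hnorm ?_).trans h1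
    have h3 := congrArg (Subgroup.map M.subtype) hBMD
    rw [Subgroup.map_sup, ← MonoidHom.range_eq_map, range_subtype, subgroupOf_map_subtype] at h3
    rw [eq_top_iff, ← hMD]
    refine sup_le ?_ le_sup_right
    calc M = BM.map M.subtype ⊔ D ⊓ M := h3.symm
      _ ≤ _ := sup_le_sup_left inf_le_left _

theorem exists_least_supplement [Finite G] (D : Subgroup G) [D.Normal]
    (hperf : ⁅(⊤ : Subgroup G), (⊤ : Subgroup G)⁆ ⊔ D = ⊤) :
    ∃ B : Subgroup G, B.Normal ∧ B ⊔ D = ⊤ ∧
      ∀ H : Subgroup G, H.IsSubnormal → H ⊔ D = ⊤ → B ≤ H :=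
  exists_least_supplement_aux _ G le_rfl D hperf

/-! ### subnormal `p`- and `p'`-subgroups -/

theorem le_of_subnormal_induction (P : ∀ (G : Type u) [Group G], Subgroup G → Prop)
    (R : ∀ (G : Type u) [Group G], Subgroup G)
    (hstep : ∀ (G : Type u) [Group G] [Finite G] (N H : Subgroup G) [N.Normal], H ≤ N → P G H →
      P N (H.subgroupOf N) ∧ (R N).map N.subtype ≤ R G)
    (htop : ∀ (G : Type u) [Group G] [Finite G], P G ⊤ → ⊤ ≤ R G)
    (n : ℕ) : ∀ (G : Type u) [Group G] [Finite G], Nat.card G ≤ n → ∀ H : Subgroup G,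
      H.IsSubnormal → P G H → H ≤ R G := by
  induction n with
  | zero => intro G _ _ hc; exact absurd hc (by have := Nat.card_pos (α := G); omega)
  | succ n ih =>
    intro G _ _ hc H hH hP
    by_cases ht : H = ⊤
    · subst ht; exact htop G hP
    obtain ⟨N, hN, hHN, hNt⟩ := exists_proper_normal hH ht
    have hcN : Nat.card N ≤ n := by have := card_lt_of_ne_top hNt; omega
    obtain ⟨h1, h2⟩ := hstep G N H hHN hP
    have h := Subgroup.map_mono (f := N.subtype) (ih N hcN (H.subgroupOf N) hH.subgroupOf h1)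
    rw [map_subgroupOf_eq_of_le hHN] at h
    exact h.trans h2

theorem card_subgroupOf_of_le {H N : Subgroup G} (h : H ≤ N) :
    Nat.card (H.subgroupOf N) = Nat.card H :=
  Nat.card_congr (subgroupOfEquivOfLe h).toEquiv

theorem le_pPrimeCore_of_subnormal [Finite G] {p : ℕ} {H : Subgroup G} (hH : H.IsSubnormal)
    (h : (Nat.card H).Coprime p) : H ≤ pPrimeCore p G := by
  refine le_of_subnormal_induction (fun G _ H => (Nat.card H).Coprime p)
    (fun G _ => pPrimeCore p G) ?_ ?_ _ G le_rfl H hH h
  · intro G _ _ N H _ hle hP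
    refine ⟨by rwa [card_subgroupOf_of_le hle], ?_⟩
    haveI : (pPrimeCore p N).Characteristic := by
      refine characteristic_iff_le_map.mpr fun e => ?_
      have hn : ((pPrimeCore p N).map e.toMonoidHom).Normal :=
        (pPrimeCore_normal' p).map _ e.surjective
      have hn2 : ((pPrimeCore p N).map e.symm.toMonoidHom).Normal :=
        (pPrimeCore_normal' p).map _ e.symm.surjective
      have hle2 : (pPrimeCore p N).map e.symm.toMonoidHom ≤ pPrimeCore p N := le_pPrimeCore (by
        rw [← Nat.card_congr (Subgroup.equivMapOfInjective _ _ e.symm.injective).toEquiv]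
        exact coprime_card_pPrimeCore p)
      have := Subgroup.map_mono (f := e.toMonoidHom) hle2
      rwa [map_map, show e.toMonoidHom.comp e.symm.toMonoidHom = MonoidHom.id N from
        MonoidHom.ext fun x => e.apply_symm_apply x, map_id] at this
    apply le_pPrimeCore
    rw [← Nat.card_congr (Subgroup.equivMapOfInjective _ _ N.subtype_injective).toEquiv]
    exact coprime_card_pPrimeCore p
  · intro G _ _ hP
    exact le_pPrimeCore hP

theorem le_pCore_of_subnormal [Finite G] {p : ℕ} {H : Subgroup G} (hH : H.IsSubnormal)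
    (h : IsPGroup p H) : H ≤ pCore p G := by
  refine le_of_subnormal_induction (fun G _ H => IsPGroup p H)
    (fun G _ => pCore p G) ?_ ?_ _ G le_rfl H hH h
  · intro G _ _ N H _ hle hP
    refine ⟨hP.of_equiv (subgroupOfEquivOfLe hle).symm, ?_⟩
    haveI : (pCore p N).Characteristic := by
      refine characteristic_iff_le_map.mpr fun e => ?_
      have hn : ((pCore p N).map e.symm.toMonoidHom).Normal :=
        (pCore_normal' p).map _ e.symm.surjective
      have hle2 : (pCore p N).map e.symm.toMonoidHom ≤ pCore p N :=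
        le_pCore ((isPGroup_pCore p).map _)
      have := Subgroup.map_mono (f := e.toMonoidHom) hle2
      rwa [map_map, show e.toMonoidHom.comp e.symm.toMonoidHom = MonoidHom.id N from
        MonoidHom.ext fun x => e.apply_symm_apply x, map_id] at this
    exact le_pCore ((isPGroup_pCore p).map _)
  · intro G _ _ hP
    exact le_pCore hP

end Cfsg.Lib.Components
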