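import Cfsg.Agent.Components.PComponents
import Mathlib.GroupTheory.SchurZassenhaus

/-!
Further facts on `p`-components.
-/

set_option linter.style.haveILetI false
set_option linter.unusedSectionVars false

namespace Cfsg.Lib.Components

open Subgroup
open scoped commutatorElement

universe u

variable {G : Type u} [Group G] {G' : Type*} [Group G'] {p : ℕ}

local notation "q" => QuotientGroup.mk' (pPrimeCore p G)

theorem qs_of_surjective [Finite G] (h : IsQuasisimple G) (f : G →* G')
    (hf : Function.Surjective f) [Nontrivial G'] : IsQuasisimple G' := by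
  haveI : Finite G' := Finite.of_surjective f hf
  refine isQuasisimple_of_perfect_of_subnormal inferInstance ?_ ?_
  · have := congrArg (Subgroup.map f) (qs_commutator_top h)
    rwa [map_commutator, map_top_of_surjective f hf] at this
  · intro N hN hNt
    rcases qs_subnormal_eq_top_or_le_center h (hN.comap f).isSubnormal with h' | h'
    · exact absurd (by rw [← map_comap_eq_self_of_surjective hf N, h', map_top_of_surjective f hf]) hNt
    · intro y hy
      obtain ⟨x, rfl⟩ := hf y
      rw [mem_center_iff]
      intro g
      obtain ⟨g', rfl⟩ := hf g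
      rw [← map_mul, ← map_mul, mem_center_iff.mp (h' hy) g']

theorem comp_map_surjective [Finite G] {L : Subgroup G} (hL : IsComponent L) (f : G →* G')
    (hf : Function.Surjective f) : L.map f = ⊥ ∨ IsComponent (L.map f) := by
  refine or_iff_not_imp_left.mpr fun hne => ⟨hL.1.map hf, ?_⟩
  haveI : Nontrivial ↥(L.map f) := (Subgroup.nontrivial_iff_ne_bot _).mpr hne
  exact qs_of_surjective hL.2 (f.subgroupMap L) (f.subgroupMap_surjective L)

variable [Finite G]

/-- a `p`-component modulo its `p'`-core is its image in `G/O_{p'}(G)` -/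
theorem pcomp_quotient_equiv {K : Subgroup G} (hK : K.IsSubnormal) :
    Nonempty ((↥K ⧸ pPrimeCore p K) ≃* ↥(K.map q)) := by
  let f : K →* K.map q := (q).subgroupMap K
  have hker : f.ker = pPrimeCore p K := by
    rw [← pPrimeCore_subgroupOf_eq hK]
    ext x
    rw [MonoidHom.mem_ker, Subtype.ext_iff, mem_subgroupOf]
    exact QuotientGroup.eq_one_iff _
  exact ⟨(QuotientGroup.quotientMulEquivOfEq hker).symm.trans
    (QuotientGroup.quotientKerEquivOfSurjective f ((q).subgroupMap_surjective K))⟩

theorem pcomp_quotient_qs {K : Subgroup G} (hK : IsPComponent p K) :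
    IsQuasisimple (↥K ⧸ pPrimeCore p K) := by
  obtain ⟨e⟩ := pcomp_quotient_equiv (p := p) hK.1
  exact qs_congr' e.symm hK.2.1.2

/-- if the centre of a quasisimple group is a `p`-group, `p` divides the index of the centre -/
theorem qs_dvd_index_center [Fact p.Prime] (h : IsQuasisimple G) (hZ : IsPGroup p (center G))
    (hp : p ∣ Nat.card G) : p ∣ (center G).index := by
  by_contra hn
  obtain ⟨k, hk⟩ := IsPGroup.iff_card.mp hZ
  have hcop : (Nat.card (center G)).Coprime (center G).index := by
    rw [hk]; exact Nat.Coprime.pow_left _ ((Fact.out : p.Prime).coprime_iff_not_dvd.mpr hn)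
  obtain ⟨C, hC⟩ := exists_right_complement'_of_coprime hcop
  have hCt : C = ⊤ := eq_top_of_sup_center_eq_top (qs_commutator_top h)
    (by rw [sup_comm]; exact hC.sup_eq_top)
  subst hCt
  have h1 : center G = ⊥ := isComplement'_top_right.mp hC
  rw [h1, index_bot] at hn
  exact hn hp

theorem comp_center_isPGroup [Fact p.Prime] (hO : pPrimeCore p G = ⊥) {L : Subgroup G}
    (hL : IsComponent L) : IsPGroup p (center L) := by
  have hsn : ((center L).map L.subtype).IsSubnormal :=
    isSubnormal_map_subtype hL.1 (Subgroup.Normal.isSubnormal inferInstance)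
  set Z := (center L).map L.subtype
  haveI hZc : IsMulCommutative Z := by
    refine ⟨⟨fun a b => Subtype.ext ?_⟩⟩
    obtain ⟨x, hx, hxa⟩ := a.2
    obtain ⟨y, hy, hyb⟩ := b.2
    show (a : G) * b = b * a
    rw [← hxa, ← hyb, ← map_mul, ← map_mul, mem_center_iff.mp hy x]
  have key : IsPGroup p Z := by
    rw [IsPGroup.iff_card]
    refine ⟨(Nat.card Z).factorization p, ?_⟩
    by_contra hne
    obtain ⟨r, hr, hrd, hrp⟩ : ∃ r, r.Prime ∧ r ∣ Nat.card Z ∧ r ≠ p := by
      by_contra hall
      push Not at hall
      exact hne (Nat.eq_prime_pow_of_unique_prime_dvd Nat.card_pos.ne' (fun hd hdvd => hall _ hd hdvd) ▸ by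
        rw [Nat.Prime.factorization_pow (Fact.out : p.Prime), Finsupp.single_eq_same])
    haveI := Fact.mk hr
    obtain ⟨R⟩ := (inferInstance : Nonempty (Sylow r Z))
    haveI : (R : Subgroup Z).Normal := inferInstance
    have hsn' : ((R : Subgroup Z).map Z.subtype).IsSubnormal :=
      isSubnormal_map_subtype hsn (Subgroup.Normal.isSubnormal inferInstance)
    have hle := le_pPrimeCore_of_subnormal (p := p) hsn' (by
      obtain ⟨m, hm⟩ := IsPGroup.iff_card.mp (R.2.map Z.subtype)
      rw [hm]
      exact Nat.Coprime.pow_left _ ((Nat.coprime_primes hr (Fact.out : p.Prime)).mpr hrp))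
    rw [hO, le_bot_iff, map_eq_bot_iff_of_injective _ Z.subtype_injective] at hle
    exact R.ne_bot_of_dvd_card hrd hle
  exact key.of_equiv (equivMapOfInjective (center L) L.subtype L.subtype_injective).symm

end Cfsg.Lib.Components
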