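import Cfsg.Agent.Components.Quasisimple

/-!
Components, their commuting properties, and the layer.
-/

set_option linter.style.haveILetI false

namespace Cfsg.Lib.Components

open Subgroup
open scoped commutatorElement

universe u

variable {G : Type u} [Group G] {G' : Type*} [Group G']

theorem comp_subnormal {L : Subgroup G} (h : IsComponent L) : L.IsSubnormal := h.1

theorem comp_perfect {L : Subgroup G} (h : IsComponent L) : ⁅L, L⁆ = L :=
  haveI := h.2.1
  L.commutator_eq_self

theorem comp_not_isSolvable {L : Subgroup G} (h : IsComponent L) : ¬ Group.IsSolvable L :=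
  qs_not_isSolvable h.2

theorem comp_not_isMulCommutative {L : Subgroup G} (h : IsComponent L) : ¬ IsMulCommutative L :=
  qs_not_isMulCommutative h.2

theorem comp_ne_bot {L : Subgroup G} (h : IsComponent L) : L ≠ ⊥ := by
  intro hb
  haveI := qs_nontrivial h.2
  exact (Subgroup.nontrivial_iff_ne_bot L).mp this hb

theorem comp_map_equiv {L : Subgroup G} (h : IsComponent L) (e : G ≃* G') :
    IsComponent (L.map e.toMonoidHom) :=
  ⟨isSubnormal_conj h.1 e,
    qs_congr' (L.equivMapOfInjective e.toMonoidHom e.injective) h.2⟩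

theorem comp_map_equiv_iff {L : Subgroup G} (e : G ≃* G') :
    IsComponent (L.map e.toMonoidHom) ↔ IsComponent L := by
  refine ⟨fun h => ?_, fun h => comp_map_equiv h e⟩
  have := comp_map_equiv h e.symm
  rwa [map_map, show e.symm.toMonoidHom.comp e.toMonoidHom = MonoidHom.id G from
    MonoidHom.ext fun x => e.symm_apply_apply x, map_id] at this

theorem comp_conj {L : Subgroup G} (h : IsComponent L) (g : G) :
    IsComponent (L.map (MulAut.conj g).toMonoidHom) := comp_map_equiv h (MulAut.conj g)

theorem comp_map_subtype_iff {H : Subgroup G} (hH : H.IsSubnormal) {K : Subgroup H} :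
    IsComponent (K.map H.subtype) ↔ IsComponent K := by
  have e : K ≃* K.map H.subtype := K.equivMapOfInjective H.subtype H.subtype_injective
  constructor
  · rintro ⟨h1, h2⟩
    exact ⟨isSubnormal_of_map_subtype h1, qs_congr' e.symm h2⟩
  · rintro ⟨h1, h2⟩
    exact ⟨isSubnormal_map_subtype hH h1, qs_congr' e h2⟩

theorem comp_subgroupOf {L H : Subgroup G} (h : IsComponent L) (hle : L ≤ H) :
    IsComponent (L.subgroupOf H) :=
  ⟨h.1.subgroupOf, qs_congr' (subgroupOfEquivOfLe hle).symm h.2⟩

theorem comp_of_subgroupOf {L H : Subgroup G} (hH : H.IsSubnormal) (hle : L ≤ H)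
    (h : IsComponent (L.subgroupOf H)) : IsComponent L := by
  have := (comp_map_subtype_iff hH).mpr h
  rwa [map_subgroupOf_eq_of_le hle] at this

theorem isMulCommutative_of_le_center {L : Subgroup G} (h : L ≤ center G) : IsMulCommutative L :=
  ⟨⟨fun a b => Subtype.ext ((mem_center_iff.mp (h b.2) (a : G)))⟩⟩

theorem commutator_map_subtype_eq_bot {M A B : Subgroup G} (hA : A ≤ M) (hB : B ≤ M)
    (h : ⁅A.subgroupOf M, B.subgroupOf M⁆ = ⊥) : ⁅A, B⁆ = ⊥ := by
  have := congrArg (Subgroup.map M.subtype) h
  rwa [map_commutator, map_subgroupOf_eq_of_le hA, map_subgroupOf_eq_of_le hB, Subgroup.map_bot]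
    at this

/-- perfect subgroup and three subgroups lemma -/
theorem commutator_eq_bot_of_perfect {L H : Subgroup G} (hL : ⁅L, L⁆ = L)
    (h : ⁅⁅L, H⁆, L⁆ = ⊥) : ⁅L, H⁆ = ⊥ := by
  have h2 : ⁅⁅H, L⁆, L⁆ = ⊥ := by rw [commutator_comm H L]; exact h
  have := commutator_commutator_eq_bot_of_rotate (H₁ := L) (H₂ := L) (H₃ := H) h h2
  rwa [hL] at this

theorem comp_le_or_commute_aux (n : ℕ) : ∀ (G : Type u) [Group G] [Finite G],
    Nat.card G ≤ n → ∀ (L H : Subgroup G), IsComponent L → H.IsSubnormal →
      L ≤ H ∨ ⁅L, H⁆ = ⊥ := by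
  induction n with
  | zero => intro G _ _ hc; exact absurd hc (by have := Nat.card_pos (α := G); omega)
  | succ n ih =>
    intro G _ _ hc L H hL hH
    by_cases hHt : H = ⊤
    · exact Or.inl (hHt ▸ le_top)
    by_cases hLt : L = ⊤
    · right
      have hq : IsQuasisimple G :=
        qs_congr' ((MulEquiv.subgroupCongr hLt).trans Subgroup.topEquiv) hL.2
      rcases qs_subnormal_eq_top_or_le_center hq hH with h | h
      · exact absurd h hHt
      · subst hLt
        exact commutator_top_left_eq_bot_iff_le_center.mpr h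
    obtain ⟨N, hN, hLN, hNt⟩ := exists_proper_normal hL.1 hLt
    obtain ⟨M, hM, hHM, hMt⟩ := exists_proper_normal hH hHt
    have hcN : Nat.card N ≤ n := by have := card_lt_of_ne_top hNt; omega
    have hcM : Nat.card M ≤ n := by have := card_lt_of_ne_top hMt; omega
    rcases ih N hcN (L.subgroupOf N) ((M ⊓ N).subgroupOf N) (comp_subgroupOf hL hLN)
        ((hM.isSubnormal.inf hN.isSubnormal).subgroupOf) with h | h
    · have hLM : L ≤ M := by
        have := Subgroup.map_mono (f := N.subtype) h
        rw [map_subgroupOf_eq_of_le hLN, map_subgroupOf_eq_of_le inf_le_right] at this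
        exact this.trans inf_le_left
      rcases ih M hcM (L.subgroupOf M) (H.subgroupOf M) (comp_subgroupOf hL hLM)
          hH.subgroupOf with h' | h'
      · left
        have := Subgroup.map_mono (f := M.subtype) h'
        rwa [map_subgroupOf_eq_of_le hLM, map_subgroupOf_eq_of_le hHM] at this
      · exact Or.inr (commutator_map_subtype_eq_bot hLM hHM h')
    · right
      have h1 : ⁅L, M ⊓ N⁆ = ⊥ := commutator_map_subtype_eq_bot hLN inf_le_right h
      have h2 : ⁅L, H⁆ ≤ M ⊓ N := by
        refine (commutator_mono hLN hHM).trans ?_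
        rw [inf_comm]
        exact commutator_le_inf N M
      apply commutator_eq_bot_of_perfect (comp_perfect hL)
      rw [commutator_comm]
      exact le_bot_iff.mp ((commutator_mono le_rfl h2).trans h1.le)

variable [Finite G]

theorem comp_le_or_commute {L H : Subgroup G} (hL : IsComponent L) (hH : H.IsSubnormal) :
    L ≤ H ∨ ⁅L, H⁆ = ⊥ :=
  comp_le_or_commute_aux _ G le_rfl L H hL hH

theorem comp_commute_of_not_le {L H : Subgroup G} (hL : IsComponent L) (hH : H.IsSubnormal)
    (h : ¬ L ≤ H) : ⁅L, H⁆ = ⊥ :=
  (comp_le_or_commute hL hH).resolve_left h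

theorem comp_le_or_commute_of_normalizes {L H : Subgroup G} (hL : IsComponent L)
    (hLH : L ≤ normalizer (H : Set G)) : L ≤ H ∨ ⁅L, H⁆ = ⊥ := by
  have hn : (H.subgroupOf (L ⊔ H)).Normal :=
    normal_subgroupOf_of_le_normalizer (sup_le hLH le_normalizer)
  rcases comp_le_or_commute (comp_subgroupOf hL (le_sup_left : L ≤ L ⊔ H)) hn.isSubnormal with h | h
  · left
    have := Subgroup.map_mono (f := (L ⊔ H).subtype) h
    rwa [map_subgroupOf_eq_of_le le_sup_left, map_subgroupOf_eq_of_le le_sup_right] at this
  · exact Or.inr (commutator_map_subtype_eq_bot le_sup_left le_sup_right h)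

theorem comp_commute_of_solvable {L H : Subgroup G} (hL : IsComponent L)
    (hH : Group.IsSolvable H) (hLH : L ≤ normalizer (H : Set G)) : ⁅L, H⁆ = ⊥ := by
  rcases comp_le_or_commute_of_normalizes hL hLH with h | h
  · exact absurd (solvable_of_solvable_injective (Subgroup.inclusion_injective h))
      (comp_not_isSolvable hL)
  · exact h

theorem comp_eq_of_le {L K : Subgroup G} (hL : IsComponent L) (hK : IsComponent K) (h : L ≤ K) :
    L = K := by
  rcases qs_subnormal_eq_top_or_le_center hK.2 (hL.1.subgroupOf (K := K)) with h' | h'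
  · exact le_antisymm h (subgroupOf_eq_top.mp h')
  · exfalso
    haveI := isMulCommutative_of_le_center h'
    exact comp_not_isMulCommutative hL
      ⟨⟨fun a b => (subgroupOfEquivOfLe h).symm.injective (by
        rw [map_mul, map_mul]; exact (IsMulCommutative.is_comm).comm _ _)⟩⟩

theorem comp_commute {L K : Subgroup G} (hL : IsComponent L) (hK : IsComponent K) (h : L ≠ K) :
    ⁅L, K⁆ = ⊥ :=
  comp_commute_of_not_le hL hK.1 fun hle => h (comp_eq_of_le hL hK hle)

/-! ### the layer -/

omit [Finite G] in
theorem comp_le_layer {L : Subgroup G} (hL : IsComponent L) : L ≤ layer G := le_sSup hL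

theorem comp_normal_in_layer {L : Subgroup G} (hL : IsComponent L) :
    layer G ≤ normalizer (L : Set G) := by
  refine sSup_le fun K hK => ?_
  by_cases h : L = K
  · subst h; exact le_normalizer
  · refine le_normalizer_iff_commutator_le_left.mpr ?_
    rw [comp_commute hL hK h]
    exact bot_le

omit [Finite G] in
theorem layer_map_equiv (e : G ≃* G') : (layer G).map e.toMonoidHom = layer G' := by
  refine le_antisymm ?_ ?_
  · rw [layer, sSup_eq_iSup, Subgroup.map_iSup]
    refine iSup_le fun K => ?_
    rw [Subgroup.map_iSup]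
    exact iSup_le fun hK => le_sSup (comp_map_equiv hK e)
  · refine sSup_le fun K hK => ?_
    have hK' : IsComponent (K.map e.symm.toMonoidHom) := comp_map_equiv hK e.symm
    have := Subgroup.map_mono (f := e.toMonoidHom) (comp_le_layer hK')
    rwa [map_map, show e.toMonoidHom.comp e.symm.toMonoidHom = MonoidHom.id G' from
      MonoidHom.ext fun x => e.apply_symm_apply x, map_id] at this

instance layer_characteristic : (layer G).Characteristic :=
  characteristic_iff_map_eq.mpr fun e => layer_map_equiv e

theorem layer_perfect : ⁅layer G, layer G⁆ = layer G := by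
  refine le_antisymm (commutator_le_self _) (sSup_le fun K hK => ?_)
  calc K = ⁅K, K⁆ := (comp_perfect hK).symm
    _ ≤ ⁅layer G, layer G⁆ := commutator_mono (le_sSup hK) (le_sSup hK)

theorem layer_commute_solvable_normal {H : Subgroup G} [H.Normal] (hH : Group.IsSolvable H) :
    ⁅layer G, H⁆ = ⊥ := by
  rw [commutator_eq_bot_iff_le_centralizer]
  refine sSup_le fun K hK => ?_
  rw [← commutator_eq_bot_iff_le_centralizer]
  exact comp_commute_of_solvable hK hH (by rw [normalizer_eq_top]; exact le_top)

end Cfsg.Lib.Components
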