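import Cfsg.Agent.Components.PComponentsExtra

/-!
The `P × Q` lemma, and perfect subgroups are generated by their `p'`-elements.
-/

set_option linter.style.haveILetI false
set_option linter.unusedSectionVars false

namespace Cfsg.Lib.Components

open Subgroup
open scoped commutatorElement

universe u

variable {G : Type u} [Group G] [Finite G] {p : ℕ} [Fact p.Prime]

theorem commutator_pGroup_lt {W P : Subgroup G} (hW : IsPGroup p W) (hP : IsPGroup p P)
    (hPW : P ≤ normalizer (W : Set G)) (hne : W ≠ ⊥) : ⁅W, P⁆ < W := by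
  refine lt_of_le_of_ne (le_normalizer_iff_commutator_le_left.mp hPW) fun heq => hne ?_
  set S := W ⊔ P
  have hS : IsPGroup p S := hW.to_sup_of_normal_left' hP hPW
  haveI := hS.isNilpotent
  obtain ⟨n, hn⟩ := (Subgroup.isNilpotent_iff_lowerCentralSeries (S := (⊤ : Subgroup S))).mp
    inferInstance
  have h : ∀ k, W.subgroupOf S ≤ Subgroup.lowerCentralSeries (⊤ : Subgroup S) k := by
    intro k
    induction k with
    | zero => simp
    | succ k ih =>
      have h1 : W.subgroupOf S ≤ ⁅W.subgroupOf S, P.subgroupOf S⁆ := by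
        refine le_of_eq ?_
        apply Subgroup.map_injective S.subtype_injective
        rw [map_commutator, map_subgroupOf_eq_of_le le_sup_left,
          map_subgroupOf_eq_of_le le_sup_right, heq]
      rw [Subgroup.lowerCentralSeries_succ]
      exact h1.trans (commutator_mono ih le_top)
  have h2 := Subgroup.map_mono (f := S.subtype) (h n)
  rw [hn, map_subgroupOf_eq_of_le le_sup_left, Subgroup.map_bot, le_bot_iff] at h2
  exact h2

/-- a `p'`-element acting on a `p`-group, whose commutators it fixes, centralizes it -/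
theorem centralize_of_commutator_fixed {W : Subgroup G} (hW : IsPGroup p W) {x : G}
    (hx : (orderOf x).Coprime p) (hxW : x ∈ normalizer (W : Set G)) {w : G} (hw : w ∈ W)
    (hfix : x * ⁅x, w⁆ * x⁻¹ = ⁅x, w⁆) : x * w = w * x := by
  set c := ⁅x, w⁆ with hc
  have hcW : c ∈ W := mul_mem ((mem_normalizer_iff.mp hxW w).mp hw) (inv_mem hw)
  have hconj : x * w * x⁻¹ = c * w := by rw [hc, commutatorElement_def]; group
  have hpow : ∀ n : ℕ, x ^ n * w * (x ^ n)⁻¹ = c ^ n * w := by
    intro n
    induction n with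
    | zero => simp
    | succ n ih =>
      have hcn : x * c ^ n * x⁻¹ = c ^ n := by rw [← conj_pow, hfix]
      calc x ^ (n + 1) * w * (x ^ (n + 1))⁻¹ = x * (x ^ n * w * (x ^ n)⁻¹) * x⁻¹ := by
            rw [pow_succ' x n]; group
        _ = (x * c ^ n * x⁻¹) * (x * w * x⁻¹) := by rw [ih]; group
        _ = c ^ n * (c * w) := by rw [hcn, hconj]
        _ = c ^ (n + 1) * w := by rw [pow_succ]; group
  have h1 : c ^ orderOf x = 1 := by
    have := hpow (orderOf x)
    rw [pow_orderOf_eq_one] at this
    simpa using this.symm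
  obtain ⟨k, hk⟩ := hW ⟨c, hcW⟩
  have h2 : c ^ p ^ k = 1 := congrArg Subtype.val hk
  have h3 : c = 1 := by
    have := pow_gcd_eq_one.mpr ⟨h1, h2⟩
    rwa [(hx.pow_right k).gcd_eq_one, pow_one] at this
  exact commutatorElement_eq_one_iff_mul_comm.mp h3

/-- Thompson's `P × Q` lemma, for one element. -/
theorem pxq_element {x : G} (hx : (orderOf x).Coprime p) {P : Subgroup G} (hP : IsPGroup p P)
    (hxP : x ∈ centralizer (P : Set G)) :
    ∀ W : Subgroup G, IsPGroup p W → P ≤ normalizer (W : Set G) → x ∈ normalizer (W : Set G) →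
      W ⊓ centralizer (P : Set G) ≤ centralizer ({x} : Set G) → W ≤ centralizer ({x} : Set G) := by
  intro W
  induction W using WellFoundedLT.induction with
  | _ W ih =>
    intro hW hPW hxW hC
    by_cases hne : W = ⊥
    · rw [hne]; exact bot_le
    have hlt := commutator_pGroup_lt hW hP hPW hne
    have hxn : x ∈ normalizer ((⁅W, P⁆ : Subgroup G) : Set G) := by
      rw [mem_normalizer_iff_map_conj_eq, map_commutator,
        mem_normalizer_iff_map_conj_eq.mp hxW,
        mem_normalizer_iff_map_conj_eq.mp ((centralizer_le_normalizer _) hxP)]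
    have h1 := ih _ hlt (hW.to_le hlt.le) (normalizer_commutator_ge_right W P) hxn
      ((inf_le_inf_right _ hlt.le).trans hC)
    set X := Subgroup.zpowers x
    have a1 : ⁅⁅W, P⁆, X⁆ = ⊥ := by
      rw [commutator_eq_bot_iff_le_centralizer]
      refine h1.trans fun y hy => mem_centralizer_iff.mpr fun z hz => ?_
      obtain ⟨k, rfl⟩ := mem_zpowers_iff.mp hz
      exact (Commute.zpow_left (mem_centralizer_singleton_iff.mp hy).symm k)
    have a2 : ⁅⁅P, X⁆, W⁆ = ⊥ := by
      have : ⁅P, X⁆ = ⊥ := by
        rw [commutator_comm, commutator_eq_bot_iff_le_centralizer]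
        exact (zpowers_le.mpr hxP)
      rw [this, commutator_bot_left]
    have a3 : ⁅⁅X, W⁆, P⁆ = ⊥ := commutator_commutator_eq_bot_of_rotate a1 a2
    intro w hw
    rw [mem_centralizer_singleton_iff]
    have hcC : ⁅x, w⁆ ∈ W ⊓ centralizer (P : Set G) := by
      refine ⟨show x * w * x⁻¹ * w⁻¹ ∈ W from mul_mem ((mem_normalizer_iff.mp hxW w).mp hw) (inv_mem hw), ?_⟩
      exact commutator_eq_bot_iff_le_centralizer.mp a3
        (commutator_mem_commutator (mem_zpowers x) hw)
    have hfix : x * ⁅x, w⁆ * x⁻¹ = ⁅x, w⁆ := by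
      have := mem_centralizer_singleton_iff.mp (hC hcC)
      rw [← this, mul_inv_cancel_right]
    exact (centralize_of_commutator_fixed hW hx hxW hw hfix).symm

theorem pxq {Q P W : Subgroup G} (hP : IsPGroup p P) (hW : IsPGroup p W)
    (hQ : (Nat.card Q).Coprime p) (hQP : Q ≤ centralizer (P : Set G))
    (hPW : P ≤ normalizer (W : Set G)) (hQW : Q ≤ normalizer (W : Set G))
    (hC : Q ≤ centralizer (↑(W ⊓ centralizer (P : Set G)) : Set G)) :
    Q ≤ centralizer (W : Set G) := by
  intro x hx
  rw [mem_centralizer_iff]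
  intro w hw
  refine mem_centralizer_singleton_iff.mp (pxq_element ?_ hP (hQP hx) W hW hPW (hQW hx) ?_ hw)
  · exact hQ.coprime_dvd_left (Subgroup.orderOf_dvd_natCard Q hx)
  · intro c hc
    rw [mem_centralizer_singleton_iff]
    exact mem_centralizer_iff.mp (hC hx) c hc

/-- A perfect subgroup lies in any subgroup it normalizes containing its `p'`-elements. -/
theorem perfect_le_of_pPrime_elements {K C : Subgroup G} (hK : ⁅K, K⁆ = K)
    (hKC : K ≤ normalizer (C : Set G)) (h : ∀ x ∈ K, (orderOf x).Coprime p → x ∈ C) : K ≤ C := by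
  haveI : (C.subgroupOf K).Normal := normal_subgroupOf_of_le_normalizer hKC
  have hpg : IsPGroup p (↥K ⧸ C.subgroupOf K) := by
    intro y
    obtain ⟨x, rfl⟩ := QuotientGroup.mk'_surjective (C.subgroupOf K) y
    refine ⟨(orderOf x).factorization p, ?_⟩
    rw [← map_pow]
    refine (QuotientGroup.eq_one_iff _).mpr (h _ (x ^ p ^ (orderOf x).factorization p).2 ?_)
    rw [Subgroup.coe_subtype, Subgroup.orderOf_coe, orderOf_pow' _ (pow_ne_zero _ (Fact.out : p.Prime).ne_zero),
      Nat.gcd_eq_right (Nat.ordProj_dvd (orderOf x) p)]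
    exact (Nat.coprime_ordCompl (Fact.out : p.Prime) (orderOf_pos x).ne').symm
  haveI : Group.IsPerfect ↥K := Subgroup.isPerfect_iff.mpr hK
  haveI : Group.IsPerfect (↥K ⧸ C.subgroupOf K) :=
    Group.IsPerfect.ofSurjective (f := QuotientGroup.mk' (C.subgroupOf K))
      (QuotientGroup.mk'_surjective _)
  haveI := hpg.isNilpotent
  by_contra hn
  haveI : Nontrivial (↥K ⧸ C.subgroupOf K) :=
    QuotientGroup.nontrivial_iff.mpr fun he => hn (subgroupOf_eq_top.mp he)
  exact Group.IsPerfect.not_isNilpotent (↥K ⧸ C.subgroupOf K) ‹_›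

end Cfsg.Lib.Components
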