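import Cfsg.Agent.Components.BalanceDelta

/-!
Weak balance from weakly locally balanced components.
-/

set_option linter.style.haveILetI false
set_option linter.unusedSectionVars false

namespace Cfsg.Lib.Components

open Subgroup
open scoped commutatorElement

universe u

variable {G : Type u} [Group G] [Finite G] {p : ℕ} [Fact p.Prime]

theorem delta_commutator_centralizes_component (hO : pPrimeCore p G = ⊥) {k : ℕ} (hk : 1 ≤ k)
    {L : Subgroup G} (hL : IsComponent L) (hloc : IsWeaklyLocallyKBalanced p k ↥L)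
    {B : Subgroup G} (hB : IsElementaryAbelian p B) (hBk : Nat.card B = p ^ k)
    (hBL : B ≤ normalizer (L : Set G))
    {x : G} (hxp : x ^ p = 1) (hxL : x ∈ normalizer (L : Set G))
    (hxB : x ∈ centralizer (B : Set G)) {d : G} (hd : d ∈ signalizerDelta p B) :
    ⁅d, x⁆ ∈ centralizer (L : Set G) := by
  have hne : B ≠ ⊥ := ne_bot_of_card hk hBk
  have hDL : signalizerDelta p B ≤ normalizer (L : Set G) := fun y hy =>
    mem_compKernel.mp (delta_le_compKernel hO hB hne hy) L hL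
  have key : ∀ c ∈ centralizer (L : Set G), ∀ n ∈ normalizer (L : Set G),
      n * c * n⁻¹ ∈ centralizer (L : Set G) := fun c hc n hn =>
    (mem_normalizer_iff.mp (normalizer_le_normalizer_centralizer' L hn) c).mp hc
  by_cases hxc : x ∈ centralizer (L : Set G)
  · rw [commutatorElement_def]
    exact mul_mem (key x hxc d (hDL hd)) (inv_mem hxc)
  by_cases hex : ∃ b ∈ B, b ≠ 1 ∧ b ∈ centralizer (L : Set G)
  · obtain ⟨b, hb, hb1, h⟩ := hex
    have hdc := delta_centralizes_of_special hO hL hB hb hb1 (Or.inr h) hd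
    rw [commutatorElement_def, mul_assoc, mul_assoc, ← mul_assoc x]
    exact mul_mem hdc (key _ (inv_mem hdc) x hxL)
  push Not at hex
  haveI := hB.1
  set M := B ⊔ signalizerDelta p B ⊔ zpowers x
  have hBc : B ≤ centralizer (B : Set G) := fun b hb => mem_centralizer_iff.mpr fun c hc =>
    congrArg Subtype.val (IsMulCommutative.is_comm.comm (⟨c, hc⟩ : ↥B) ⟨b, hb⟩)
  have hDc : signalizerDelta p B ≤ centralizer (B : Set G) := fun d hd =>
    mem_centralizer_iff.mpr fun c hc => by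
      by_cases h1 : c = 1
      · rw [h1, one_mul, mul_one]
      · exact (mem_centralizer_singleton_iff.mp
          (centralizerPPrimeCore_le_centralizer c (mem_signalizerDelta.mp hd c hc h1))).symm
  obtain ⟨H, f, hinn, _, hker, hle⟩ := delta_action hO hL hB (M := M)
    (le_sup_of_le_left le_sup_left) (le_sup_of_le_left le_sup_right)
    (sup_le (sup_le hBc hDc) (zpowers_le.mpr hxB)) (sup_le (sup_le hBL hDL) (zpowers_le.mpr hxL))
  have hMT : M ≤ L ⊔ M := le_sup_right
  have hBT : B ≤ L ⊔ M := (le_sup_of_le_left le_sup_left : B ≤ M).trans hMT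
  have hDT : signalizerDelta p B ≤ L ⊔ M :=
    (le_sup_of_le_left le_sup_right : signalizerDelta p B ≤ M).trans hMT
  have hxT : x ∈ L ⊔ M := hMT ((le_sup_right : zpowers x ≤ M) (mem_zpowers x))
  have hcard : Nat.card ↥((B.subgroupOf (L ⊔ M)).map f) = p ^ k := by
    refine le_antisymm ?_ ?_
    · rw [← hBk, ← card_subgroupOf_of_le hBT]
      exact Nat.le_of_dvd Nat.card_pos (card_map_dvd _ _)
    · rw [← hBk, ← card_subgroupOf_of_le hBT]
      refine Nat.card_le_card_of_injective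
        (fun y : ↥(B.subgroupOf (L ⊔ M)) =>
          (⟨f y, mem_map_of_mem f y.2⟩ : ↥((B.subgroupOf (L ⊔ M)).map f))) ?_
      intro y z hyz
      have h1 : f ((y : ↥(L ⊔ M))⁻¹ * z) = 1 := by
        rw [map_mul, map_inv,
          show f (y : ↥(L ⊔ M)) = f (z : ↥(L ⊔ M)) from congrArg Subtype.val hyz, inv_mul_cancel]
      have h2 := (hker _).mp h1
      have h3 : (((y : ↥(L ⊔ M))⁻¹ * z : ↥(L ⊔ M)) : G) = 1 := by
        by_contra hne'
        exact hex _ (mul_mem (inv_mem y.2) z.2) hne' h2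
      exact Subtype.ext (inv_mul_eq_one.mp (Subtype.ext h3))
  have hxord : orderOf (f ⟨x, hxT⟩) = p := by
    refine orderOf_eq_prime ?_ fun h => hxc ((hker _).mp h)
    rw [← map_pow, show (⟨x, hxT⟩ : ↥(L ⊔ M)) ^ p = 1 from Subtype.ext hxp, map_one]
  have hxcent : f ⟨x, hxT⟩ ∈ centralizer ((B.subgroupOf (L ⊔ M)).map f : Set ↥H) := by
    rw [mem_centralizer_iff]
    rintro _ ⟨b, hb, rfl⟩
    rw [← map_mul, ← map_mul,
      show b * ⟨x, hxT⟩ = ⟨x, hxT⟩ * b from Subtype.ext (mem_centralizer_iff.mp hxB b hb)]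
  have h1 := hloc H hinn _ (isElementaryAbelian_map (isElementaryAbelian_subgroupOf hB _) f) hcard
    (f ⟨x, hxT⟩) hxord hxcent
    (hle (mem_map_of_mem f (show (⟨d, hDT hd⟩ : ↥(L ⊔ M)) ∈
      (signalizerDelta p B).subgroupOf (L ⊔ M) from hd)))
  have h2 : f ⁅(⟨d, hDT hd⟩ : ↥(L ⊔ M)), ⟨x, hxT⟩⁆ = 1 := by
    rw [map_commutatorElement]
    exact commutatorElement_eq_one_iff_mul_comm.mpr (mem_centralizer_singleton_iff.mp h1)
  have h3 := (hker _).mp h2
  rwa [← (L ⊔ M).coe_subtype, map_commutatorElement] at h3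

theorem delta_commutator_eq_bot (hO : pPrimeCore p G = ⊥) {k : ℕ} (hk : 1 ≤ k)
    (hloc : ∀ L : Subgroup G, IsComponent L → IsWeaklyLocallyKBalanced p k ↥L)
    {A B : Subgroup G} (hA : IsElementaryAbelian p A) (hBA : B ≤ A)
    (hinv : ∀ L : Subgroup G, IsComponent L → A ≤ normalizer (L : Set G))
    (hBk : Nat.card B = p ^ k) :
    ⁅signalizerDelta p B, A⁆ = ⊥ := by
  haveI := hA.1
  have hB : IsElementaryAbelian p B :=
    ⟨⟨⟨fun a b => Subtype.ext (congrArg Subtype.val (IsMulCommutative.is_comm.comm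
      (⟨a, hBA a.2⟩ : ↥A) ⟨b, hBA b.2⟩) : (a : G) * b = b * a)⟩⟩, fun a ha => hA.2 a (hBA ha)⟩
  have hne : B ≠ ⊥ := ne_bot_of_card hk hBk
  have hAc : ∀ x ∈ A, x ∈ centralizer (B : Set G) := fun x hx => mem_centralizer_iff.mpr fun b hb =>
    congrArg Subtype.val (IsMulCommutative.is_comm.comm (⟨b, hBA hb⟩ : ↥A) ⟨x, hx⟩)
  have hle : ⁅signalizerDelta p B, A⁆ ≤ signalizerDelta p B :=
    le_normalizer_iff_commutator_le_left.mp fun x hx => delta_normalized (hAc x hx)
  refine eq_bot_of_centralizes hO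
    ((signalizerDelta_coprime hne).coprime_dvd_left (Subgroup.card_dvd_of_le hle))
    (hle.trans (delta_centralizes_pCore hB hne)) fun L hL => commutator_le.mpr fun d hd x hx => ?_
  exact delta_commutator_centralizes_component hO hk hL (hloc L hL) hB hBk (hBA.trans (hinv L hL))
    (hA.2 x hx) (hinv L hL hx) (hAc x hx) hd

/-- weak `k`-balance at `(B, a)` -/
theorem delta_commutator_le {k : ℕ} (hk : 1 ≤ k) {a : G}
    (hloc : ∀ L : Subgroup (↥(centralizer ({a} : Set G)) ⧸ pPrimeCore p ↥(centralizer ({a} : Set G))),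
      IsComponent L → IsWeaklyLocallyKBalanced p k ↥L)
    {A B : Subgroup G} (hA : IsElementaryAbelian p A) (hBA : B ≤ A)
    (hAa : A ≤ centralizer ({a} : Set G))
    (hinv : ∀ L : Subgroup (↥(centralizer ({a} : Set G)) ⧸ pPrimeCore p ↥(centralizer ({a} : Set G))),
      IsComponent L →
        (A.subgroupOf (centralizer ({a} : Set G))).map
          (QuotientGroup.mk' (pPrimeCore p ↥(centralizer ({a} : Set G)))) ≤ normalizer (L : Set _))
    (hBk : Nat.card B = p ^ k) :
    ⁅signalizerDelta p B ⊓ centralizer ({a} : Set G), A⁆ ≤ centralizerPPrimeCore p a := by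
  set C := centralizer ({a} : Set G)
  haveI := hA.1
  have hB : IsElementaryAbelian p B :=
    ⟨⟨⟨fun a b => Subtype.ext (congrArg Subtype.val (IsMulCommutative.is_comm.comm
      (⟨a, hBA a.2⟩ : ↥A) ⟨b, hBA b.2⟩) : (a : G) * b = b * a)⟩⟩, fun a ha => hA.2 a (hBA ha)⟩
  set q := QuotientGroup.mk' (pPrimeCore p ↥C)
  have h1 := delta_commutator_eq_bot pPrimeCore_quotient_eq_bot hk hloc
    (isElementaryAbelian_map (isElementaryAbelian_subgroupOf hA C) q)
    (Subgroup.map_mono (Subgroup.comap_mono hBA)) hinv (map_mk_card hB (hBA.trans hAa) hBk)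
  have h2 : ⁅((signalizerDelta p B ⊓ C).subgroupOf C).map q, (A.subgroupOf C).map q⁆ ≤ ⊥ :=
    h1 ▸ commutator_mono (delta_inf_image_le hB (hBA.trans hAa)) le_rfl
  rw [← map_commutator, le_bot_iff, Subgroup.map_eq_bot_iff, QuotientGroup.ker_mk'] at h2
  calc ⁅signalizerDelta p B ⊓ C, A⁆
      = (⁅(signalizerDelta p B ⊓ C).subgroupOf C, A.subgroupOf C⁆).map C.subtype := by
        rw [map_commutator, map_subgroupOf_eq_of_le inf_le_right, map_subgroupOf_eq_of_le hAa]
    _ ≤ _ := Subgroup.map_mono h2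

theorem exists_card_pow_le {A : Subgroup G} (hA : IsElementaryAbelian p A) {B : Subgroup G}
    (hBA : B ≤ A) {k : ℕ} (hB : p ^ k ≤ Nat.card B) :
    ∃ B0 : Subgroup G, B0 ≤ B ∧ IsElementaryAbelian p B0 ∧ Nat.card B0 = p ^ k := by
  have hP : IsPGroup p ↥B := fun g => ⟨1, Subtype.ext (by simpa using hA.2 _ (hBA g.2))⟩
  obtain ⟨B1, hB1⟩ := Sylow.exists_subgroup_card_pow_prime_of_le_card (Fact.out : p.Prime) hP hB
  refine ⟨B1.map B.subtype, map_subtype_le _, ⟨⟨⟨fun (x y : ↥(B1.map B.subtype)) => Subtype.ext ?_⟩⟩,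
    fun x hx => hA.2 x (hBA (map_subtype_le _ hx))⟩, by
      rw [← Nat.card_congr (equivMapOfInjective B1 B.subtype B.subtype_injective).toEquiv, hB1]⟩
  haveI := hA.1
  show (x : G) * (y : G) = (y : G) * (x : G)
  exact congrArg Subtype.val (IsMulCommutative.is_comm.comm
    (⟨(x : G), hBA (map_subtype_le _ x.2)⟩ : ↥A) ⟨(y : G), hBA (map_subtype_le _ y.2)⟩)

/-- `k`-balance with respect to `A` -/
theorem isKBalancedWrt_of_local {k : ℕ} (hk : 1 ≤ k) {A : Subgroup G}
    (hA : IsElementaryAbelian p A)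
    (hloc : ∀ a : G, a ∈ A → a ≠ 1 →
      ∀ K : Subgroup (↥(centralizer ({a} : Set G)) ⧸ pPrimeCore p ↥(centralizer ({a} : Set G))),
        IsComponent K → IsLocallyKBalanced p k ↥K) :
    IsKBalancedWrt p k A := by
  intro B hBA _ hBk a ha ha1
  obtain ⟨B0, hB0, hB0e, hB0k⟩ := exists_card_pow_le hA hBA hBk
  haveI := hA.1
  refine (inf_le_inf_right _ (signalizerDelta_anti hB0)).trans
    (delta_inf_le hk (hloc a ha ha1) hB0e hB0k ?_)
  intro b hb
  exact mem_centralizer_singleton_iff.mpr (congrArg Subtype.val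
    (IsMulCommutative.is_comm.comm (⟨b, hBA (hB0 hb)⟩ : ↥A) ⟨a, ha⟩))

end Cfsg.Lib.Components
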