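import Cfsg.Prelude.Def_DStar
import Cfsg.Agent.Fusion.ThompsonControl
import Cfsg.Agent.Components.ZJ.Reduce
import Cfsg.Agent.PGroups.Basic

/-!
The subgroup `D*`.
-/

set_option autoImplicit false
set_option linter.style.haveILetI false
set_option linter.unusedSectionVars false

namespace Cfsg.Lib.DStar

open Subgroup
open scoped commutatorElement

variable {S : Type*} [Group S]

theorem class_two_of_generators {s : Set S}
    (h : ∀ u ∈ s, ∀ v ∈ s, ⁅u, v⁆ ∈ centralizer (closure s : Set S)) :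
    ⁅⁅closure s, closure s⁆, closure s⁆ = ⊥ := by
  set H := closure s
  set C := centralizer (H : Set S)
  have key : ∀ g ∈ H, (∀ v ∈ s, ⁅g, v⁆ ∈ C) → ∀ y ∈ H, ⁅g, y⁆ ∈ C := by
    intro g hg hgs y hy
    suffices ⁅g, y⁆ ∈ C ∧ y ∈ H from this.1
    refine closure_induction (p := fun z _ => ⁅g, z⁆ ∈ C ∧ z ∈ H) ?_ ?_ ?_ ?_ hy
    · exact fun v hv => ⟨hgs v hv, subset_closure hv⟩
    · exact ⟨by simp [one_mem], one_mem _⟩
    · intro a b _ _ ha hb
      refine ⟨?_, mul_mem ha.2 hb.2⟩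
      have e : ⁅g, a * b⁆ = ⁅g, a⁆ * (a * ⁅g, b⁆ * a⁻¹) := by simp only [commutatorElement_def]; group
      rw [e, mem_centralizer_iff.mp hb.1 a ha.2, mul_inv_cancel_right]
      exact mul_mem ha.1 hb.1
    · intro a _ ha
      refine ⟨?_, inv_mem ha.2⟩
      have e : ⁅g, a⁻¹⁆ = a⁻¹ * ⁅g, a⁆⁻¹ * a := by simp only [commutatorElement_def]; group
      rw [e, mem_centralizer_iff.mp (inv_mem ha.1) a⁻¹ (inv_mem ha.2), inv_mul_cancel_right]
      exact inv_mem ha.1
  rw [commutator_eq_bot_iff_le_centralizer, commutator_le]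
  intro g hg y hy
  refine key g hg (fun v hv => ?_) y hy
  have h2 := key v (subset_closure hv) (fun v' hv' => h v hv v' hv') g hg
  rw [← commutatorElement_inv v g]
  exact inv_mem h2

theorem class_two_mono {K H : Subgroup S} (hKH : K ≤ H) (h : ⁅⁅H, H⁆, H⁆ = ⊥) : ⁅⁅K, K⁆, K⁆ = ⊥ :=
  le_bot_iff.mp ((commutator_mono (commutator_mono hKH hKH) hKH).trans h.le)

theorem center_mem_family : Subgroup.center S ∈ Cfsg.dStarFamily S :=
  ⟨⟨⟨fun a b => Subtype.ext (mem_center_iff.mp b.2 a)⟩⟩, fun x _ a ha => (mem_center_iff.mp ha x).symm⟩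

theorem class_two_sup_zpowers {A : Subgroup S} [IsMulCommutative A] {x : S}
    (h : ∀ a ∈ A, ⁅a, x⁆ ∈ centralizer (A : Set S) ∧ x * ⁅a, x⁆ = ⁅a, x⁆ * x) :
    ⁅⁅A ⊔ zpowers x, A ⊔ zpowers x⁆, A ⊔ zpowers x⁆ = ⊥ := by
  have e : A ⊔ zpowers x = closure ((A : Set S) ∪ {x}) := by
    rw [Subgroup.closure_union, closure_eq, zpowers_eq_closure]
  rw [e]
  have hcent : ∀ a ∈ A, ⁅a, x⁆ ∈ centralizer (closure ((A : Set S) ∪ {x}) : Set S) := fun a ha => by
    rw [centralizer_closure, mem_centralizer_iff]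
    rintro y (hy | rfl)
    · exact mem_centralizer_iff.mp (h a ha).1 y hy
    · exact (h a ha).2
  refine class_two_of_generators ?_
  rintro u (hu | rfl) v (hv | rfl)
  · rw [commutatorElement_eq_one_iff_mul_comm.mpr (congrArg Subtype.val (mul_comm' (⟨u, hu⟩ : A) ⟨v, hv⟩))]
    exact one_mem _
  · exact hcent u hu
  · rw [← commutatorElement_inv v u]
    exact inv_mem (hcent v hv)
  · rw [commutatorElement_self]
    exact one_mem _

theorem le_centralizer_of_normal [Group.IsNilpotent S] {A : Subgroup S} (hA : A ∈ Cfsg.dStarFamily S)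
    {W : Subgroup S} (hW : W.Normal) (hWc : IsMulCommutative W) : A ≤ centralizer (W : Set S) := by
  haveI := hA.1
  obtain ⟨n, hn⟩ : ∃ n, Subgroup.upperCentralSeries S n = ⊤ := Group.IsNilpotent.nilpotent S
  suffices key : ∀ i : ℕ, ∀ w ∈ W, w ∈ Subgroup.upperCentralSeries S i → ∀ a ∈ A, a * w = w * a by
    exact fun a ha => mem_centralizer_iff.mpr fun w hw => (key n w hw (hn ▸ mem_top w) a ha).symm
  intro i
  induction i with
  | zero =>
    intro w _ hw a _
    rw [Subgroup.upperCentralSeries_zero, mem_bot] at hw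
    simp [hw]
  | succ i ih =>
    intro w hwW hw a ha
    refine hA.2 w (class_two_sup_zpowers fun b hb => ?_) a ha
    have h1 : ⁅b, w⁆ ∈ W := by
      rw [commutatorElement_def]
      exact W.mul_mem (hW.conj_mem w hwW b) (W.inv_mem hwW)
    have h2 : ⁅b, w⁆ ∈ Subgroup.upperCentralSeries S i := by
      rw [← commutatorElement_inv w b]
      exact inv_mem (Subgroup.mem_upperCentralSeries_succ_iff.mp hw b)
    exact ⟨mem_centralizer_iff.mpr fun a' ha' => ih _ h1 h2 a' ha',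
      congrArg Subtype.val (mul_comm' (⟨w, hwW⟩ : W) ⟨_, h1⟩)⟩

theorem map_mem_family (f : S ≃* S) {A : Subgroup S} (hA : A ∈ Cfsg.dStarFamily S) :
    A.map f.toMonoidHom ∈ Cfsg.dStarFamily S := by
  haveI := hA.1
  refine ⟨Subgroup.map_isMulCommutative A _, fun x hx => ?_⟩
  rintro _ ⟨a, ha, rfl⟩
  have hx' : ⁅⁅A ⊔ zpowers (f.symm x), A ⊔ zpowers (f.symm x)⁆, A ⊔ zpowers (f.symm x)⁆ = ⊥ := by
    rw [← map_eq_bot_iff_of_injective (f := f.toMonoidHom) _ f.injective, map_commutator, map_commutator, Subgroup.map_sup,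
      MonoidHom.map_zpowers]
    simpa using hx
  have := congrArg f (hA.2 _ hx' a ha)
  simpa using this

instance dStar_normal : (Cfsg.dStar S).Normal := by
  refine ⟨fun d hd g => ?_⟩
  have h : (Cfsg.dStar S).map (MulAut.conj g).toMonoidHom ≤ Cfsg.dStar S :=
    map_le_iff_le_comap.mpr (sSup_le fun A hA => map_le_iff_le_comap.mp (le_sSup (map_mem_family (MulAut.conj g) hA)))
  exact h ⟨d, hd, rfl⟩

theorem exists_maxNormalAbelian [Finite S] : ∃ W : Subgroup S, W.Normal ∧ IsMulCommutative W ∧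
    ∀ B : Subgroup S, B.Normal → IsMulCommutative B → W ≤ B → B = W := by
  obtain ⟨W, ⟨h1, h2⟩, hmax⟩ := Set.exists_max_image {W : Subgroup S | W.Normal ∧ IsMulCommutative W}
    (fun W => Nat.card W) (Set.toFinite _) ⟨⊥, inferInstance, ⟨⟨fun a b => Subsingleton.elim _ _⟩⟩⟩
  exact ⟨W, h1, h2, fun B hB hBc hle => (eq_of_le_of_card_ge hle (hmax B ⟨hB, hBc⟩)).symm⟩

/-- a maximal normal abelian subgroup of a `p`-group is self-centralizing -/
theorem centralizer_le_of_max [Finite S] {p : ℕ} [Fact p.Prime] (hS : IsPGroup p S) {W : Subgroup S} (hW : W.Normal)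
    (hWc : IsMulCommutative W) (hmax : ∀ B : Subgroup S, B.Normal → IsMulCommutative B → W ≤ B → B = W) :
    centralizer (W : Set S) ≤ W := by
  haveI := hW
  by_contra hnot
  set C := centralizer (W : Set S)
  have hWC : W ≤ C := fun a ha => mem_centralizer_iff.mpr fun b hb =>
    congrArg Subtype.val (mul_comm' (⟨b, hb⟩ : W) ⟨a, ha⟩)
  let π := QuotientGroup.mk' W
  haveI : (C.map π).Normal := (inferInstance : C.Normal).map π (QuotientGroup.mk'_surjective W)
  have hne : C.map π ≠ ⊥ := fun h0 => hnot fun c hc => by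
    have h1 : π c = 1 := mem_bot.mp (h0 ▸ mem_map_of_mem π hc)
    exact (QuotientGroup.eq_one_iff c).mp h1
  obtain ⟨z, hz, hz1, hzc⟩ : ∃ z ∈ C.map π, z ≠ 1 ∧ z ∈ Subgroup.center (S ⧸ W) := by
    obtain ⟨z, hzN, hzZ, hz⟩ := Cfsg.Lib.PGroups.exists_mem_center_of_normal_ne_bot (hS.to_quotient W) hne
    exact ⟨z, hzN, fun h1 => by subst h1; simp [orderOf_one, (Fact.out : p.Prime).ne_one, eq_comm] at hz, hzZ⟩
  obtain ⟨c, hc, rfl⟩ := hz
  have hcW : c ∉ W := fun h => hz1 ((QuotientGroup.eq_one_iff c).mpr h)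
  have hn : (W ⊔ zpowers c).Normal := by
    have h1 : ((zpowers (π c)).comap π).Normal := by
      haveI : (zpowers (π c)).Normal := ⟨fun x hx g => by
        obtain ⟨k, rfl⟩ := hx
        have := mem_center_iff.mp (zpow_mem hzc k) g
        show g * π c ^ k * g⁻¹ ∈ _
        rw [this, mul_inv_cancel_right]
        exact ⟨k, rfl⟩⟩
      infer_instance
    rwa [← MonoidHom.map_zpowers, comap_map_eq, QuotientGroup.ker_mk', sup_comm] at h1
  have hab : IsMulCommutative ↥(W ⊔ zpowers c) := by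
    rw [← closure_eq W, zpowers_eq_closure, ← Subgroup.closure_union]
    refine Subgroup.isMulCommutative_closure ?_
    rintro u (hu | rfl) v (hv | rfl)
    · exact congrArg Subtype.val (mul_comm' (⟨u, hu⟩ : W) ⟨v, hv⟩)
    · exact mem_centralizer_iff.mp hc u hu
    · exact (mem_centralizer_iff.mp hc v hv).symm
    · rfl
  exact hcW ((hmax _ hn hab le_sup_left).le (mem_sup_right (mem_zpowers c)))

theorem le_maxNormalAbelian [Finite S] {p : ℕ} [Fact p.Prime] (hS : IsPGroup p S) {W : Subgroup S} (hW : W.Normal)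
    (hWc : IsMulCommutative W) (hmax : ∀ B : Subgroup S, B.Normal → IsMulCommutative B → W ≤ B → B = W) :
    Cfsg.dStar S ≤ W := by
  haveI := hS.isNilpotent
  exact sSup_le fun A hA => (le_centralizer_of_normal hA hW hWc).trans (centralizer_le_of_max hS hW hWc hmax)

theorem dStar_mem [Finite S] {p : ℕ} [Fact p.Prime] (hS : IsPGroup p S) : Cfsg.dStar S ∈ Cfsg.dStarFamily S := by
  obtain ⟨W, hW, hWc, hmax⟩ := exists_maxNormalAbelian (S := S)
  refine ⟨⟨⟨fun a b => Subtype.ext ?_⟩⟩, fun x hx a ha => ?_⟩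
  · show (a : S) * b = b * a
    exact congrArg Subtype.val (mul_comm' (⟨a, le_maxNormalAbelian hS hW hWc hmax a.2⟩ : W)
      ⟨b, le_maxNormalAbelian hS hW hWc hmax b.2⟩)
  suffices h : Cfsg.dStar S ≤ centralizer ({x} : Set S) from (mem_centralizer_singleton_iff.mp (h ha))
  exact sSup_le fun A hA a ha => mem_centralizer_singleton_iff.mpr
    (hA.2 x (class_two_mono (sup_le_sup_right (le_sSup hA) _) hx) a ha)

theorem le_maxAbelian [Finite S] {p : ℕ} [Fact p.Prime] (hS : IsPGroup p S) {A : Subgroup S}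
    (hA : A ∈ Cfsg.maxAbelianSubgroups S) : Cfsg.dStar S ≤ A := by
  have hD := dStar_mem hS
  haveI := hD.1
  by_contra hnot
  have hder : ⁅Cfsg.dStar S, Cfsg.dStar S⁆ = ⊥ := by
    rw [commutator_eq_bot_iff_le_centralizer]
    exact fun a ha => mem_centralizer_iff.mpr fun b hb =>
      congrArg Subtype.val (mul_comm' (⟨b, hb⟩ : Cfsg.dStar S) ⟨a, ha⟩)
  obtain ⟨A', hA', -, hnle, hN⟩ := Cfsg.Lib.Fusion.exists_maxAb_normalized_gen (p := p) (T := ⊤) (D := ⊤)
    (B := Cfsg.dStar S) (Or.inr hD.1) (hS.of_equiv Subgroup.topEquiv.symm) le_top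
    (by rw [normalizer_eq_top (Cfsg.dStar S)]) le_rfl le_normalizer
    ⟨A, ⟨le_top, hA.1, fun B _ hB => hA.2 B hB⟩, hder.le.trans bot_le, hnot⟩
  haveI := hA'.2.1
  have hcent : ∀ x ∈ A', ∀ d ∈ Cfsg.dStar S, d * x = x * d := by
    intro x hx d hd
    refine hD.2 x (class_two_sup_zpowers fun a ha => ?_) d hd
    have h1 : ⁅a, x⁆ ∈ Cfsg.dStar S := by
      rw [commutatorElement_def, mul_assoc a x, mul_assoc a]
      exact (Cfsg.dStar S).mul_mem ha (dStar_normal.conj_mem _ (inv_mem ha) x)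
    have h2 : ⁅a, x⁆ ∈ A' := by
      rw [commutatorElement_def]
      exact A'.mul_mem ((mem_normalizer_iff.mp (hN ha) x).mp hx) (A'.inv_mem hx)
    exact ⟨mem_centralizer_iff.mpr fun a' ha' =>
      congrArg Subtype.val (mul_comm' (⟨a', ha'⟩ : Cfsg.dStar S) ⟨_, h1⟩),
      congrArg Subtype.val (mul_comm' (⟨x, hx⟩ : A') ⟨_, h2⟩)⟩
  have hc : IsMulCommutative ↥(A' ⊔ Cfsg.dStar S) := by
    rw [← closure_eq A', ← closure_eq (Cfsg.dStar S), ← Subgroup.closure_union]
    refine Subgroup.isMulCommutative_closure ?_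
    rintro u (hu | hu) v (hv | hv)
    · exact congrArg Subtype.val (mul_comm' (⟨u, hu⟩ : A') ⟨v, hv⟩)
    · exact (hcent u hu v hv).symm
    · exact hcent v hv u hu
    · exact congrArg Subtype.val (mul_comm' (⟨u, hu⟩ : Cfsg.dStar S) ⟨v, hv⟩)
  exact hnle (le_sup_right.trans (eq_of_le_of_card_ge (le_sup_left : A' ≤ _) (hA'.2.2 _ le_top hc)).ge)

theorem le_centerThompson [Finite S] {p : ℕ} [Fact p.Prime] (hS : IsPGroup p S) :
    Cfsg.dStar S ≤ Cfsg.thompsonSubgroupA S ⊓ centralizer (Cfsg.thompsonSubgroupA S : Set S) := by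
  obtain ⟨A, hA, hm⟩ := Set.exists_max_image {A : Subgroup S | IsMulCommutative A} (fun A => Nat.card A)
    (Set.toFinite _) ⟨⊥, ⟨⟨fun a b => Subsingleton.elim _ _⟩⟩⟩
  refine le_inf ((le_maxAbelian hS ⟨hA, fun B hB => hm B hB⟩).trans (le_sSup ⟨hA, fun B hB => hm B hB⟩)) ?_
  refine le_centralizer_iff.mp (sSup_le fun A' hA' => le_centralizer_iff.mp fun d hd => mem_centralizer_iff.mpr fun a ha => ?_)
  haveI := hA'.1
  exact congrArg Subtype.val (mul_comm' (⟨a, ha⟩ : A') ⟨d, le_maxAbelian hS hA' hd⟩)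

end Cfsg.Lib.DStar

namespace Cfsg.Lib.DStar

open Subgroup
open scoped commutatorElement

variable {G : Type*} [Group G] [Finite G] {p : ℕ} [Fact p.Prime]

theorem mem_dStarOf {T : Subgroup G} {x : G} (hx : x ∈ T) :
    x ∈ Cfsg.dStarOf T ↔ (⟨x, hx⟩ : T) ∈ Cfsg.dStar T :=
  ⟨fun ⟨_, hy, e⟩ => (Subtype.ext e : _ = (⟨x, hx⟩ : T)) ▸ hy, fun h => ⟨⟨x, hx⟩, h, rfl⟩⟩

/-- a member of the family, seen in the group -/
theorem dStarOf_spec (S : Sylow p G) {x : G} (hx : x ∈ (S : Subgroup G))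
    (h : ⁅⁅Cfsg.dStarOf (S : Subgroup G) ⊔ zpowers x, Cfsg.dStarOf (S : Subgroup G) ⊔ zpowers x⁆,
      Cfsg.dStarOf (S : Subgroup G) ⊔ zpowers x⁆ = ⊥) :
    ∀ a ∈ Cfsg.dStarOf (S : Subgroup G), a * x = x * a := by
  rintro _ ⟨a, ha, rfl⟩
  have h' := (dStar_mem (S := (S : Subgroup G)) S.2).2 ⟨x, hx⟩ (by
    rw [← map_eq_bot_iff_of_injective (f := (S : Subgroup G).subtype) _ (Subgroup.subtype_injective _), map_commutator,
      map_commutator, Subgroup.map_sup, MonoidHom.map_zpowers]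
    exact h) a ha
  exact congrArg Subtype.val h'

/-- the `D*` theorem -/
theorem dStarOf_normal (hc : centralizer (Cfsg.pCore p G : Set G) ≤ Cfsg.pCore p G)
    (hst : ∀ (P : Subgroup G) [P.Normal], IsPGroup p P → Cfsg.IsPStableOn p P) (S : Sylow p G) :
    (Cfsg.dStarOf (S : Subgroup G)).Normal := by
  set T := (S : Subgroup G)
  set A := Cfsg.dStarOf T
  set Q := Cfsg.pCore p G
  have hQp : IsPGroup p Q := Cfsg.Lib.Components.isPGroup_pCore p
  have hQT : Q ≤ T := Cfsg.Lib.Thompson.le_sylow_of_normal hQp S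
  have hAT : A ≤ T := map_subtype_le _
  have hTA : T ≤ normalizer (A : Set G) := by
    intro t ht
    rw [← Cfsg.Lib.Transfer.map_conj_eq_self_iff]
    refine eq_of_le_of_card_ge ?_ (Cfsg.Lib.Transfer.card_map_conj A t).ge
    rintro _ ⟨_, ⟨a, ha, rfl⟩, rfl⟩
    exact ⟨⟨t, ht⟩ * a * ⟨t, ht⟩⁻¹, dStar_normal.conj_mem a ha _, rfl⟩
  have hAc : ∀ a ∈ A, ∀ b ∈ A, a * b = b * a := by
    rintro _ ⟨a, ha, rfl⟩ _ ⟨b, hb, rfl⟩
    haveI := (dStar_mem (S := T) S.2).1
    exact congrArg (fun z : Cfsg.dStar T => ((z : T) : G)) (mul_comm' (⟨a, ha⟩ : Cfsg.dStar T) ⟨b, hb⟩)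
  haveI : IsMulCommutative A := ⟨⟨fun a b => Subtype.ext (hAc a a.2 b b.2)⟩⟩
  have hAQ : A ≤ Q := by
    intro a ha
    have hq : ⁅⁅Q, zpowers a⁆, zpowers a⁆ = ⊥ := Cfsg.Lib.ZJ.quadratic_of_normalizes (hQT.trans hTA) ha
    have h1 := hst Q hQp a hq
    let C := centralizer (Q : Set G)
    let π := QuotientGroup.mk' C
    have h2 : a ∈ (Cfsg.pCore p (G ⧸ C)).comap π := h1
    have h3 : IsPGroup p ↥((Cfsg.pCore p (G ⧸ C)).comap π) :=
      (Cfsg.Lib.Components.isPGroup_pCore p).comap_of_ker_isPGroup π (by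
        rw [QuotientGroup.ker_mk']; exact hQp.to_le hc)
    exact Cfsg.Lib.Components.le_pCore h3 h2
  -- the normal closure
  set B := normalClosure (A : Set G)
  have hBQ : B ≤ Q := normalClosure_le_normal hAQ
  have hfam : ∀ g : G, ∀ hg : A.map (MulAut.conj g).toMonoidHom ≤ Q,
      (A.map (MulAut.conj g).toMonoidHom).subgroupOf Q ∈ Cfsg.dStarFamily Q := by
    intro g hg
    refine ⟨⟨⟨fun u v => Subtype.ext (Subtype.ext ?_)⟩⟩, fun x hx a ha => ?_⟩
    · obtain ⟨u', hu', eu⟩ := u.2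
      obtain ⟨v', hv', ev⟩ := v.2
      show ((u : Q) : G) * ((v : Q) : G) = ((v : Q) : G) * ((u : Q) : G)
      rw [show ((u : Q) : G) = g * u' * g⁻¹ from eu.symm, show ((v : Q) : G) = g * v' * g⁻¹ from ev.symm]
      calc g * u' * g⁻¹ * (g * v' * g⁻¹) = g * (u' * v') * g⁻¹ := by group
        _ = g * (v' * u') * g⁻¹ := by rw [hAc u' hu' v' hv']
        _ = _ := by group
    · have hxQ : g⁻¹ * (x : G) * g ∈ Q := by
        simpa using (inferInstance : Q.Normal).conj_mem _ x.2 g⁻¹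
      obtain ⟨a', ha', ea⟩ := ha
      have hx' : ⁅⁅A.map (MulAut.conj g).toMonoidHom ⊔ zpowers (x : G), A.map (MulAut.conj g).toMonoidHom ⊔ zpowers (x : G)⁆,
          A.map (MulAut.conj g).toMonoidHom ⊔ zpowers (x : G)⁆ = ⊥ := by
        have h := congrArg (Subgroup.map Q.subtype) hx
        rwa [map_commutator, map_commutator, Subgroup.map_sup, MonoidHom.map_zpowers, Subgroup.map_bot,
          map_subgroupOf_eq_of_le hg] at h
      have h := dStarOf_spec S (hQT hxQ) (by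
        rw [← map_eq_bot_iff_of_injective (f := (MulAut.conj g).toMonoidHom) _ (MulAut.conj g).injective,
          map_commutator, map_commutator, Subgroup.map_sup, MonoidHom.map_zpowers,
          show (MulAut.conj g).toMonoidHom (g⁻¹ * (x : G) * g) = x by simp [mul_assoc]]
        exact hx') a' ha'
      refine Subtype.ext ?_
      show (a : G) * x = x * a
      rw [show (a : G) = g * a' * g⁻¹ from ea.symm]
      calc g * a' * g⁻¹ * x = g * (a' * (g⁻¹ * x * g)) * g⁻¹ := by group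
        _ = g * (g⁻¹ * x * g * a') * g⁻¹ := by rw [h]
        _ = _ := by group
  have hBD : B ≤ Cfsg.dStarOf Q := (closure_le _).mpr fun y hy => by
    obtain ⟨a, ha, hay⟩ := Group.mem_conjugatesOfSet_iff.mp hy
    obtain ⟨g, rfl⟩ := isConj_iff.mp hay
    have hle : A.map (MulAut.conj g).toMonoidHom ≤ Q := by
      rintro _ ⟨b, hb, rfl⟩
      exact (inferInstance : Q.Normal).conj_mem b (hAQ hb) g
    exact (mem_dStarOf (hle ⟨a, ha, rfl⟩)).mpr ((le_sSup (hfam g hle)) ⟨a, ha, rfl⟩)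
  have hBc : ∀ a ∈ B, ∀ b ∈ B, a * b = b * a := by
    intro a ha b hb
    obtain ⟨a', ha', rfl⟩ := hBD ha
    obtain ⟨b', hb', rfl⟩ := hBD hb
    haveI := (dStar_mem (S := Q) hQp).1
    exact congrArg (fun z : Cfsg.dStar Q => ((z : Q) : G)) (mul_comm' (⟨a', ha'⟩ : Cfsg.dStar Q) ⟨b', hb'⟩)
  haveI : IsMulCommutative B := ⟨⟨fun a b => Subtype.ext (hBc a a.2 b b.2)⟩⟩
  -- `B` lies in the family of `S`
  let C := centralizer (B : Set G)
  let π := QuotientGroup.mk' C
  let R := (Cfsg.pCore p (G ⧸ C)).comap π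
  haveI : R.Normal := inferInstanceAs ((Cfsg.pCore p (G ⧸ C)).comap π).Normal
  set K := T ⊓ R
  have hfr := Cfsg.Lib.ZJ.sup_normalizer_inf_eq_top R S
  have hCR : C ≤ R := fun c hc => by
    show π c ∈ Cfsg.pCore p (G ⧸ C)
    rw [show π c = 1 from (QuotientGroup.eq_one_iff c).mpr hc]; exact one_mem _
  have hRK : R ≤ C ⊔ K := by
    obtain ⟨n, hn⟩ := IsPGroup.iff_card.mp (Cfsg.Lib.Components.isPGroup_pCore p (G := G ⧸ C))
    refine relIndex_eq_one.mp (Nat.eq_one_of_dvd_coprimes (a := p ^ n) (b := K.relIndex R) ?_ ?_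
      (relIndex_dvd_of_le_left R le_sup_right))
    · refine Nat.Coprime.pow_left _ (((Fact.out : p.Prime).coprime_iff_not_dvd).mpr fun h => S.not_dvd_index ?_)
      rw [inf_relIndex_right] at h
      exact h.trans (Cfsg.Lib.Components.relIndex_dvd_index_of_normal_right (S : Subgroup G) R)
    · rw [← hn, ← map_comap_eq_self_of_surjective (QuotientGroup.mk'_surjective C) (Cfsg.pCore p (G ⧸ C)),
        ← relIndex_ker, QuotientGroup.ker_mk']
      exact relIndex_dvd_of_le_left R le_sup_left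
  have hmem : B.subgroupOf T ∈ Cfsg.dStarFamily T := by
    refine ⟨⟨⟨fun u v => Subtype.ext (Subtype.ext ?_)⟩⟩, fun x hx a ha => Subtype.ext ?_⟩
    · show ((u : T) : G) * ((v : T) : G) = ((v : T) : G) * ((u : T) : G)
      exact hBc _ u.2 _ v.2
    set M := B ⊔ zpowers (x : G)
    have hx' : ⁅⁅M, M⁆, M⁆ = ⊥ := by
      have h := congrArg (Subgroup.map T.subtype) hx
      rwa [map_commutator, map_commutator, Subgroup.map_sup, MonoidHom.map_zpowers, Subgroup.map_bot,
        map_subgroupOf_eq_of_le (hBQ.trans hQT)] at h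
    have hquad : ⁅⁅B, zpowers (x : G)⁆, zpowers (x : G)⁆ = ⊥ :=
      le_bot_iff.mp ((commutator_mono (commutator_mono le_sup_left le_sup_right) le_sup_right).trans hx'.le)
    have hxR : (x : G) ∈ R := hst B (hQp.to_le hBQ) (x : G) hquad
    suffices h : B ≤ centralizer ({(x : G)} : Set G) from mem_centralizer_singleton_iff.mp (h ha)
    refine (closure_le _).mpr fun y hy => ?_
    obtain ⟨b, hb, hby⟩ := Group.mem_conjugatesOfSet_iff.mp hy
    obtain ⟨g, rfl⟩ := isConj_iff.mp hby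
    obtain ⟨r, hr, n, hn, rfl⟩ : ∃ r ∈ C, ∃ n ∈ normalizer (K : Set G), r * n = g := by
      have h1 : g ∈ C ⊔ normalizer (K : Set G) :=
        (hfr.ge.trans (sup_le (hRK.trans (sup_le le_sup_left (le_normalizer.trans le_sup_right))) le_sup_right)) (mem_top g)
      exact mem_sup_of_normal_left.mp h1
    have hnB : n * b * n⁻¹ ∈ B :=
      normalClosure_normal.conj_mem _ (subset_normalClosure hb) n
    have e0 : r * n * b * (r * n)⁻¹ = n * b * n⁻¹ := by
      rw [show r * n * b * (r * n)⁻¹ = r * (n * b * n⁻¹) * r⁻¹ by group, ← mem_centralizer_iff.mp hr _ hnB,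
        mul_inv_cancel_right]
    show r * n * b * (r * n)⁻¹ ∈ centralizer ({(x : G)} : Set G)
    rw [e0, mem_centralizer_singleton_iff]
    have hxK : (x : G) ∈ K := ⟨x.2, hxR⟩
    have hcK : n⁻¹ * (x : G) * n ∈ K := by
      have h1 := (mem_normalizer_iff.mp (inv_mem hn) (x : G)).mp hxK
      rwa [inv_inv] at h1
    have h := dStarOf_spec S hcK.1 (by
      refine class_two_mono (sup_le_sup_right (le_normalClosure : A ≤ B) _) ?_
      rw [← map_eq_bot_iff_of_injective (f := (MulAut.conj n).toMonoidHom) _ (MulAut.conj n).injective,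
        map_commutator, map_commutator, Subgroup.map_sup, MonoidHom.map_zpowers,
        show (MulAut.conj n).toMonoidHom (n⁻¹ * (x : G) * n) = x by simp [mul_assoc],
        Cfsg.Lib.Transfer.map_conj_eq_self_iff.mpr (by rw [normalizer_eq_top B]; exact mem_top n)]
      exact hx') b hb
    calc n * b * n⁻¹ * x = n * (b * (n⁻¹ * x * n)) * n⁻¹ := by group
      _ = n * (n⁻¹ * x * n * b) * n⁻¹ := by rw [h]
      _ = _ := by group
  have hBA : B ≤ A := fun b hb =>
    (mem_dStarOf (hQT (hBQ hb))).mpr ((le_sSup hmem : B.subgroupOf T ≤ Cfsg.dStar T) hb)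
  rw [show A = B from le_antisymm le_normalClosure hBA]
  exact normalClosure_normal

end Cfsg.Lib.DStar
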